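import Cfsg.Agent.Coprime.Elementary
import Cfsg.Agent.Layer.PConstraint
import Cfsg.Prelude.Def_Balance
import Cfsg.Prelude.Def_ClassificationStages

/-!
# Signalizer functors on a connected rank graph

With the solvable signalizer functor theorem taken as a hypothesis: an equivariant balanced
functor on the elements whose centraliser has p-rank at least 3 is trivial when the rank 2 graph is
connected and O_{p'}(G) = 1.
-/

set_option autoImplicit false

open Subgroup Cfsg

namespace Cfsg.Agent.Signalizer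

universe u

variable {G : Type u} [Group G] [Finite G] {p : ℕ} [Fact p.Prime]

/-- The solvable signalizer functor theorem for G and p (order part). -/
def SFTOrder (p : ℕ) (G : Type u) [Group G] : Prop :=
  ∀ (A : Subgroup G) (θ : G → Subgroup G), IsElementaryAbelian p A → p ^ 3 ≤ Nat.card A →
    (∀ a ∈ A, a ≠ 1 → θ a ≤ centralizer {a}) → (∀ a ∈ A, a ≠ 1 → ¬ p ∣ Nat.card (θ a)) →
    (∀ a ∈ A, a ≠ 1 → ∀ b ∈ A, ∀ x ∈ θ a, b * x * b⁻¹ ∈ θ a) →
    (∀ a ∈ A, a ≠ 1 → Group.IsSolvable (θ a)) →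
    (∀ a ∈ A, a ≠ 1 → ∀ b ∈ A, b ≠ 1 → θ a ⊓ centralizer {b} ≤ θ b) →
    ¬ p ∣ Nat.card ↥(⨆ a : {a : G // a ∈ A ∧ a ≠ 1}, θ a)

/-- The elements carrying the functor. -/
abbrev Deep (p : ℕ) (a : G) : Prop :=
  orderOf a = p ∧ ¬ PRankLE p 2 ↥(centralizer ({a} : Set G))

/-- The subgroup generated by the values on E. -/
def valueSup (θ : G → Subgroup G) (E : Subgroup G) : Subgroup G :=
  ⨆ a : {a : G // a ∈ E ∧ a ≠ 1}, θ a

omit [Fact p.Prime] in
theorem pRankLE_mono {H K : Subgroup G} (h : H ≤ K) {k : ℕ} (hK : PRankLE p k ↥K) :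
    PRankLE p k ↥H := by
  intro A hA hexp
  have := hA
  have hcard := Subgroup.card_map_of_injective (K := A) (Subgroup.inclusion_injective h)
  rw [← hcard]
  refine hK _ ⟨⟨?_⟩⟩ ?_
  · rintro ⟨_, x, hx, rfl⟩ ⟨_, y, hy, rfl⟩
    apply Subtype.ext
    simp only [Subgroup.coe_mul]
    rw [← map_mul, ← map_mul, show x * y = y * x from
      congrArg Subtype.val (hA.is_comm.comm ⟨x, hx⟩ ⟨y, hy⟩)]
  · rintro _ ⟨x, hx, rfl⟩
    rw [← map_pow, hexp x hx, map_one]

theorem deep_of_mem {E : Subgroup G} (hE : IsRankGraphVertex p 2 E) {e : G} (he : e ∈ E)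
    (he1 : e ≠ 1) : Deep p e :=
  ⟨orderOf_eq_prime (hE.1.2 e he) he1, fun h => hE.2.2
    (pRankLE_mono (centralizer_le (Set.singleton_subset_iff.mpr he)) h)⟩

omit [Finite G] [Fact p.Prime] in
theorem vertex_of_big {E : Subgroup G} (hE : IsElementaryAbelian p E) (hp : 0 < p)
    (h3 : p ^ 3 ≤ Nat.card E) (hp1 : 1 < p) : IsRankGraphVertex p 2 E := by
  refine ⟨hE, (Nat.pow_le_pow_right hp (by norm_num)).trans h3, fun h => ?_⟩
  have hle : E ≤ centralizer (E : Set G) := Coprime.ea_le_centralizer hE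
  have h2 := h (E.subgroupOf (centralizer (E : Set G))) ⟨⟨fun x y => by
    apply Subtype.ext; apply Subtype.ext
    exact Coprime.ea_comm hE x.2 y.2⟩⟩ fun a ha => Subtype.ext (hE.2 _ ha)
  rw [Nat.card_congr (subgroupOfEquivOfLe hle).toEquiv] at h2
  have := h3.trans h2
  rw [Nat.pow_le_pow_iff_right hp1] at this
  omega

theorem exists_big {H : Subgroup G} (h : ¬ PRankLE p 2 ↥H) :
    ∃ E ≤ H, IsElementaryAbelian p E ∧ p ^ 3 ≤ Nat.card E := by
  simp only [PRankLE, not_forall, not_le] at h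
  obtain ⟨A, hA, hexp, hbig⟩ := h
  have hea : IsElementaryAbelian p A := ⟨hA, hexp⟩
  obtain ⟨n, hn⟩ := Coprime.ea_card hea
  rw [hn, Nat.pow_lt_pow_iff_right (Fact.out : p.Prime).one_lt] at hbig
  refine ⟨A.map H.subtype, map_subtype_le A, ⟨⟨⟨?_⟩⟩, ?_⟩, ?_⟩
  · rintro ⟨_, x, hx, rfl⟩ ⟨_, y, hy, rfl⟩
    apply Subtype.ext
    simp only [Subgroup.coe_mul]
    rw [← map_mul, ← map_mul, Coprime.ea_comm hea hx hy]
  · rintro _ ⟨x, hx, rfl⟩
    rw [← map_pow, hexp x hx, map_one]
  · rw [Subgroup.card_map_of_injective H.subtype_injective, hn]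
    exact Nat.pow_le_pow_right (Fact.out : p.Prime).pos hbig

/-- An element with centraliser of rank at least 3 lies in a large elementary abelian subgroup. -/
theorem exists_big_containing {a : G} (ha : Deep p a) :
    ∃ E, a ∈ E ∧ IsElementaryAbelian p E ∧ p ^ 3 ≤ Nat.card E := by
  obtain ⟨B, hBC, hB, hB3⟩ := exists_big ha.2
  have hac : ∀ b ∈ B, a * b = b * a := fun b hb =>
    (mem_centralizer_iff.mp (hBC hb) a rfl)
  refine ⟨B ⊔ zpowers a, mem_sup_right (mem_zpowers a), ⟨⟨⟨?_⟩⟩, ?_⟩,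
    hB3.trans (Nat.le_of_dvd Nat.card_pos (card_dvd_of_le le_sup_left))⟩
  all_goals rw [← closure_eq B, zpowers_eq_closure, ← Subgroup.closure_union]
  · have hc : IsMulCommutative ↥(closure ((B : Set G) ∪ {a})) := by
      refine Subgroup.isMulCommutative_closure ?_
      rintro x (hx | hx) y (hy | hy)
      exacts [Coprime.ea_comm hB hx hy, by rw [Set.mem_singleton_iff.mp hy]; exact (hac x hx).symm,
        by rw [Set.mem_singleton_iff.mp hx]; exact hac y hy,
        by rw [Set.mem_singleton_iff.mp hx, Set.mem_singleton_iff.mp hy]]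
    exact hc.is_comm.comm
  · intro x hx
    have hc : IsMulCommutative ↥(closure ((B : Set G) ∪ {a})) := by
      refine Subgroup.isMulCommutative_closure ?_
      rintro x (hx | hx) y (hy | hy)
      exacts [Coprime.ea_comm hB hx hy, by rw [Set.mem_singleton_iff.mp hy]; exact (hac x hx).symm,
        by rw [Set.mem_singleton_iff.mp hx]; exact hac y hy,
        by rw [Set.mem_singleton_iff.mp hx, Set.mem_singleton_iff.mp hy]]
    induction hx using closure_induction with
    | mem x hx =>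
      rcases hx with hx | rfl
      · exact hB.2 x hx
      · rw [← ha.1]; exact pow_orderOf_eq_one _
    | one => exact one_pow p
    | mul x y hx hy ihx ihy =>
      have : Commute x y := congrArg Subtype.val (hc.is_comm.comm ⟨x, hx⟩ ⟨y, hy⟩)
      rw [this.mul_pow, ihx, ihy, one_mul]
    | inv x _ ih => rw [inv_pow, ih, inv_one]

theorem functor_trivial (hsft : SFTOrder p G) (hO : pPrimeCore p G = ⊥) (hrk : ¬ PRankLE p 2 G)
    (hconn : IsRankGraphConnected p 2 G) (θ : G → Subgroup G)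
    (hC : ∀ a : G, Deep p a →
      θ a ≤ centralizer ({a} : Set G) ∧ ¬ p ∣ Nat.card ↥(θ a) ∧ Group.IsSolvable ↥(θ a))
    (heq : ∀ a g : G, Deep p a → θ (g * a * g⁻¹) = (θ a).map (MulAut.conj g).toMonoidHom)
    (hbal : ∀ a b : G, Deep p a → Deep p b → a * b = b * a → θ a ⊓ centralizer {b} ≤ θ b)
    {a : G} (ha : Deep p a) : θ a = ⊥ := by
  have hp : p.Prime := Fact.out
  have hnorm : ∀ {e f : G}, Deep p e → f * e = e * f → ∀ x ∈ θ e, f * x * f⁻¹ ∈ θ e := by
    intro e f he hfe x hx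
    have h := heq e f he
    rw [hfe, mul_inv_cancel_right] at h
    rw [h]
    exact ⟨x, hx, rfl⟩
  -- adjacent vertices have the same join
  have hstep : ∀ E F : Subgroup G, IsRankGraphVertex p 2 E → IsRankGraphVertex p 2 F →
      (∀ x ∈ E, ∀ y ∈ F, x * y = y * x) → valueSup θ E ≤ valueSup θ F := by
    intro E F hE hF hEF
    refine iSup_le fun e => ?_
    have he := deep_of_mem hE e.2.1 e.2.2
    refine Coprime.ea_le_of_centralizers_le hF.1 hF.2.1 (hC _ he).2.1
      (le_normalizer_iff.mpr fun f hf x hx => hnorm he (hEF _ e.2.1 f hf).symm x hx)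
      fun f hf hf1 => ?_
    exact (hbal _ f he (deep_of_mem hF hf hf1) (hEF _ e.2.1 f hf)).trans
      (le_iSup (fun a : {a : G // a ∈ F ∧ a ≠ 1} => θ a) ⟨f, hf, hf1⟩)
  have hsame : ∀ E F : Subgroup G, IsRankGraphVertex p 2 E → IsRankGraphVertex p 2 F →
      valueSup θ E = valueSup θ F := by
    intro E F hE hF
    induction hconn E F hE hF with
    | refl => rfl
    | @tail B C _ hBC ih =>
      exact (ih hBC.1).trans (le_antisymm (hstep B C hBC.1 hBC.2.1 hBC.2.2)
        (hstep C B hBC.2.1 hBC.1 fun x hx y hy => (hBC.2.2 y hy x hx).symm))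
  obtain ⟨A, hA, hA3⟩ : ∃ A : Subgroup G, IsElementaryAbelian p A ∧ p ^ 3 ≤ Nat.card A := by
    simp only [PRankLE, not_forall, not_le] at hrk
    obtain ⟨A, hA, hexp, hbig⟩ := hrk
    have hea : IsElementaryAbelian p A := ⟨hA, hexp⟩
    obtain ⟨n, hn⟩ := Coprime.ea_card hea
    rw [hn, Nat.pow_lt_pow_iff_right hp.one_lt] at hbig
    exact ⟨A, hea, hn ▸ Nat.pow_le_pow_right hp.pos hbig⟩
  have hAv := vertex_of_big hA hp.pos hA3 hp.one_lt
  have hdeep : ∀ e ∈ A, e ≠ 1 → Deep p e := fun e he he1 => deep_of_mem hAv he he1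
  set W := valueSup θ A with hW
  have hnormal : W.Normal := by
    refine ⟨fun x hx g => ?_⟩
    set B := A.map (MulAut.conj g).toMonoidHom
    have hB : IsElementaryAbelian p B := ⟨⟨⟨by
        rintro ⟨_, x, hx, rfl⟩ ⟨_, y, hy, rfl⟩
        apply Subtype.ext
        simp only [Subgroup.coe_mul]
        rw [← map_mul, ← map_mul, Coprime.ea_comm hA hx hy]⟩⟩, by
        rintro _ ⟨x, hx, rfl⟩; rw [← map_pow, hA.2 x hx, map_one]⟩
    have hBv := vertex_of_big hB hp.pos
      (by rwa [Subgroup.card_map_of_injective (MulAut.conj g).injective]) hp.one_lt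
    have hle : W.map (MulAut.conj g).toMonoidHom ≤ valueSup θ B := by
      rw [hW, valueSup, Subgroup.map_iSup]
      refine iSup_le fun e => ?_
      rw [← heq _ g (hdeep e e.2.1 e.2.2)]
      exact le_iSup (fun a : {a : G // a ∈ B ∧ a ≠ 1} => θ a)
        ⟨g * e * g⁻¹, ⟨e, e.2.1, rfl⟩, fun h => e.2.2 (conj_eq_one_iff.mp h)⟩
    rw [← hsame _ _ hAv hBv] at hle
    exact hle ⟨x, hx, rfl⟩
  have hp' : ¬ p ∣ Nat.card ↥W := hsft A θ hA hA3 (fun e he he1 => (hC e (hdeep e he he1)).1)
    (fun e he he1 => (hC e (hdeep e he he1)).2.1)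
    (fun e he he1 f hf x hx => hnorm (hdeep e he he1) (Coprime.ea_comm hA hf he) x hx)
    (fun e he he1 => (hC e (hdeep e he he1)).2.2)
    (fun e he he1 f hf hf1 => hbal e f (hdeep e he he1) (hdeep f hf hf1)
      (Coprime.ea_comm hA he hf))
  have hW1 : W = ⊥ := le_bot_iff.mp
    ((Core.le_pPrimeCore ((hp.coprime_iff_not_dvd.mpr hp').symm)).trans hO.le)
  obtain ⟨E, haE, hE, hE3⟩ := exists_big_containing ha
  have ha1 : a ≠ 1 := fun h => hp.one_lt.ne (by rw [← ha.1, h, orderOf_one])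
  rw [eq_bot_iff, ← hW1, hW, hsame _ _ hAv (vertex_of_big hE hp.pos hE3 hp.one_lt)]
  exact le_iSup (fun a : {a : G // a ∈ E ∧ a ≠ 1} => θ a) ⟨a, haE, ha1⟩

/-- In a p-constrained centraliser the p'-cores balance. -/
theorem core_balance {a b : G} (hab : a * b = b * a) (ha : orderOf a = p)
    (hc : IsPConstrained p ↥(centralizer ({b} : Set G))) :
    centralizerPPrimeCore p a ⊓ centralizer {b} ≤ centralizerPPrimeCore p b := by
  set C := centralizer ({b} : Set G) with hC
  have haC : a ∈ C := mem_centralizer_singleton_iff.mpr hab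
  set P : Subgroup ↥C := zpowers ⟨a, haC⟩ with hP
  have hPp : IsPGroup p P := IsPGroup.of_card (n := 1) (by
    rw [hP, Nat.card_zpowers, pow_one, ← ha, ← Subgroup.orderOf_coe])
  set K := centralizer (P : Set ↥C) with hK
  have hKa : ∀ x : ↥C, x ∈ K ↔ (x : G) ∈ centralizer ({a} : Set G) := by
    intro x
    rw [hK, hP, zpowers_eq_closure, centralizer_closure, mem_centralizer_singleton_iff,
      mem_centralizer_singleton_iff, Subtype.ext_iff]
    rfl
  set N : Subgroup ↥K := ((centralizerPPrimeCore p a).subgroupOf C).subgroupOf K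
  have hNn : N.Normal := by
    refine ⟨fun n hn g => ?_⟩
    obtain ⟨m, hm, hmn⟩ := hn
    refine ⟨⟨((g : ↥C) : G), (hKa g).mp g.2⟩ * m * ⟨((g : ↥C) : G), (hKa g).mp g.2⟩⁻¹,
      Core.pPrimeCore_normal.conj_mem m hm _, ?_⟩
    simp only [Subgroup.coe_subtype, Subgroup.coe_mul, Subgroup.coe_inv] at hmn ⊢
    rw [hmn]
  have hNc : (Nat.card N).Coprime p := by
    refine Nat.Coprime.coprime_dvd_left ?_
      (Core.coprime_card_pPrimeCore (p := p) (G := ↥(centralizer ({a} : Set G))))
    rw [← Subgroup.card_map_of_injective (K := pPrimeCore p ↥(centralizer ({a} : Set G)))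
      (centralizer ({a} : Set G)).subtype_injective,
      ← Subgroup.card_map_of_injective (K := N) K.subtype_injective,
      ← Subgroup.card_map_of_injective (K := N.map K.subtype) C.subtype_injective]
    refine Subgroup.card_dvd_of_le ?_
    rintro _ ⟨_, ⟨n, hn, rfl⟩, rfl⟩
    exact hn
  have hle := Layer.pPrimeCore_centralizer_le hc hPp
  rintro x ⟨hxθ, hxb⟩
  have hxC : x ∈ C := hxb
  have hxK : (⟨x, hxC⟩ : ↥C) ∈ K := (hKa _).mpr ((map_subtype_le _) hxθ)
  exact ⟨⟨x, hxC⟩, hle ⟨⟨⟨x, hxC⟩, hxK⟩, Core.le_pPrimeCore (hN := hNn) hNc hxθ, rfl⟩, rfl⟩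

omit [Finite G] [Fact p.Prime] in
theorem core_conj (a g : G) : centralizerPPrimeCore p (g * a * g⁻¹) =
    (centralizerPPrimeCore p a).map (MulAut.conj g).toMonoidHom := by
  set C := centralizer ({a} : Set G)
  have hmap : C.map (MulAut.conj g).toMonoidHom = centralizer ({g * a * g⁻¹} : Set G) := by
    ext x
    simp only [Subgroup.mem_map, C, mem_centralizer_singleton_iff]
    constructor
    · rintro ⟨y, hy, rfl⟩
      show g * y * g⁻¹ * (g * a * g⁻¹) = g * a * g⁻¹ * (g * y * g⁻¹)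
      calc g * y * g⁻¹ * (g * a * g⁻¹) = g * (y * a) * g⁻¹ := by group
        _ = _ := by rw [hy]; group
    · intro hx
      refine ⟨g⁻¹ * x * g, ?_, by show g * (g⁻¹ * x * g) * g⁻¹ = x; group⟩
      calc g⁻¹ * x * g * a = g⁻¹ * (x * (g * a * g⁻¹)) * g := by group
        _ = _ := by rw [hx]; group
  let e : ↥C ≃* ↥(centralizer ({g * a * g⁻¹} : Set G)) :=
    ((C.equivMapOfInjective (MulAut.conj g).toMonoidHom (MulAut.conj g).injective).trans
      (MulEquiv.subgroupCongr hmap))
  unfold centralizerPPrimeCore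
  rw [← Core.map_pPrimeCore e, Subgroup.map_map, Subgroup.map_map]
  rfl

theorem fstar_eq_pCore (hsft : SFTOrder p G) (hO : pPrimeCore p G = ⊥) (hrk : ¬ PRankLE p 2 G)
    (hconn : IsRankGraphConnected p 2 G)
    (hL : ∀ a : G, Deep p a → pLayer p ↥(centralizer ({a} : Set G)) = ⊥ ∧
      Group.IsSolvable ↥(centralizerPPrimeCore p a))
    (hcons : ∀ a : G, Deep p a → IsPConstrained p ↥(centralizer ({a} : Set G)))
    {a : G} (ha : Deep p a) :
    generalizedFittingSubgroup ↥(centralizer ({a} : Set G)) =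
      pCore p ↥(centralizer ({a} : Set G)) := by
  have hp : p.Prime := Fact.out
  have htriv : centralizerPPrimeCore p a = ⊥ := by
    refine functor_trivial hsft hO hrk hconn (centralizerPPrimeCore p)
      (fun b hb => ⟨map_subtype_le _, ?_, (hL b hb).2⟩) (fun b g _ => core_conj b g)
      (fun b c hb hc hbc => core_balance hbc hb.1 (hcons c hc)) ha
    unfold centralizerPPrimeCore
    rw [Subgroup.card_map_of_injective (centralizer ({b} : Set G)).subtype_injective]
    exact hp.coprime_iff_not_dvd.mp Core.coprime_card_pPrimeCore.symm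
  set C := centralizer ({a} : Set G)
  have hbot : pPrimeCore p ↥C = ⊥ := by
    unfold centralizerPPrimeCore at htriv
    rwa [Subgroup.map_eq_bot_iff_of_injective _ C.subtype_injective] at htriv
  rw [Layer.generalizedFitting_eq_pCore_iff]
  exact Layer.pCoreSelfCentral_congr
    ((QuotientGroup.quotientMulEquivOfEq hbot).trans QuotientGroup.quotientBot)
    (Layer.isPConstrained_iff_selfCentral.mp (hcons a ha))

end Cfsg.Agent.Signalizer
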