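import Cfsg.Agent.Signalizer.Family

/-!
Glauberman's transitivity theorem for the family of a solvable signalizer functor.
-/

set_option autoImplicit false

open Subgroup
open scoped Pointwise

namespace Cfsg.Agent.Signalizer

open Cfsg Cfsg.Agent.Coprime

universe u

variable {G : Type u} [Group G] [Finite G] {p : ℕ} {A : Subgroup G} {θ : G → Subgroup G}

/-- A member meeting `C(A)`: the fixed points lie in `θ(A)`. -/
theorem inf_centralizer_A_le {U : Subgroup G} (h : U ∈ signalizerFamily p A θ) :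
    U ⊓ centralizer (A : Set G) ≤ signalizerInf A θ :=
  inf_centralizer_le_signalizerInf h le_rfl

theorem signalizerInf_A_le_centralizer (hθ : IsSolvableSignalizerFunctor p A θ) :
    signalizerInf A θ ≤ centralizer (A : Set G) :=
  signalizerInf_le_centralizer hθ le_rfl

/-- `θ(A)` permutes the members. -/
theorem conj_mem (hθ : IsSolvableSignalizerFunctor p A θ) {U : Subgroup G}
    (hU : U ∈ signalizerFamily p A θ) {c : G} (hc : c ∈ signalizerInf A θ) :
    MulAut.conj c • U ∈ signalizerFamily p A θ := by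
  have hcA := signalizerInf_A_le_centralizer hθ hc
  refine mem_family_iff.mpr ⟨?_, ?_, ?_, ?_⟩
  · rw [conj_smul_eq_map]; exact isSolvable_map _ hU.1
  · rw [card_conj_smul]; exact hU.2.1
  · intro a ha
    apply mem_normalizer_of_conj_smul_eq
    rw [← conj_mul_smul, mem_centralizer_iff.mp hcA a ha, conj_mul_smul,
      conj_smul_eq_self_of_mem_normalizer (le_normalizer_of_mem hU ha)]
  · rintro a ha ha1 x ⟨hx, hxa⟩
    have hcθ : c ∈ θ a := signalizerInf_le ha ha1 hc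
    have hcC : c ∈ centralizer {a} := centralizer_le (Set.singleton_subset_iff.mpr ha) hcA
    have h1 : c⁻¹ * x * c ∈ θ a := inf_le_theta hU ha ha1
      ⟨mem_conj_smul.mp hx, Subgroup.mul_mem _ (Subgroup.mul_mem _ (inv_mem hcC) hxa) hcC⟩
    have := (θ a).mul_mem ((θ a).mul_mem hcθ h1) ((θ a).inv_mem hcθ)
    simpa [mul_assoc] using this

/-- A maximal `q`-member. -/
structure IsMaxQMember (p : ℕ) (A : Subgroup G) (θ : G → Subgroup G) (q : ℕ) (Q : Subgroup G) :
    Prop where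
  mem : Q ∈ signalizerFamily p A θ
  isPGroup : IsPGroup q Q
  max : ∀ R ∈ signalizerFamily p A θ, IsPGroup q R → Q ≤ R → R = Q

theorem exists_maxQMember_ge {q : ℕ} {U : Subgroup G} (hU : U ∈ signalizerFamily p A θ)
    (hUq : IsPGroup q U) : ∃ Q, IsMaxQMember p A θ q Q ∧ U ≤ Q := by
  obtain ⟨Q, ⟨hQ, hQq, hUQ⟩, hmax⟩ := wellFounded_gt.has_min
    {R : Subgroup G | R ∈ signalizerFamily p A θ ∧ IsPGroup q R ∧ U ≤ R} ⟨U, hU, hUq, le_rfl⟩
  exact ⟨Q, ⟨hQ, hQq, fun R hR hRq hle =>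
    (eq_of_le_of_not_lt hle fun hlt => hmax R ⟨hR, hRq, hUQ.trans hle⟩ hlt).symm⟩, hUQ⟩

theorem IsMaxQMember.conj (hθ : IsSolvableSignalizerFunctor p A θ) {q : ℕ} {Q : Subgroup G}
    (hQ : IsMaxQMember p A θ q Q) {c : G} (hc : c ∈ signalizerInf A θ) :
    IsMaxQMember p A θ q (MulAut.conj c • Q) := by
  refine ⟨conj_mem hθ hQ.mem hc, ?_, fun R hR hRq hle => ?_⟩
  · rw [conj_smul_eq_map]; exact hQ.isPGroup.map _
  · have h := hQ.max (MulAut.conj c⁻¹ • R) (conj_mem hθ hR ((signalizerInf A θ).inv_mem hc))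
      (by rw [conj_smul_eq_map]; exact hRq.map _) (by
        intro x hx
        rw [mem_conj_smul, inv_inv]
        exact hle (conj_mem_conj_smul hx))
    rw [← h, ← conj_mul_smul, mul_inv_cancel, map_one, one_smul]

/-- For `D` proper in a `q`-group `Q`, some hyperplane fixes an element of `N_Q(D) \ D`. -/
theorem exists_hyperplane_normalizer [Fact p.Prime] (hA : IsElementaryAbelian p A) (hA1 : A ≠ ⊥)
    {q : ℕ} [Fact q.Prime] {Q D : Subgroup G} (hQ : IsPGroup q Q) (hQp : ¬ p ∣ Nat.card Q)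
    (hAQ : A ≤ normalizer (Q : Set G)) (hAD : A ≤ normalizer (D : Set G)) (hD : D < Q) :
    ∃ B : Subgroup G, B ≤ A ∧ B.relIndex A = p ∧
      ¬ (normalizer (D : Set G) ⊓ Q ⊓ centralizer (B : Set G) ≤ D) := by
  set N := normalizer (D : Set G) ⊓ Q with hN
  have hlt : ¬ N ≤ D := by
    intro hle
    have := hQ.isNilpotent
    have hlt : D.subgroupOf Q < ⊤ :=
      lt_top_iff_ne_top.mpr fun h => hD.not_ge (subgroupOf_eq_top.mp h)
    obtain ⟨x, hx, hxD⟩ := SetLike.exists_of_lt (Group.normalizerCondition_of_isNilpotent _ hlt)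
    refine hxD (hle ⟨?_, x.2⟩)
    change (x : G) ∈ normalizer (D : Set G)
    rw [mem_normalizer_iff]
    intro v
    constructor
    · intro hv
      exact (mem_normalizer_iff.mp hx ⟨v, hD.le hv⟩).mp hv
    · intro hv
      have hvQ : v ∈ Q := by
        have := Q.mul_mem (Q.mul_mem (Q.inv_mem x.2) (hD.le hv)) x.2
        simpa [mul_assoc] using this
      exact (mem_normalizer_iff.mp hx ⟨v, hvQ⟩).mpr hv
  have hAN : A ≤ normalizer (N : Set G) :=
    le_normalizer_inf (hAD.trans Subgroup.le_normalizer) hAQ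
  by_contra hno
  push Not at hno
  have := hA.1
  refine hlt ?_
  rw [← iSup_cocyclic_centralizer_eq hAN
    (ea_coprime hA fun h => hQp (h.trans (card_dvd_of_le inf_le_right)))]
  refine iSup₂_le fun C hC => ?_
  obtain ⟨B, hBC, hB⟩ := ea_exists_hyperplane_le hA hA1 hC
  exact (inf_le_inf_left _ (centralizer_le hBC)).trans (hno B (hBC.trans hC.1) hB)

/-- Two proper extensions of `D` share a nonidentity element of `A` fixing new elements. -/
theorem exists_common_fixed [Fact p.Prime] (hA : IsElementaryAbelian p A)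
    (hA3 : p ^ 3 ≤ Nat.card A) {q : ℕ} [Fact q.Prime] {Q₁ Q₂ D : Subgroup G}
    (h₁ : IsPGroup q Q₁) (h₂ : IsPGroup q Q₂) (hp₁ : ¬ p ∣ Nat.card Q₁) (hp₂ : ¬ p ∣ Nat.card Q₂)
    (hA₁ : A ≤ normalizer (Q₁ : Set G)) (hA₂ : A ≤ normalizer (Q₂ : Set G))
    (hAD : A ≤ normalizer (D : Set G)) (hD₁ : D < Q₁) (hD₂ : D < Q₂) :
    ∃ a ∈ A, a ≠ 1 ∧ ¬ (normalizer (D : Set G) ⊓ Q₁ ⊓ centralizer {a} ≤ D) ∧
      ¬ (normalizer (D : Set G) ⊓ Q₂ ⊓ centralizer {a} ≤ D) := by
  have hA1 := ea_ne_bot (A := A) three_ne_zero hA3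
  obtain ⟨B₁, hB₁, hi₁, hn₁⟩ := exists_hyperplane_normalizer hA hA1 h₁ hp₁ hA₁ hAD hD₁
  obtain ⟨B₂, hB₂, hi₂, hn₂⟩ := exists_hyperplane_normalizer hA hA1 h₂ hp₂ hA₂ hAD hD₂
  have hne : B₁ ⊓ B₂ ≠ ⊥ := by
    intro h
    have h0 := card_mul_relIndex_of_le hB₂
    have h1 := card_mul_relIndex_of_le hB₁
    rw [hi₂] at h0
    rw [hi₁] at h1
    have h2 : Nat.card B₁ * Nat.card B₂ ≤ Nat.card A := by
      have hn : B₂ ≤ normalizer (B₁ : Set G) := fun b hb =>
        centralizer_le_normalizer _ (mem_centralizer_iff.mpr fun y hy =>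
          ea_comm hA (hB₁ hy) (hB₂ hb))
      rw [← card_sup_eq_mul hn h]
      exact Nat.le_of_dvd Nat.card_pos (card_dvd_of_le (sup_le hB₁ hB₂))
    have hp := (Fact.out : p.Prime).two_le
    have h4 : Nat.card B₁ * p * (Nat.card B₂ * p) ≤ Nat.card A * (p * p) := by
      calc Nat.card B₁ * p * (Nat.card B₂ * p) = Nat.card B₁ * Nat.card B₂ * (p * p) := by ring
        _ ≤ Nat.card A * (p * p) := Nat.mul_le_mul_right _ h2
    rw [h0, h1] at h4
    have h5 : Nat.card A ≤ p * p := Nat.le_of_mul_le_mul_left h4 Nat.card_pos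
    have h6 : p * p * p ≤ p * p := by
      calc p * p * p = p ^ 3 := by ring
        _ ≤ _ := hA3.trans h5
    nlinarith [Nat.mul_pos (show 0 < p by omega) (show 0 < p by omega)]
  obtain ⟨a, ha, ha1⟩ := ((B₁ ⊓ B₂).bot_or_exists_ne_one).resolve_left hne
  refine ⟨a, hB₁ ha.1, ha1, fun h => hn₁ ?_, fun h => hn₂ ?_⟩
  · exact (inf_le_inf_left _ (centralizer_le (Set.singleton_subset_iff.mpr ha.1))).trans h
  · exact (inf_le_inf_left _ (centralizer_le (Set.singleton_subset_iff.mpr ha.2))).trans h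

/-- The transitivity theorem. -/
theorem exists_conj_maxQMember [Fact p.Prime] (hA : IsElementaryAbelian p A)
    (hA3 : p ^ 3 ≤ Nat.card A) (hθ : IsSolvableSignalizerFunctor p A θ) {q : ℕ} [Fact q.Prime]
    {Q₁ Q₂ : Subgroup G} (h₁ : IsMaxQMember p A θ q Q₁) (h₂ : IsMaxQMember p A θ q Q₂) :
    ∃ c ∈ signalizerInf A θ, MulAut.conj c • Q₁ = Q₂ := by
  suffices h : ∀ n : ℕ, ∀ Q₁ Q₂ : Subgroup G, IsMaxQMember p A θ q Q₁ → IsMaxQMember p A θ q Q₂ →
      Nat.card G - Nat.card (Q₁ ⊓ Q₂ : Subgroup G) = n →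
      ∃ c ∈ signalizerInf A θ, MulAut.conj c • Q₁ = Q₂ by
    exact h _ Q₁ Q₂ h₁ h₂ rfl
  clear h₁ h₂ Q₁ Q₂
  intro n
  induction n using Nat.strong_induction_on with
  | _ n ih =>
  intro Q₁ Q₂ h₁ h₂ hn
  set D := Q₁ ⊓ Q₂ with hDdef
  by_cases hD₁ : D = Q₁
  · exact ⟨1, one_mem _, by
      rw [map_one, one_smul]
      exact (h₁.max Q₂ h₂.mem h₂.isPGroup (hD₁ ▸ inf_le_right)).symm⟩
  by_cases hD₂ : D = Q₂
  · exact ⟨1, one_mem _, by
      rw [map_one, one_smul]
      exact h₂.max Q₁ h₁.mem h₁.isPGroup (hD₂ ▸ inf_le_left)⟩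
  have hAD : A ≤ normalizer (D : Set G) :=
    le_normalizer_inf (le_normalizer_of_mem h₁.mem) (le_normalizer_of_mem h₂.mem)
  have hDmem : D ∈ signalizerFamily p A θ := mem_of_le h₁.mem inf_le_left hAD
  obtain ⟨a, ha, ha1, hn₁, hn₂⟩ := exists_common_fixed hA hA3 h₁.isPGroup h₂.isPGroup h₁.mem.2.1
    h₂.mem.2.1 (le_normalizer_of_mem h₁.mem) (le_normalizer_of_mem h₂.mem) hAD
    (lt_of_le_of_ne inf_le_left hD₁) (lt_of_le_of_ne inf_le_right hD₂)
  set H := θ a ⊓ normalizer (D : Set G) with hH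
  have hHmem : H ∈ signalizerFamily p A θ := mem_of_le (theta_mem hθ ha ha1) inf_le_left
    (le_normalizer_inf (le_normalizer_theta hθ ha ha1) (hAD.trans Subgroup.le_normalizer))
  set K := D ⊔ H with hK
  have hKmem : K ∈ signalizerFamily p A θ := sup_mem hA hDmem hHmem inf_le_right
  have hAK := le_normalizer_of_mem hKmem
  have hAs : Group.IsSolvable A := ea_isSolvable hA
  -- the two invariant `q`-subgroups above `D`
  have key : ∀ Q : Subgroup G, IsMaxQMember p A θ q Q → D ≤ Q →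
      ¬ (normalizer (D : Set G) ⊓ Q ⊓ centralizer {a} ≤ D) →
      ∃ (S : Sylow q K) (R : Subgroup G), A ≤ normalizer ((S : Subgroup K).map K.subtype : Set G) ∧
        IsMaxQMember p A θ q R ∧ (S : Subgroup K).map K.subtype ≤ R ∧
        D < (S : Subgroup K).map K.subtype ∧
        ∃ c ∈ signalizerInf A θ, MulAut.conj c • Q = R := by
    intro Q hQ hDQ hne
    set E := normalizer (D : Set G) ⊓ Q ⊓ centralizer {a} with hE
    have hEH : E ≤ H := le_inf ((inf_le_inf_right _ inf_le_right).trans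
      (inf_le_theta hQ.mem ha ha1)) (inf_le_left.trans inf_le_left)
    have hUQ : D ⊔ E ≤ Q := sup_le hDQ (inf_le_left.trans inf_le_right)
    have hUA : A ≤ normalizer ((D ⊔ E : Subgroup G) : Set G) :=
      le_normalizer_sup hAD (le_normalizer_inf (le_normalizer_inf (hAD.trans Subgroup.le_normalizer)
        (le_normalizer_of_mem hQ.mem))
        ((ea_le_centralizer_singleton hA ha).trans Subgroup.le_normalizer))
    obtain ⟨S, hUS, hSA⟩ := exists_le_invariant_sylow hAK (coprime_of_mem hA hKmem) (Or.inl hAs)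
      (sup_le_sup_left hEH D) (hQ.isPGroup.to_le hUQ) hUA
    obtain ⟨R, hR, hSR⟩ := exists_maxQMember_ge (p := p) (A := A) (θ := θ)
      (mem_of_le hKmem (map_subtype_le _) hSA) (S.2.map K.subtype)
    have hlt : D < D ⊔ E := lt_of_le_of_ne le_sup_left fun h => hne (by rw [h]; exact le_sup_right)
    refine ⟨S, R, hSA, hR, hSR, lt_of_lt_of_le hlt hUS, ?_⟩
    refine ih _ ?_ Q R hQ hR rfl
    rw [← hn]
    have h1 : Nat.card D < Nat.card (Q ⊓ R : Subgroup G) :=
      SetLike.coe_sort_coe D ▸ Set.Finite.card_lt_card (Set.toFinite _)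
        (SetLike.coe_ssubset_coe.mpr (lt_of_lt_of_le hlt (le_inf hUQ (hUS.trans hSR))))
    have h2 := Nat.le_of_dvd Nat.card_pos (Subgroup.card_subgroup_dvd_card (Q ⊓ R))
    omega
  obtain ⟨S₁, R₁, hS₁A, hR₁, hSR₁, hlt₁, c₁, hc₁, hQR₁⟩ := key Q₁ h₁ inf_le_left hn₁
  obtain ⟨S₂, R₂, hS₂A, hR₂, hSR₂, hlt₂, c₂, hc₂, hQR₂⟩ := key Q₂ h₂ inf_le_right hn₂
  obtain ⟨d, hd, hdS⟩ := exists_centralizer_conj_sylow hAK (coprime_of_mem hA hKmem) (Or.inl hAs)
    S₁ S₂ hS₁A hS₂A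
  have hdθ : (d : G) ∈ signalizerInf A θ := inf_centralizer_A_le hKmem ⟨d.2, hd⟩
  obtain ⟨e, he, heR⟩ := ih _ (by
      rw [← hn]
      have h1 : Nat.card D < Nat.card (MulAut.conj (d : G) • R₁ ⊓ R₂ : Subgroup G) := by
        refine SetLike.coe_sort_coe D ▸ Set.Finite.card_lt_card (Set.toFinite _)
          (SetLike.coe_ssubset_coe.mpr (lt_of_lt_of_le hlt₂ (le_inf ?_ hSR₂)))
        rw [← hdS, Sylow.pointwise_smul_def]
        refine (conj_smul_map_subtype d (S₁ : Subgroup K)).le.trans ?_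
        exact Subgroup.pointwise_smul_le_pointwise_smul_iff.mpr hSR₁
      have h2 := Nat.le_of_dvd Nat.card_pos
        (Subgroup.card_subgroup_dvd_card (MulAut.conj (d : G) • R₁ ⊓ R₂))
      omega) _ R₂ (hR₁.conj hθ hdθ) hR₂ rfl
  refine ⟨c₂⁻¹ * (e * (d * c₁)), mul_mem (inv_mem hc₂) (mul_mem he (mul_mem hdθ hc₁)), ?_⟩
  rw [conj_mul_smul, conj_mul_smul e, conj_mul_smul (d : G), hQR₁, heR, ← hQR₂, ← conj_mul_smul,
    inv_mul_cancel, map_one, one_smul]

/-- A maximal `q`-member meets every member in a Sylow subgroup, up to conjugation by `θ(A)`. -/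
theorem exists_sylow_eq_conj_inf [Fact p.Prime] (hA : IsElementaryAbelian p A)
    (hA3 : p ^ 3 ≤ Nat.card A) (hθ : IsSolvableSignalizerFunctor p A θ) {q : ℕ} [Fact q.Prime]
    {Q H : Subgroup G} (hQ : IsMaxQMember p A θ q Q) (hH : H ∈ signalizerFamily p A θ) :
    ∃ c ∈ signalizerInf A θ, ∃ S : Sylow q H,
      (S : Subgroup H).map H.subtype = MulAut.conj c • Q ⊓ H := by
  obtain ⟨S, hS⟩ := exists_invariant_sylow (le_normalizer_of_mem hH) (coprime_of_mem hA hH)
    (Or.inl (ea_isSolvable hA)) q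
  obtain ⟨R, hR, hSR⟩ := exists_maxQMember_ge (p := p) (A := A) (θ := θ)
    (mem_of_le hH (map_subtype_le _) hS) (S.2.map H.subtype)
  obtain ⟨c, hc, hcR⟩ := exists_conj_maxQMember hA hA3 hθ hQ hR
  refine ⟨c, hc, S, le_antisymm (le_inf (hcR ▸ hSR) (map_subtype_le _)) ?_⟩
  intro x hx
  have hp : IsPGroup q (R.subgroupOf H) :=
    hR.isPGroup.comap_of_injective H.subtype H.subtype_injective
  have hle : (S : Subgroup H) ≤ R.subgroupOf H := fun y hy => hSR (mem_map_of_mem _ hy)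
  have heq := S.3 hp hle
  exact ⟨⟨x, hx.2⟩, heq ▸ (hcR ▸ hx.1 : x ∈ R), rfl⟩

/-- `Q ⊓ C(B)` is a Sylow subgroup of `θ(B)`. -/
theorem exists_sylow_signalizerInf [Fact p.Prime] (hA : IsElementaryAbelian p A)
    (hA3 : p ^ 3 ≤ Nat.card A) (hθ : IsSolvableSignalizerFunctor p A θ) {q : ℕ} [Fact q.Prime]
    {Q B : Subgroup G} (hQ : IsMaxQMember p A θ q Q) (hB : B ≤ A) (hB1 : B ≠ ⊥) :
    ∃ S : Sylow q (signalizerInf B θ), (S : Subgroup (signalizerInf B θ)).map
      (signalizerInf B θ).subtype = Q ⊓ centralizer (B : Set G) := by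
  obtain ⟨c, hc, S, hS⟩ := exists_sylow_eq_conj_inf hA hA3 hθ hQ (signalizerInf_mem hθ hB hB1)
  have hcB : c ∈ signalizerInf B θ := by
    refine le_signalizerInf (fun a ha ha1 => ?_) hc
    exact signalizerInf_le (hB ha) ha1
  refine ⟨(⟨c, hcB⟩ : signalizerInf B θ)⁻¹ • S, ?_⟩
  rw [Sylow.coe_subgroup_smul, conj_smul_map_subtype, hS, Subgroup.coe_inv]
  have he : MulAut.conj c⁻¹ • (MulAut.conj c • Q ⊓ signalizerInf B θ : Subgroup G) =
      Q ⊓ signalizerInf B θ := by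
    rw [Subgroup.smul_inf, ← conj_mul_smul, inv_mul_cancel, map_one, one_smul,
      conj_smul_eq_self_of_mem_normalizer (Subgroup.le_normalizer (inv_mem hcB))]
  rw [he]
  exact le_antisymm (inf_le_inf_left _ (signalizerInf_le_centralizer hθ hB))
    (le_inf inf_le_left (inf_centralizer_le_signalizerInf hQ.mem hB))

end Cfsg.Agent.Signalizer
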