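import Cfsg.Agent.Signalizer.TwoPureCore

/-!
The solvable signalizer functor theorem with two primes and no mixed maximal member: the points.
-/

set_option autoImplicit false
set_option linter.unusedSectionVars false

open Subgroup
open scoped Pointwise commutatorElement

namespace Cfsg.Agent.Signalizer

open Cfsg Cfsg.Agent.Coprime Cfsg.Agent.AbCentFpf

universe u

variable {G : Type u} [Group G] [Finite G] {p : ℕ} [Fact p.Prime] {A : Subgroup G} {θ : G → Subgroup G}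

namespace Ctx2Q

variable {q r : ℕ} {L M₁ : Subgroup G} (C : Ctx2Q p A θ q r L M₁)
include C

theorem glob_le {P : Subgroup G} (hP : Glob p A θ q P)
    (hD : signalizerInf A θ ≤ normalizer (P : Set G)) : P ≤ qcap p A θ q := by
  have := C.fact_q
  refine le_qcap fun M hM hX => C.glob_le_cor hP hM.mem ?_
  exact (C.glob_le_cor hP C.mxL.mem ((C.le_gr_q hP.mem hD hP.isPGroup).trans C.gr_le_L)).trans
    (C.corL_le M hM hX)

theorem le_M₁ {V : Subgroup G} (hV : V ∈ signalizerFamily p A θ)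
    (hn : V ≤ normalizer (qcap p A θ q : Set G)) : V ≤ M₁ := (le_nrm hV hn).trans C.nrm_le

theorem qcap_le_cor : qcap p A θ q ≤ Cor q M₁ := by
  have := C.fact_q
  exact C.glob_le_cor C.qcap_glob C.mx.mem (C.le_M₁ C.qcap_mem Subgroup.le_normalizer)

theorem cor_M₁_ne : Cor q M₁ ≠ ⊥ := fun h => C.qcap_ne (le_bot_iff.mp (C.qcap_le_cor.trans h.le))

theorem qcap_inf_centralizer {f : G} (hf : f ∈ A) (hf1 : f ≠ 1) (hnot : ¬ IsLineOf p A θ q f) :
    qcap p A θ q ⊓ centralizer {f} = ⊥ := by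
  have := C.fact_q
  obtain ⟨N, hN, hfN⟩ := C.exists_mx_theta hf hf1
  have hX : Cor q N = ⊥ := by_contra fun h => hnot ⟨N, hN, hfN, h⟩
  rw [← le_bot_iff, ← hX]
  exact C.glob_le_cor (C.qcap_glob.mono inf_le_left
    (C.inv_inf_centralizer (le_normalizer_of_mem C.qcap_mem) (Set.singleton_subset_iff.mpr hf)))
    hN.mem ((inf_le_theta C.qcap_mem hf hf1).trans hfN)

theorem point_normalizes_cor {B : Subgroup G} {b : G} (hb : b ∈ B) (hb1 : b ≠ 1) {M : Subgroup G}
    (hM : IsMx p A θ M) (hbM : θ b ≤ M) :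
    signalizerInf B θ ≤ normalizer (Cor q M : Set G) :=
  hM.le_normalizer_cor ((signalizerInf_le hb hb1).trans hbM) q

/-- The meet of the cores above some of the lines of a point. -/
theorem exists_meet {B : Subgroup G} (S : Set G) (hS : ∃ g ∈ B, g ∈ S)
    (hS1 : ∀ g ∈ B, g ∈ S → g ≠ 1 ∧ IsLineOf p A θ q g) :
    ∃ P : Subgroup G, qcap p A θ q ≤ P ∧ P ∈ signalizerFamily p A θ ∧ IsPGroup q P ∧
      signalizerInf A θ ≤ normalizer (P : Set G) ∧ signalizerInf B θ ≤ normalizer (P : Set G) ∧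
      ∀ g ∈ B, g ∈ S → ∃ M ∈ signalizerFamily p A θ, θ g ≤ M ∧ P ≤ Cor q M := by
  have := C.fact_q
  let I := {v : G × Subgroup G // v.1 ∈ B ∧ v.1 ∈ S ∧ IsMx p A θ v.2 ∧ θ v.1 ≤ v.2 ∧ Cor q v.2 ≠ ⊥}
  let P : Subgroup G := ⨅ i : I, Cor q i.1.2
  have hmem : ∀ g ∈ B, g ∈ S → ∃ i : I, i.1.1 = g := fun g hg hgS => by
    obtain ⟨M, hM, hgM, hX⟩ := (hS1 g hg hgS).2
    exact ⟨⟨(g, M), hg, hgS, hM, hgM, hX⟩, rfl⟩
  obtain ⟨g₀, hg₀, hg₀S⟩ := hS
  obtain ⟨i₀, -⟩ := hmem g₀ hg₀ hg₀S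
  have hle : P ≤ Cor q i₀.1.2 := iInf_le (fun i : I => Cor q i.1.2) i₀
  have hnorm : ∀ V : Subgroup G, (∀ i : I, V ≤ normalizer (Cor q i.1.2 : Set G)) →
      V ≤ normalizer (P : Set G) := by
    intro V hV g hg
    rw [mem_normalizer_iff]
    intro x
    simp only [P, mem_iInf]
    exact forall_congr' fun i => mem_normalizer_iff.mp (hV i hg) x
  refine ⟨P, le_iInf fun i => qcap_le i.2.2.2.1 i.2.2.2.2.2,
    mem_of_le (C.cor_mem i₀.2.2.2.1.mem q) hle
      (hnorm _ fun i => le_normalizer_of_mem (C.cor_mem i.2.2.2.1.mem q)),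
    (cor_isPGroup q).to_le hle, hnorm _ fun i => i.2.2.2.1.dinv_cor q,
    hnorm _ fun i => C.point_normalizes_cor i.2.1 (hS1 _ i.2.1 i.2.2.1).1 i.2.2.2.1 i.2.2.2.2.1,
    fun g hg hgS => ?_⟩
  obtain ⟨i, rfl⟩ := hmem g hg hgS
  exact ⟨i.1.2, i.2.2.2.1.mem, i.2.2.2.2.1, iInf_le (fun i : I => Cor q i.1.2) i⟩

theorem point_normalizes_of_all {B : Subgroup G} (hB : IsPoint p A B)
    (hall : ∀ g ∈ B, g ≠ 1 → IsLineOf p A θ q g) :
    signalizerInf B θ ≤ normalizer (qcap p A θ q : Set G) := by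
  obtain ⟨b, hb, hb1⟩ := (B.bot_or_exists_ne_one).resolve_left (C.point_ne_bot hB)
  obtain ⟨P, hQP, hPm, hPq, hPD, hPT, hw⟩ :=
    C.exists_meet (B := B) {g | g ≠ 1} ⟨b, hb, hb1⟩ fun g hg hg1 => ⟨hg1, hall g hg hg1⟩
  have hglob : Glob p A θ q P := ⟨hPm, hPq, fun B' hB' => by
    obtain ⟨c, hc, hc', hc1⟩ := C.exists_common hB hB'
    obtain ⟨M, hM, hcM, hPM⟩ := hw c hc hc1
    exact ⟨c, hc', hc1, M, hM, hcM, hPM⟩⟩
  rw [← le_antisymm (C.glob_le hglob hPD) hQP]
  exact hPT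

theorem point_normalizes_of_one {B : Subgroup G} (hB : IsPoint p A B) {f : G} (hf : f ∈ B)
    (hone : ∀ g ∈ B, g ∉ zpowers f → IsLineOf p A θ q g) :
    signalizerInf B θ ≤ normalizer (qcap p A θ q : Set G) := by
  have := C.fact_q
  by_cases hfl : f = 1 ∨ IsLineOf p A θ q f
  · refine C.point_normalizes_of_all hB fun g hg hg1 => ?_
    by_cases hgf : g ∈ zpowers f
    · rcases hfl with rfl | hfl
      · rw [zpowers_one_eq_bot, mem_bot] at hgf
        exact absurd hgf hg1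
      · exact C.isLineOf_zpowers (hB.1 hf) hgf hg1 hfl
    · exact hone g hg hgf
  push Not at hfl
  obtain ⟨hf1, hnot⟩ := hfl
  have hfA := hB.1 hf
  obtain ⟨g₀, hg₀, hg₀f, -⟩ := C.exists_mem_point_not_zpowers hB f
  obtain ⟨P, hQP, hPm, hPq, hPD, hPT, hw⟩ := C.exists_meet (B := B) {g | g ∉ zpowers f} ⟨g₀, hg₀, hg₀f⟩
    fun g hg hgf => ⟨fun e => hgf (e ▸ one_mem _), hone g hg hgf⟩
  have hfP : zpowers f ≤ normalizer (P : Set G) := (zpowers_le.mpr hfA).trans (le_normalizer_of_mem hPm)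
  have hPfP : ⁅P, zpowers f⁆ ≤ P := commutator_le_of_le_normalizer hfP
  have hPfA : A ≤ normalizer ((⁅P, zpowers f⁆ : Subgroup G) : Set G) :=
    C.inv_commutator (le_normalizer_of_mem hPm) hfA
  have hw' : ∀ g ∈ B, g ∉ zpowers f → ∃ M ∈ signalizerFamily p A θ, θ g ≤ M ∧
      ⁅P, zpowers f⁆ ≤ Cor q M := fun g hg hgf => by
    obtain ⟨M, hM, hgM, hPM⟩ := hw g hg hgf
    exact ⟨M, hM, hgM, hPfP.trans hPM⟩
  have hLle : ⁅P, zpowers f⁆ ≤ Cor q L :=
    C.commutator_le_cor_lines C.mxL.mem (le_normalizer_of_mem hPm)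
      ((C.le_gr_q hPm hPD hPq).trans C.gr_le_L) hPq hB hf hw
  have hle : ⁅P, zpowers f⁆ ≤ qcap p A θ q := le_qcap fun M hM hX => by
    rw [← C.commutator_commutator hPm hfA]
    exact C.commutator_le_cor_lines hM.mem hPfA (hLle.trans (C.corL_le M hM hX)) (hPq.to_le hPfP) hB hf hw'
  have heq : ⁅P, zpowers f⁆ = qcap p A θ q := le_antisymm hle (by
    conv_lhs => rw [← C.commutator_eq_self C.qcap_mem hfA (C.qcap_inf_centralizer hfA hf1 hnot)]
    exact commutator_mono hQP le_rfl)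
  rw [← heq]
  refine FixedPointFree.le_normalizer_commutator' hPT (le_trans ?_ (centralizer_le_normalizer _))
  exact (signalizerInf_le_centralizer C.functor hB.1).trans (centralizer_le (zpowers_le.mpr hf))

theorem point_normalizes_commutator (hq2 : q ≠ 2) {B : Subgroup G} (hB : IsPoint p A B) {d : G}
    (hd : d ∈ B) (hd1 : d ≠ 1) {M : Subgroup G} (hM : IsMx p A θ M) (hdM : θ d ≤ M)
    (hX : Cor q M ≠ ⊥) :
    ⁅Cor q M, zpowers d⁆ = ⁅qcap p A θ q, zpowers d⁆ ∧
      signalizerInf B θ ≤ normalizer ((⁅qcap p A θ q, zpowers d⁆ : Subgroup G) : Set G) := by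
  have := C.fact_q
  have hle : ⁅Cor q M, zpowers d⁆ ≤ qcap p A θ q :=
    C.commutator_le_of_glob hq2 (C.prime_ne hM.mem hX) (C.cor_mem hM.mem q) (hM.dinv_cor q)
      (cor_isPGroup q) (hB.1 hd) hd1 (hM.le_normalizer_cor hdM q) fun P hP hD => C.glob_le hP hD
  have heq : ⁅Cor q M, zpowers d⁆ = ⁅qcap p A θ q, zpowers d⁆ := by
    refine le_antisymm ?_ (commutator_mono (qcap_le hM hX) le_rfl)
    rw [← C.commutator_commutator (C.cor_mem hM.mem q) (hB.1 hd)]
    exact commutator_mono hle le_rfl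
  refine ⟨heq, heq ▸ FixedPointFree.le_normalizer_commutator' (C.point_normalizes_cor hd hd1 hM hdM) ?_⟩
  exact ((signalizerInf_le_centralizer C.functor hB.1).trans
    (centralizer_le (zpowers_le.mpr hd))).trans (centralizer_le_normalizer _)

theorem point_le_odd (hq2 : q ≠ 2) {B : Subgroup G} (hB : IsPoint p A B) {f : G}
    (hf : f ∈ B) (hf1 : f ≠ 1) (hnot : ¬ IsLineOf p A θ q f) : signalizerInf B θ ≤ M₁ := by
  have := C.fact_q
  have hTm : signalizerInf B θ ∈ signalizerFamily p A θ :=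
    signalizerInf_mem C.functor hB.1 (C.point_ne_bot hB)
  obtain ⟨d, hd, hd1, M, hM, hdM, hX⟩ := C.lineq B hB
  set Q := qcap p A θ q with hQ
  have hQm : Q ∈ signalizerFamily p A θ := C.qcap_mem
  have hdA := hB.1 hd
  by_cases h2 : ∃ d' ∈ B, d' ∉ zpowers d ∧ IsLineOf p A θ q d'
  · obtain ⟨d', hd', hind, M', hM', hdM', hX'⟩ := h2
    have hd'1 : d' ≠ 1 := fun e => hind (e ▸ one_mem _)
    refine C.le_M₁ hTm ?_
    have hQA := le_normalizer_of_mem hQm
    have hleQ : ∀ {x : G}, x ∈ A → ⁅Q, zpowers x⁆ ≤ Q := fun hx =>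
      commutator_le_of_le_normalizer ((zpowers_le.mpr hx).trans hQA)
    have heq : ⁅Q, zpowers d⁆ ⊔ ⁅Q, zpowers d'⁆ = Q := by
      refine le_antisymm (sup_le (hleQ hdA) (hleQ (hB.1 hd'))) ?_
      conv_lhs => rw [← commutator_sup_centralizer ((zpowers_le.mpr hdA).trans hQA)
        ((coprime_of_mem C.ea hQm).coprime_dvd_left (card_dvd_of_le (zpowers_le.mpr hdA)))
        (Or.inl (isSolvable_of_le (zpowers_le.mpr hdA) (ea_isSolvable C.ea)))]
      refine sup_le le_sup_left (le_trans ?_ le_sup_right)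
      set V := Q ⊓ centralizer (zpowers d : Set G)
      have hV : V ∈ signalizerFamily p A θ :=
        mem_of_le hQm inf_le_left (C.inv_inf_centralizer hQA (zpowers_le.mpr hdA))
      rw [← C.commutator_eq_self hV (hB.1 hd') ?_]
      · exact commutator_mono inf_le_left le_rfl
      rw [← le_bot_iff, ← C.qcap_inf_centralizer (hB.1 hf) hf1 hnot]
      refine le_inf (inf_le_left.trans inf_le_left) ?_
      intro x hx
      have h1 : B ≤ centralizer {x} := by
        rw [C.point_eq hB hd hd1 hd' hind]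
        refine sup_le ?_ (zpowers_le.mpr (mem_centralizer_singleton_iff.mpr
          (mem_centralizer_singleton_iff.mp hx.2).symm))
        intro y hy
        exact mem_centralizer_singleton_iff.mpr (mem_centralizer_iff.mp hx.1.2 y hy)
      exact mem_centralizer_singleton_iff.mpr (mem_centralizer_singleton_iff.mp (h1 hf)).symm
    show signalizerInf B θ ≤ normalizer (Q : Set G)
    rw [← heq]
    exact fun x hx => normalizer_inf_normalizer_le_normalizer_sup _ _
      ⟨(C.point_normalizes_commutator hq2 hB hd hd1 hM hdM hX).2 hx,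
        (C.point_normalizes_commutator hq2 hB hd' hd'1 hM' hdM' hX').2 hx⟩
  · push Not at h2
    have hQd : Q ≤ centralizer {d} := by
      refine C.le_of_lines hB hQm fun b hb hb1 => ?_
      by_cases hbd : b ∈ zpowers d
      · rw [C.theta_eq_of_zpowers hdA hd1 hbd hb1]
        exact inf_le_right.trans (theta_le_centralizer C.functor hdA hd1)
      · refine le_trans ?_ bot_le
        exact (inf_le_inf_left _ (theta_le_centralizer C.functor (hB.1 hb) hb1)).trans
          (C.qcap_inf_centralizer (hB.1 hb) hb1 (h2 b hb hbd)).le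
    have hXd : Cor q M ≤ centralizer {d} := by
      refine C.centralizes_of_commutator_le (C.cor_mem hM.mem q) hdA ?_
      rw [(C.point_normalizes_commutator hq2 hB hd hd1 hM hdM hX).1]
      exact (commutator_le_of_le_normalizer
        ((zpowers_le.mpr hdA).trans (le_normalizer_of_mem hQm))).trans hQd
    have hMd : M = θ d := C.eq_theta_of_centralizes hM hdA hd1 fun s hs => by
      rcases eq_or_ne s q with rfl | hsq
      · exact hXd
      · rw [C.isPure hM hX s hs hsq]; exact bot_le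
    subst hMd
    have hgr := C.centralizes_gr hdA hd1 hM (t := q) hX ⟨r, C.mem_r, C.ne.symm⟩
    have hM1 : M₁ = θ d := C.eq_theta_of_centralizes C.mx hdA hd1 fun s hs => by
      rcases eq_or_ne s q with rfl | hsq
      · exact (C.cor_le_gr C.mx).trans hgr
      · rw [C.isPure C.mx C.cor_M₁_ne s hs hsq]; exact bot_le
    exact hM1 ▸ signalizerInf_le hd hd1

theorem false_two (hq2 : q = 2) {B : Subgroup G} (hB : IsPoint p A B) {f f' : G}
    (hf : f ∈ B) (hf1 : f ≠ 1) (hnot : ¬ IsLineOf p A θ q f) (hf' : f' ∈ B) (hind : f' ∉ zpowers f)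
    (hnot' : ¬ IsLineOf p A θ q f') : False := by
  have := C.fact_q
  have := C.fact_r
  obtain ⟨B₀, hB₀, hB₀r⟩ := C.rule.resolve_left fun h => h hq2
  have hr2 : r ≠ 2 := fun h => C.ne (hq2.trans h.symm)
  have hglob : ∀ P, Glob p A θ r P → signalizerInf A θ ≤ normalizer (P : Set G) → P ≤ ⊥ := by
    intro P hP hD
    obtain ⟨c, hc, hc1, K, hK, hcK, hPK⟩ := hP.wit B₀ hB₀
    obtain ⟨N, hN, hKN⟩ := C.exists_mx_ge hK
      (((C.D_le_theta (hB₀.1 hc) hc1).trans hcK).trans Subgroup.le_normalizer)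
    have hX : Cor r N = ⊥ := by_contra fun h => hB₀r c hc hc1 ⟨N, hN, hcK.trans hKN, h⟩
    exact (C.glob_le_cor hP hN.mem ((hPK.trans (cor_le r)).trans hKN)).trans hX.le
  have key : ∀ g ∈ B, g ≠ 1 → ¬ IsLineOf p A θ q g →
      IsMx p A θ (θ g) ∧ Cor q (θ g) = ⊥ ∧ Cor r (θ g) ≠ ⊥ ∧ gr p A θ {r} ≤ centralizer {g} := by
    intro g hg hg1 hng
    have hgA := hB.1 hg
    obtain ⟨N, hN, hgN⟩ := C.exists_mx_theta hgA hg1
    have hXN : Cor q N = ⊥ := by_contra fun h => hng ⟨N, hN, hgN, h⟩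
    have hYN : Cor r N ≠ ⊥ := fun h => by
      obtain ⟨s, hs, hne⟩ := C.exists_cor_ne_bot hN
      rcases C.eq_or_eq hN.mem hs hne with rfl | rfl
      exacts [hne hXN, hne h]
    have hcom : ⁅Cor r N, zpowers g⁆ = ⊥ := le_bot_iff.mp
      (C.commutator_le_of_glob hr2 (C.prime_ne hN.mem hYN) (C.cor_mem hN.mem r) (hN.dinv_cor r)
        (cor_isPGroup r) hgA hg1 (hN.le_normalizer_cor hgN r) hglob)
    have heq : N = θ g := C.eq_theta_of_centralizes hN hgA hg1 fun s hs =>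
      C.cor_le_of (centralizer {g}) hN.mem (by rw [hXN]; exact bot_le)
        (le_centralizer_singleton_iff_commutator.mpr hcom) hs
    subst heq
    exact ⟨hN, hXN, hYN, C.centralizes_gr hgA hg1 hN (t := r) hYN ⟨q, C.mem_q, C.ne⟩⟩
  have hf'1 : f' ≠ 1 := fun e => hind (e ▸ one_mem _)
  obtain ⟨hmx, hXf, hYf, -⟩ := key f hf hf1 hnot
  obtain ⟨-, -, -, hgr'⟩ := key f' hf' hf'1 hnot'
  have hle : Cor r (θ f) ≤ gr p A θ {r} := by
    refine le_gr (C.cor_mem hmx.mem r) (hmx.dinv_cor r) fun s hs hd => ?_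
    obtain ⟨n, hn⟩ := IsPGroup.iff_card.mp (cor_isPGroup r : IsPGroup r (Cor r (θ f)))
    rw [hn] at hd
    exact (Nat.prime_dvd_prime_iff_eq hs Fact.out).mp (hs.dvd_of_dvd_pow hd)
  have heq : θ f = θ f' := C.eq_theta_of_centralizes hmx (hB.1 hf') hf'1 fun s hs =>
    C.cor_le_of (centralizer {f'}) hmx.mem (by rw [hXf]; exact bot_le) (hle.trans hgr') hs
  obtain ⟨d, hd, hd1, M, hM, hdM, hX⟩ := C.lineq B hB
  have hBc : B ≤ centralizer (θ f : Set G) := by
    rw [C.point_eq hB hf hf1 hf' hind]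
    refine sup_le (zpowers_le.mpr (le_centralizer_singleton_comm.mp
      (theta_le_centralizer C.functor (hB.1 hf) hf1))) (zpowers_le.mpr (le_centralizer_singleton_comm.mp ?_))
    rw [heq]
    exact theta_le_centralizer C.functor (hB.1 hf') hf'1
  have hle' : θ f ≤ M := (C.le_theta_of_centralizes hmx.mem (hB.1 hd) hd1
    (le_centralizer_singleton_comm.mpr (hBc hd))).trans hdM
  exact hX (hmx.max M hM.mem hle' ▸ hXf)

theorem point_le {B : Subgroup G} (hB : IsPoint p A B) : signalizerInf B θ ≤ M₁ := by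
  by_cases h : ∃ f ∈ B, ∀ g ∈ B, g ∉ zpowers f → IsLineOf p A θ q g
  · obtain ⟨f, hf, hone⟩ := h
    exact C.le_M₁ (signalizerInf_mem C.functor hB.1 (C.point_ne_bot hB))
      (C.point_normalizes_of_one hB hf hone)
  push Not at h
  obtain ⟨f, hf, hf1, hnot⟩ := h 1 (one_mem B)
  obtain ⟨f', hf', hind, hnot'⟩ := h f hf
  have hf1' : f ≠ 1 := fun e => hf1 (by rw [e]; exact one_mem _)
  by_cases hq2 : q = 2
  · exact (C.false_two hq2 hB hf hf1' hnot hf' hind hnot').elim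
  · exact C.point_le_odd hq2 hB hf hf1' hnot

theorem false : False :=
  C.not_complete ⟨M₁, C.mx.mem, fun a ha ha1 =>
    C.le_of_points (theta_mem C.functor ha ha1) fun _ hB =>
      (inf_centralizer_le_signalizerInf (theta_mem C.functor ha ha1) hB.1).trans (C.point_le hB)⟩

end Ctx2Q

theorem Ctx2P.false {q r : ℕ} (C : Ctx2P p A θ q r) : False := by
  obtain ⟨L, M₁, C'⟩ := C.exists_ctx2Q
  exact C'.false

end Cfsg.Agent.Signalizer
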