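import Cfsg.Agent.Signalizer.ThreeMain
import Cfsg.Agent.Signalizer.TwoPure
import Mathlib.GroupTheory.Sylow

/-!
The solvable signalizer functor theorem.
-/

set_option autoImplicit false
set_option linter.unusedSectionVars false

open Subgroup
open scoped Pointwise

namespace Cfsg.Agent.Signalizer

open Cfsg Cfsg.Agent.Coprime Cfsg.Agent.AbCentFpf

universe u

variable {G : Type u} [Group G] [Finite G] {p : ℕ} [Fact p.Prime] {A : Subgroup G} {θ : G → Subgroup G}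

theorem Ctx2.false_of {q r : ℕ} (C : Ctx2 p A θ q r) : False := by
  by_cases hmixed : ∃ M, IsMx p A θ M ∧ Cor q M ≠ ⊥ ∧ Cor r M ≠ ⊥
  · obtain ⟨M, hM, hX, hY⟩ := hmixed
    exact Ctx2M.false (⟨C, hM, hX, hY⟩ : Ctx2M p A θ q r M)
  push Not at hmixed
  have hpure : ∀ M, IsMx p A θ M → Cor q M = ⊥ ∨ Cor r M = ⊥ := fun M hM => by
    by_cases h : Cor q M = ⊥
    exacts [Or.inl h, Or.inr (hmixed M hM h)]
  have hline : ∀ c ∈ A, c ≠ 1 → IsLineOf p A θ q c ∨ IsLineOf p A θ r c := fun c hc hc1 => by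
    obtain ⟨M, hM, hcM⟩ := C.exists_mx_theta hc hc1
    obtain ⟨s, hs, hne⟩ := C.exists_cor_ne_bot hM
    rcases C.eq_or_eq hM.mem hs hne with rfl | rfl
    exacts [Or.inl ⟨M, hM, hcM, hne⟩, Or.inr ⟨M, hM, hcM, hne⟩]
  by_cases hgr : ∀ B, IsPoint p A B → ∃ c ∈ B, c ≠ 1 ∧ IsLineOf p A θ r c
  · by_cases hgq : ∀ B, IsPoint p A B → ∃ c ∈ B, c ≠ 1 ∧ IsLineOf p A θ q c
    · by_cases hq2 : q = 2
      · exact Ctx2P.false (⟨C.symm, fun M hM => (hpure M hM).symm, hgr,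
          Or.inl fun hr2 => C.ne (hq2.trans hr2.symm)⟩ : Ctx2P p A θ r q)
      · exact Ctx2P.false (⟨C, hpure, hgq, Or.inl hq2⟩ : Ctx2P p A θ q r)
    · push Not at hgq
      obtain ⟨B₀, hB₀, hno⟩ := hgq
      exact Ctx2P.false (⟨C.symm, fun M hM => (hpure M hM).symm, hgr,
        Or.inr ⟨B₀, hB₀, hno⟩⟩ : Ctx2P p A θ r q)
  · push Not at hgr
    obtain ⟨B₀, hB₀, hno⟩ := hgr
    have hgq : ∀ B, IsPoint p A B → ∃ c ∈ B, c ≠ 1 ∧ IsLineOf p A θ q c := fun B hB => by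
      obtain ⟨c, hc₀, hc, hc1⟩ := C.exists_common hB₀ hB
      exact ⟨c, hc, hc1, (hline c (hB.1 hc) hc1).resolve_right (hno c hc₀ hc1)⟩
    exact Ctx2P.false (⟨C, hpure, hgq, Or.inr ⟨B₀, hB₀, hno⟩⟩ : Ctx2P p A θ q r)

theorem Hyp.complete_of_one (h : Hyp p A θ) (q : ℕ) [Fact q.Prime]
    (hq : ∀ a ∈ A, a ≠ 1 → IsPGroup q (θ a)) : Complete p A θ := by
  obtain ⟨a₀, ha₀, ha₀1⟩ := h.exists_ne_one
  have hD : signalizerInf A θ ≤ θ a₀ := signalizerInf_le ha₀ ha₀1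
  obtain ⟨Q, hQ, hle⟩ := exists_maxQMember_ge (signalizerInf_mem h.functor le_rfl h.ne_bot)
    ((hq a₀ ha₀ ha₀1).to_le hD)
  refine ⟨Q, hQ.mem, fun a ha ha1 => ?_⟩
  obtain ⟨R, hR, hR'⟩ := exists_maxQMember_ge (theta_mem h.functor ha ha1) (hq a ha ha1)
  obtain ⟨c, hc, hcR⟩ := exists_conj_maxQMember h.ea h.le3 h.functor hQ hR
  rw [conj_smul_eq_self_of_mem_normalizer (Subgroup.le_normalizer (hle hc))] at hcR
  exact hcR ▸ hR'

/-- The theorem for `A` of order `p ^ 3`. -/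
theorem Hyp.complete {G : Type u} [Group G] [Finite G] {A : Subgroup G} {θ : G → Subgroup G}
    (h : Hyp p A θ) : Complete p A θ := by
  suffices H : ∀ n : ℕ, ∀ (G : Type u) [Group G] [Finite G] (A : Subgroup G) (θ : G → Subgroup G),
      Hyp p A θ → size A θ = n → Complete p A θ from H _ G A θ h rfl
  intro n
  induction n using Nat.strong_induction_on with
  | _ n ih =>
  intro G _ _ A θ h hn
  by_contra hnc
  have C : Ctx p A θ := ⟨h, fun H _ _ A' θ' h' hlt => ih _ (hn ▸ hlt) H A' θ' h' rfl, hnc⟩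
  by_cases h3 : ∀ a b : ℕ, ∃ u ∈ primes A θ, u ≠ a ∧ u ≠ b
  · exact Ctx3.false (⟨C, h3⟩ : Ctx3 p A θ)
  push Not at h3
  obtain ⟨a, b, hab⟩ := h3
  by_cases h2 : ∃ q ∈ primes A θ, ∃ r ∈ primes A θ, q ≠ r
  · obtain ⟨q, hq, r, hr, hne⟩ := h2
    refine Ctx2.false_of (⟨C, hq, hr, hne, fun s hs => ?_⟩ : Ctx2 p A θ q r)
    by_cases hsa : s = a <;> by_cases hqa : q = a <;> by_cases hra : r = a
    all_goals first
      | omega
      | (have := hab s hs; have := hab q hq; have := hab r hr; omega)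
  push Not at h2
  obtain ⟨q, hq, hall⟩ : ∃ q : ℕ, q.Prime ∧ ∀ s ∈ primes A θ, s = q := by
    by_cases he : ∃ q, q ∈ primes A θ
    · obtain ⟨q, hq⟩ := he
      exact ⟨q, hq.1, fun s hs => h2 s hs q hq⟩
    · exact ⟨2, Nat.prime_two, fun s hs => (he ⟨s, hs⟩).elim⟩
  have := Fact.mk hq
  refine hnc (h.complete_of_one q fun x hx hx1 => ?_)
  exact IsPGroup.of_card (n := (Nat.card (θ x)).primeFactorsList.length)
    (Nat.eq_prime_pow_of_unique_prime_dvd Nat.card_pos.ne' fun hd hdd => hall _ ⟨hd, x, hx, hx1, hdd⟩)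

/-- For a subgroup of order `p ^ 3` of `A`, some member contains the whole closure. -/
theorem exists_member_ge_closure (hA : Cfsg.IsElementaryAbelian p A)
    (hθ : Cfsg.IsSolvableSignalizerFunctor p A θ) {A' : Subgroup G} (hle : A' ≤ A)
    (hc : Nat.card A' = p ^ 3) :
    ∃ W ∈ signalizerFamily p A' θ, signalizerClosure A θ ≤ W := by
  have hθ' : Cfsg.IsSolvableSignalizerFunctor p A' θ :=
    ⟨⟨fun a ha => hθ.1.1 a (hle ha), fun a ha => hθ.1.2.1 a (hle ha),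
      fun a ha ha1 b hb => hθ.1.2.2.1 a (hle ha) ha1 b (hle hb),
      fun a ha ha1 b hb => hθ.1.2.2.2 a (hle ha) ha1 b (hle hb)⟩, fun a ha => hθ.2 a (hle ha)⟩
  have h : Hyp p A' θ := ⟨ea_mono hA hle, hc, hθ'⟩
  obtain ⟨W, hW, hWle⟩ := h.complete
  refine ⟨W, hW, iSup_le fun b => ?_⟩
  have hb : θ (b : G) ∈ signalizerFamily p A' θ :=
    mem_family_iff.mpr ⟨hθ.2 _ b.2.1 b.2.2, hθ.1.2.1 _ b.2.1 b.2.2,
      hle.trans (le_normalizer_theta hθ b.2.1 b.2.2),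
      fun a ha ha1 => balance hθ b.2.1 b.2.2 (hle ha) ha1⟩
  exact le_of_inf_theta_le h.ea le_rfl h.le2 hb fun a ha ha1 => inf_le_right.trans (hWle a ha ha1)

/-- The closure of the functor is solvable. -/
theorem closure_isSolvable (hA : Cfsg.IsElementaryAbelian p A) (hA3 : p ^ 3 ≤ Nat.card A)
    (hθ : Cfsg.IsSolvableSignalizerFunctor p A θ) : Group.IsSolvable (signalizerClosure A θ) := by
  obtain ⟨A', hle, hc⟩ := ea_exists_le_card hA3 hA
  obtain ⟨W, hW, hle'⟩ := exists_member_ge_closure hA hθ hle hc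
  exact Coprime.isSolvable_of_le hle' hW.1

/-- The closure of the functor for larger `A`. -/
theorem closure_spec (hA : Cfsg.IsElementaryAbelian p A) (hA3 : p ^ 3 ≤ Nat.card A)
    (hθ : Cfsg.IsSolvableSignalizerFunctor p A θ) :
    ¬ p ∣ Nat.card (signalizerClosure A θ) ∧
      ∀ a ∈ A, a ≠ 1 → signalizerClosure A θ ⊓ centralizer {a} ≤ θ a := by
  have sub := fun (A' : Subgroup G) (hle : A' ≤ A) (hc : Nat.card A' = p ^ 3) =>
    exists_member_ge_closure hA hθ hle hc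
  refine ⟨fun hd => ?_, fun a ha ha1 => ?_⟩
  · obtain ⟨A', hle, hc⟩ := ea_exists_le_card hA3 hA
    obtain ⟨W, hW, hle'⟩ := sub A' hle hc
    exact hW.2.1 (hd.trans (card_dvd_of_le hle'))
  · obtain ⟨m, hm⟩ := ea_card hA
    have hdvd : p ^ 3 ∣ Nat.card A := by
      rw [hm]
      exact pow_dvd_pow p ((Nat.pow_le_pow_iff_right (Fact.out : p.Prime).one_lt).mp (hm ▸ hA3))
    have hz : Nat.card (zpowers (⟨a, ha⟩ : A)) = p ^ 1 := by
      rw [Nat.card_zpowers, ← orderOf_coe, ea_orderOf hA ha ha1, pow_one]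
    obtain ⟨K, hK, hzK⟩ := Sylow.exists_subgroup_card_pow_prime_le p hdvd _ hz (by norm_num)
    obtain ⟨W, hW, hle'⟩ := sub (K.map A.subtype) (map_subtype_le _)
      ((card_map_of_injective A.subtype_injective).trans hK)
    exact (inf_le_inf_right _ hle').trans
      (inf_le_theta hW ⟨_, hzK (mem_zpowers _), rfl⟩ ha1)

end Cfsg.Agent.Signalizer
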