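import Cfsg.Agent.Coprime.Elementary
import Cfsg.Agent.Coprime.Tools
import Cfsg.Agent.Signalizer.Main
import Cfsg.Agent.Core.PCore
import Cfsg.Prelude.Def_Local

/-!
# The k-balanced signalizer functor with solvable cores

For a hyperplane `D` of `A` put `Y D = Δ(D) ∩ C(D)`. The subgroup generated by the `Y D`, `T ≤ D`,
meets `C(D)` in `Y D`: this is proved by induction on the corank of `T`, the solvable signalizer
functor theorem giving the step.
-/

set_option autoImplicit false
set_option linter.style.haveILetI false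

open Subgroup Cfsg

namespace Cfsg.Agent.Signalizer.KBal

variable {G : Type*} [Group G] [Finite G] {p : ℕ} [Fact p.Prime] {A : Subgroup G}

/-- A hyperplane of `A`. -/
def HP (p : ℕ) (A D : Subgroup G) : Prop := D ≤ A ∧ Nat.card A = p * Nat.card D

theorem exists_compl (hA : IsElementaryAbelian p A) {T : Subgroup G} (hT : T ≤ A) :
    ∃ B : Subgroup G, B ≤ A ∧ T ⊓ B = ⊥ ∧ T ⊔ B = A ∧ Nat.card A = Nat.card T * Nat.card B := by
  classical
  obtain ⟨B, ⟨hBA, hTB⟩, hmax⟩ := Set.exists_max_image {B : Subgroup G | B ≤ A ∧ T ⊓ B = ⊥}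
    (fun B => Nat.card B) (Set.toFinite _) ⟨⊥, bot_le, inf_bot_eq _⟩
  have hnorm : ∀ X Y : Subgroup G, X ≤ A → Y ≤ A → Y ≤ normalizer (X : Set G) := fun X Y hX hY =>
    fun y hy => centralizer_le_normalizer _
      (mem_centralizer_iff.mpr fun x hx => Coprime.ea_comm hA (hX hx) (hY hy))
  have hsup : T ⊔ B = A := by
    refine le_antisymm (sup_le hT hBA) fun u hu => ?_
    by_contra huTB
    have hzu : zpowers u ≤ A := zpowers_le.mpr hu
    have hB' : T ⊓ (B ⊔ zpowers u) = ⊥ := by
      rw [eq_bot_iff]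
      rintro x ⟨hxT, hx⟩
      obtain ⟨b, hb, w, hw, rfl⟩ := (Coprime.mem_sup_of_le_normalizer (hnorm B _ hBA hzu)).mp hx
      have hw' : w ∈ T ⊔ B := by
        have : w = b⁻¹ * (b * w) := by rw [inv_mul_cancel_left]
        rw [this]
        exact (T ⊔ B).mul_mem (mem_sup_right (B.inv_mem hb)) (mem_sup_left hxT)
      have hw1 : w = 1 := by
        by_contra hne
        obtain ⟨i, rfl⟩ := hw
        have hcop : (p : ℕ).Coprime i.natAbs := (Fact.out : p.Prime).coprime_iff_not_dvd.mpr
          fun hd => hne (by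
            show u ^ i = 1
            rw [← orderOf_dvd_iff_zpow_eq_one]
            exact (Int.natCast_dvd_natCast.mpr (orderOf_dvd_of_pow_eq_one (hA.2 u hu))).trans
              (Int.natCast_dvd.mpr hd))
        refine huTB ?_
        have h1 : (p : ℤ).gcd i = 1 := hcop
        have h2 := Int.gcd_eq_gcd_ab (p : ℤ) i
        rw [h1] at h2
        have h3 : u = (u ^ (p : ℤ)) ^ (p : ℤ).gcdA i * (u ^ i) ^ (p : ℤ).gcdB i := by
          rw [← zpow_mul, ← zpow_mul, ← zpow_add, ← h2, Nat.cast_one, zpow_one]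
        rw [h3, zpow_natCast, hA.2 u hu, one_zpow, one_mul]
        exact (T ⊔ B).zpow_mem hw' _
      subst hw1
      rw [mul_one] at hxT ⊢
      exact hTB ▸ ⟨hxT, hb⟩
    have hlt : Nat.card B < Nat.card ↥(B ⊔ zpowers u) := by
      refine lt_of_le_of_ne (Nat.le_of_dvd Nat.card_pos (card_dvd_of_le le_sup_left)) fun h => ?_
      have h2 := eq_of_le_of_card_ge le_sup_left h.ge
      exact huTB (mem_sup_right (h2 ▸ mem_sup_right (mem_zpowers u)))
    exact absurd (hmax _ ⟨sup_le hBA hzu, hB'⟩) (not_le.mpr hlt)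
  refine ⟨B, hBA, hTB, hsup, ?_⟩
  rw [← Nat.card_prod, ← hsup]
  refine (Nat.card_eq_of_bijective
    (fun q : T × B => (⟨(q.1 : G) * q.2, mul_mem_sup q.1.2 q.2.2⟩ : (T ⊔ B : Subgroup G)))
    ⟨?_, fun x => ?_⟩).symm
  · rintro ⟨t, b⟩ ⟨t', b'⟩ h
    have h' : (t : G) * b = t' * b' := congrArg Subtype.val h
    have e : (t' : G)⁻¹ * t = b' * (b : G)⁻¹ := by
      rw [eq_mul_inv_iff_mul_eq, mul_assoc, h', inv_mul_cancel_left]
    have hm : (t' : G)⁻¹ * t ∈ T ⊓ B :=
      ⟨T.mul_mem (T.inv_mem t'.2) t.2, e ▸ B.mul_mem b'.2 (B.inv_mem b.2)⟩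
    rw [hTB, mem_bot, inv_mul_eq_one] at hm
    have hb : (b : G) = b' := by rw [hm] at h'; exact mul_left_cancel h'
    exact Prod.ext (Subtype.ext hm.symm) (Subtype.ext hb)
  · obtain ⟨t, ht, b, hb, h⟩ := (Coprime.mem_sup_of_le_normalizer (hnorm T B hT hBA)).mp x.2
    exact ⟨(⟨t, ht⟩, ⟨b, hb⟩), Subtype.ext h⟩

theorem card_sup_zpowers_le (hA : IsElementaryAbelian p A) {T : Subgroup G} (hT : T ≤ A) {e : G}
    (he : e ∈ A) : Nat.card ↥(T ⊔ zpowers e) ≤ p * Nat.card T := by
  have hn : zpowers e ≤ normalizer (T : Set G) := fun y hy => centralizer_le_normalizer _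
    (mem_centralizer_iff.mpr fun x hx => Coprime.ea_comm hA (hT hx) (zpowers_le.mpr he hy))
  have hz : Nat.card (zpowers e) ≤ p := by
    rw [Nat.card_zpowers]
    exact orderOf_le_of_pow_eq_one (Fact.out : p.Prime).pos (hA.2 e he)
  rw [mul_comm]
  refine le_trans ?_ (Nat.mul_le_mul_left _ hz)
  rw [← Nat.card_prod]
  refine Nat.card_le_card_of_surjective
    (fun q : T × zpowers e => (⟨(q.1 : G) * q.2, mul_mem_sup q.1.2 q.2.2⟩ :
      (T ⊔ zpowers e : Subgroup G))) fun x => ?_
  obtain ⟨b, hb, c, hc, h⟩ := (Coprime.mem_sup_of_le_normalizer hn).mp x.2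
  exact ⟨(⟨b, hb⟩, ⟨c, hc⟩), Subtype.ext h⟩

theorem hp_of_card_le {T : Subgroup G} (hA : IsElementaryAbelian p A) (hT : T ≤ A) (hne : T ≠ A)
    (h : Nat.card A ≤ p * Nat.card T) : HP p A T := by
  obtain ⟨B, -, -, hTBA, hcard⟩ := exists_compl hA hT
  obtain ⟨m, hm⟩ := Coprime.ea_card (Coprime.ea_mono hA (hTBA ▸ le_sup_right : B ≤ A))
  refine ⟨hT, ?_⟩
  rw [hcard, hm, mul_comm] at h
  have h1 : p ^ m ≤ p ^ 1 := by
    rw [pow_one]; exact Nat.le_of_mul_le_mul_right h Nat.card_pos
  rcases Nat.le_one_iff_eq_zero_or_eq_one.mp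
      ((Nat.pow_le_pow_iff_right (Fact.out : p.Prime).one_lt).mp h1) with rfl | rfl
  · rw [pow_zero, Subgroup.card_eq_one] at hm
    exact absurd (by rwa [hm, sup_bot_eq] at hTBA) hne
  · rw [hcard, hm, pow_one, mul_comm]

theorem normalizer_inf_centralizer {W : Subgroup G} {T : Subgroup G} (hA : IsElementaryAbelian p A)
    (hT : T ≤ A) (hW : A ≤ normalizer (W : Set G)) :
    A ≤ normalizer ((W ⊓ centralizer (T : Set G) : Subgroup G) : Set G) := by
  intro a ha
  refine Subgroup.mem_normalizer_iff.mpr fun x => and_congr (Subgroup.mem_normalizer_iff.mp (hW ha) x) ?_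
  simp only [SetLike.mem_coe, mem_centralizer_iff]
  constructor <;> intro h t ht
  · have hta : t * a = a * t := Coprime.ea_comm hA (hT ht) ha
    calc t * (a * x * a⁻¹) = t * a * x * a⁻¹ := by group
      _ = a * (t * x) * a⁻¹ := by rw [hta]; group
      _ = a * (x * t) * a⁻¹ := by rw [h t ht]
      _ = a * x * (t * a⁻¹) := by group
      _ = a * x * a⁻¹ * t := by
          rw [Coprime.ea_comm hA (hT ht) (A.inv_mem ha)]; group
  · have hta : t * a = a * t := Coprime.ea_comm hA (hT ht) ha
    have h1 := h t ht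
    calc t * x = a⁻¹ * (a * t) * x := by group
      _ = a⁻¹ * (t * (a * x * a⁻¹)) * a := by rw [← hta]; group
      _ = a⁻¹ * (a * x * a⁻¹ * t) * a := by rw [h1]
      _ = x * a⁻¹ * (t * a) := by group
      _ = x * t := by rw [hta]; group

/-- A `p'`-group centralized by `T < A` is generated by its centralizers of hyperplanes over `T`. -/
theorem le_of_hyperplanes (hA : IsElementaryAbelian p A) {W W' : Subgroup G}
    (hW : ¬ p ∣ Nat.card W) (hAW : A ≤ normalizer (W : Set G)) :
    ∀ (n : ℕ) (T : Subgroup G), Nat.card A - Nat.card T ≤ n → T ≤ A → T ≠ A →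
      (∀ D, HP p A D → T ≤ D → W ⊓ centralizer (D : Set G) ≤ W') →
      W ⊓ centralizer (T : Set G) ≤ W' := by
  intro n
  induction n with
  | zero =>
    intro T hn hT hne _
    have : Nat.card T < Nat.card A := lt_of_le_of_ne (Nat.le_of_dvd Nat.card_pos (card_dvd_of_le hT))
      fun h => hne (eq_of_le_of_card_ge hT h.ge)
    omega
  | succ n ih =>
    intro T hn hT hne h
    by_cases hsmall : Nat.card A ≤ p * Nat.card T
    · exact h T (hp_of_card_le hA hT hne hsmall) le_rfl
    · obtain ⟨B, hBA, hTB, -, hcard⟩ := exists_compl hA hT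
      have hB2 : p ^ 2 ≤ Nat.card B := by
        obtain ⟨m, hm⟩ := Coprime.ea_card (Coprime.ea_mono hA hBA)
        rw [hm]
        refine Nat.pow_le_pow_right (Fact.out : p.Prime).pos ?_
        by_contra hlt
        refine hsmall ?_
        rw [hcard, hm, mul_comm]
        exact Nat.mul_le_mul_right _ (le_of_le_of_eq (Nat.pow_le_pow_right
          (Fact.out : p.Prime).pos (by omega : m ≤ 1)) (pow_one p))
      refine Coprime.ea_le_of_centralizers_le (Coprime.ea_mono hA hBA) hB2
        (fun hd => hW (hd.trans (card_dvd_of_le inf_le_left)))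
        (hBA.trans (normalizer_inf_centralizer hA hT hAW)) fun b hb hb1 => ?_
      have hT' : T ⊔ zpowers b ≤ A := sup_le hT (zpowers_le.mpr (hBA hb))
      have hlt : Nat.card T < Nat.card ↥(T ⊔ zpowers b) := by
        refine lt_of_le_of_ne (Nat.le_of_dvd Nat.card_pos (card_dvd_of_le le_sup_left)) fun he => hb1 ?_
        have h2 := eq_of_le_of_card_ge le_sup_left he.ge
        have : b ∈ T ⊓ B := ⟨h2 ▸ mem_sup_right (mem_zpowers b), hb⟩
        rwa [hTB, mem_bot] at this
      have hne' : T ⊔ zpowers b ≠ A := fun he => hsmall (by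
        rw [← he]; exact card_sup_zpowers_le hA hT (hBA hb))
      refine le_trans ?_ (ih (T ⊔ zpowers b) (by omega) hT' hne'
        fun D hD hDle => h D hD (le_sup_left.trans hDle))
      rintro x ⟨⟨hxW, hxT⟩, hxb⟩
      refine ⟨hxW, mem_centralizer_iff.mpr fun y hy => ?_⟩
      have hle : T ⊔ zpowers b ≤ centralizer ({x} : Set G) := sup_le
        (fun t ht => mem_centralizer_singleton_iff.mpr (mem_centralizer_iff.mp hxT t ht))
        (zpowers_le.mpr (mem_centralizer_singleton_iff.mpr (mem_centralizer_singleton_iff.mp hxb).symm))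
      exact mem_centralizer_singleton_iff.mp (hle hy)

/-- `Y D = Δ(D) ∩ C(D)`. -/
def Y (p : ℕ) (D : Subgroup G) : Subgroup G := signalizerDelta p D ⊓ centralizer (D : Set G)

/-- The subgroup generated by the `Y D` over hyperplanes containing `T`. -/
def Th (p : ℕ) (A T : Subgroup G) : Subgroup G :=
  ⨆ D : {D : Subgroup G // HP p A D ∧ T ≤ D}, Y p (D : Subgroup G)

theorem Th_mono {T T' : Subgroup G} (h : T ≤ T') : Th p A T' ≤ Th p A T :=
  iSup_le fun D => le_iSup (fun D : {D : Subgroup G // HP p A D ∧ T ≤ D} => Y p (D : Subgroup G))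
    ⟨D.1, D.2.1, h.trans D.2.2⟩

theorem signalizerDelta_le {D : Subgroup G} {a : G} (ha : a ∈ D) (ha1 : a ≠ 1) :
    signalizerDelta p D ≤ centralizerPPrimeCore p a :=
  iInf_le (fun a : {a : G // a ∈ D ∧ a ≠ 1} => centralizerPPrimeCore p (a : G)) ⟨a, ha, ha1⟩

theorem signalizerDelta_anti {D E : Subgroup G} (h : D ≤ E) :
    signalizerDelta p E ≤ signalizerDelta p D :=
  le_iInf fun d => signalizerDelta_le (h d.2.1) d.2.2

theorem Th_le_centralizer (T : Subgroup G) : Th p A T ≤ centralizer (T : Set G) :=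
  iSup_le fun D => inf_le_right.trans (centralizer_le D.2.2)

theorem Th_le_core {T : Subgroup G} {a : G} (haT : a ∈ T) (ha1 : a ≠ 1) :
    Th p A T ≤ centralizerPPrimeCore p a :=
  iSup_le fun D => inf_le_left.trans (signalizerDelta_le (D.2.2 haT) ha1)

theorem conj_mem_core (hA : IsElementaryAbelian p A) {a b x : G} (ha : a ∈ A) (hb : b ∈ A)
    (hx : x ∈ centralizerPPrimeCore p a) : b * x * b⁻¹ ∈ centralizerPPrimeCore p a := by
  obtain ⟨y, hy, rfl⟩ := hx
  have hbC : b ∈ centralizer ({a} : Set G) :=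
    mem_centralizer_singleton_iff.mpr (Coprime.ea_comm hA hb ha)
  exact ⟨⟨b, hbC⟩ * y * ⟨b, hbC⟩⁻¹, Core.pPrimeCore_normal.conj_mem y hy _, rfl⟩

theorem le_normalizer_delta (hA : IsElementaryAbelian p A) {D : Subgroup G} (hD : D ≤ A) :
    A ≤ normalizer (signalizerDelta p D : Set G) := by
  have key : ∀ b ∈ A, ∀ x ∈ signalizerDelta p D, b * x * b⁻¹ ∈ signalizerDelta p D := by
    intro b hb x hx
    simp only [signalizerDelta, mem_iInf] at hx ⊢
    exact fun d => conj_mem_core hA (hD d.2.1) hb (hx d)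
  intro b hb
  refine Subgroup.mem_normalizer_iff.mpr fun x => ⟨key b hb x, fun h => ?_⟩
  have := key b⁻¹ (A.inv_mem hb) _ h
  simpa [mul_assoc] using this

theorem le_normalizer_Th (hA : IsElementaryAbelian p A) (T : Subgroup G) :
    A ≤ normalizer (Th p A T : Set G) := by
  intro b hb
  refine mem_normalizer_iff_map_conj_eq.mpr ?_
  rw [Th, Subgroup.map_iSup]
  refine iSup_congr fun D => ?_
  refine mem_normalizer_iff_map_conj_eq.mp ?_
  exact normalizer_inf_centralizer hA D.2.1.1 (le_normalizer_delta hA D.2.1.1) hb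

theorem not_dvd_core (a : G) : ¬ p ∣ Nat.card ↥(centralizerPPrimeCore p a) := by
  rw [centralizerPPrimeCore, Subgroup.card_map_of_injective (Subgroup.subtype_injective _)]
  exact Core.not_dvd_card_pPrimeCore

variable {k : ℕ} (hA : IsElementaryAbelian p A) (hAk : p ^ (k + 2) ≤ Nat.card A)
  (hbal : ∀ E, E ≤ A → p ^ k ≤ Nat.card E → ∀ b ∈ A, b ≠ 1 →
    signalizerDelta p E ⊓ centralizer {b} ≤ centralizerPPrimeCore p b)
include hA hAk hbal

omit hA hAk in
theorem delta_transfer {E F : Subgroup G} (hE : E ≤ A) (hEk : p ^ k ≤ Nat.card E) (hF : F ≤ A) :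
    signalizerDelta p E ⊓ centralizer (F : Set G) ≤ signalizerDelta p F := fun x hx => by
  simp only [signalizerDelta, mem_iInf]
  intro d
  refine hbal E hE hEk d (hF d.2.1) d.2.2 ⟨hx.1, mem_centralizer_singleton_iff.mpr ?_⟩
  exact (mem_centralizer_iff.mp hx.2 d d.2.1).symm

variable {a : G} (ha1 : a ≠ 1) (hsolv : Group.IsSolvable ↥(centralizerPPrimeCore p a))
include ha1 hsolv

/-- The subgroup generated by the `Y D`, `T ≤ D`, meets each `C(D)` in `Y D`. -/
theorem Th_inf_eq : ∀ (n : ℕ) (T : Subgroup G), Nat.card A - Nat.card T ≤ n → T ≤ A → a ∈ T →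
    ∀ D, HP p A D → T ≤ D → Th p A T ⊓ centralizer (D : Set G) ≤ Y p D := by
  intro n
  induction n with
  | zero =>
    intro T hn hT _ D hD hTD
    have h1 := Nat.le_of_dvd Nat.card_pos (card_dvd_of_le hTD)
    have h2 := (Fact.out : p.Prime).two_le
    have h3 : 0 < Nat.card D := Nat.card_pos
    have := hD.2
    nlinarith [Nat.sub_eq_zero_iff_le.mp (Nat.le_zero.mp hn)]
  | succ n ih =>
    intro T hn hT haT D hD hTD
    have hp := (Fact.out : p.Prime)
    have hDlt : Nat.card D < Nat.card A := by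
      rw [hD.2]; exact lt_mul_of_one_lt_left Nat.card_pos hp.one_lt
    have hTlt : Nat.card T < Nat.card A :=
      (Nat.le_of_dvd Nat.card_pos (card_dvd_of_le hTD)).trans_lt hDlt
    by_cases hsmall : Nat.card A ≤ p ^ 2 * Nat.card T
    · have hTk : p ^ k ≤ Nat.card T := by
        refine Nat.le_of_mul_le_mul_left ?_ (pow_pos hp.pos 2)
        rw [← pow_add, add_comm 2 k]
        exact hAk.trans hsmall
      refine fun x hx => ⟨delta_transfer hbal hT hTk hD.1 ⟨?_, hx.2⟩, hx.2⟩
      exact (iSup_le fun D' => inf_le_left.trans (signalizerDelta_anti D'.2.2) :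
        Th p A T ≤ signalizerDelta p T) hx.1
    · rw [not_le] at hsmall
      obtain ⟨B, hBA, hTB, -, hcard⟩ := exists_compl hA hT
      have hB : IsElementaryAbelian p B := Coprime.ea_mono hA hBA
      have hB3 : p ^ 3 ≤ Nat.card B := by
        obtain ⟨m, hm⟩ := Coprime.ea_card hB
        rw [hm]
        refine Nat.pow_le_pow_right hp.pos ?_
        by_contra hlt
        refine absurd hsmall (not_lt.mpr ?_)
        rw [hcard, hm, mul_comm]
        exact Nat.mul_le_mul_right _ (Nat.pow_le_pow_right hp.pos (by omega))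
      let θ : G → Subgroup G := fun e => Th p A (T ⊔ zpowers e)
      have hgrow : ∀ e ∈ B, e ≠ 1 → Nat.card T < Nat.card ↥(T ⊔ zpowers e) := by
        intro e he he1
        refine lt_of_le_of_ne (Nat.le_of_dvd Nat.card_pos (card_dvd_of_le le_sup_left)) fun h => he1 ?_
        have h2 := eq_of_le_of_card_ge le_sup_left h.ge
        have : e ∈ T ⊓ B := ⟨h2 ▸ mem_sup_right (mem_zpowers e), he⟩
        rwa [hTB, mem_bot] at this
      have hθcore : ∀ e, θ e ≤ centralizerPPrimeCore p a := fun e =>
        Th_le_core (mem_sup_left haT) ha1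
      have hθ : IsSolvableSignalizerFunctor p B θ := by
        refine ⟨⟨fun e _ _ => ?_, fun e _ _ h =>
          not_dvd_core a (h.trans (card_dvd_of_le (hθcore e))), fun e _ _ b hb x hx => ?_,
          fun e he he1 f hf hf1 => ?_⟩, fun e _ _ => Coprime.isSolvable_of_le (hθcore e) hsolv⟩
        · exact (Th_le_centralizer _).trans
            (centralizer_le (Set.singleton_subset_iff.mpr (mem_sup_right (mem_zpowers e))))
        · exact (Subgroup.mem_normalizer_iff.mp (le_normalizer_Th hA _ (hBA hb)) x).mp hx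
        · set T' := T ⊔ zpowers e ⊔ zpowers f
          have hTe : T ⊔ zpowers e ≤ A := sup_le hT (zpowers_le.mpr (hBA he))
          have hT' : T' ≤ A := sup_le hTe (zpowers_le.mpr (hBA hf))
          have hne : T' ≠ A := fun h => absurd hsmall (not_lt.mpr (by
            rw [← h]
            refine (card_sup_zpowers_le hA hTe (hBA hf)).trans ?_
            rw [pow_two, mul_assoc]
            exact Nat.mul_le_mul_left _ (card_sup_zpowers_le hA hT (hBA he))))
          refine le_trans ?_ (le_of_hyperplanes hA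
            (fun h => not_dvd_core a (h.trans (card_dvd_of_le (hθcore e))))
            (le_normalizer_Th hA _) _ T' le_rfl hT' hne (W' := θ f) fun D' hD' hle => ?_)
          · rintro x ⟨hx, hxf⟩
            refine ⟨hx, mem_centralizer_iff.mpr fun y hy => ?_⟩
            have hle : T' ≤ centralizer ({x} : Set G) := sup_le
              (fun t ht => mem_centralizer_singleton_iff.mpr
                (mem_centralizer_iff.mp (Th_le_centralizer _ hx) t ht))
              (zpowers_le.mpr (mem_centralizer_singleton_iff.mpr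
                (mem_centralizer_singleton_iff.mp hxf).symm))
            exact mem_centralizer_singleton_iff.mp (hle hy)
          · refine (ih (T ⊔ zpowers e) (by have := hgrow e he he1; omega) hTe (mem_sup_left haT) D'
              hD' (le_sup_left.trans hle)).trans ?_
            exact le_iSup (fun D : {D : Subgroup G // HP p A D ∧ T ⊔ zpowers f ≤ D} =>
              Y p (D : Subgroup G)) ⟨D', hD',
                (sup_le (le_sup_left.trans le_sup_left) le_sup_right).trans hle⟩
      obtain ⟨-, hspec⟩ := Signalizer.closure_spec hB hB3 hθ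
      -- every hyperplane meets `B`
      have hmeet : ∀ D', HP p A D' → ∃ e ∈ B, e ≠ 1 ∧ e ∈ D' := by
        intro D' hD'
        by_contra hnone
        have hinj : Function.Injective fun q : D' × B =>
            (⟨(q.1 : G) * q.2, A.mul_mem (hD'.1 q.1.2) (hBA q.2.2)⟩ : A) := by
          rintro ⟨d, b⟩ ⟨d', b'⟩ h
          have h' : (d : G) * b = d' * b' := congrArg Subtype.val h
          have e : (d' : G)⁻¹ * d = b' * (b : G)⁻¹ := by
            rw [eq_mul_inv_iff_mul_eq, mul_assoc, h', inv_mul_cancel_left]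
          have h1 : (d' : G)⁻¹ * d = 1 := by
            by_contra h1
            exact hnone ⟨_, e ▸ B.mul_mem b'.2 (B.inv_mem b.2), h1,
              D'.mul_mem (D'.inv_mem d'.2) d.2⟩
          rw [inv_mul_eq_one] at h1
          have hb : (b : G) = b' := by rw [h1] at h'; exact mul_left_cancel h'
          exact Prod.ext (Subtype.ext h1.symm) (Subtype.ext hb)
        have h2 := Nat.card_le_card_of_injective _ hinj
        rw [Nat.card_prod, hD'.2, mul_comm p] at h2
        have h3 := Nat.le_of_mul_le_mul_left h2 Nat.card_pos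
        have h4 : p < p ^ 3 := by
          calc p = p ^ 1 := (pow_one p).symm
            _ < p ^ 3 := Nat.pow_lt_pow_right hp.one_lt (by norm_num)
        omega
      have hle : Th p A T ≤ signalizerClosure B θ := iSup_le fun D' => by
        obtain ⟨e, he, he1, heD⟩ := hmeet D'.1 D'.2.1
        refine le_trans ?_ (le_iSup (fun b : {b : G // b ∈ B ∧ b ≠ 1} => θ b) ⟨e, he, he1⟩)
        exact le_iSup (fun D : {D : Subgroup G // HP p A D ∧ T ⊔ zpowers e ≤ D} => Y p (D : Subgroup G))
          ⟨D'.1, D'.2.1, sup_le D'.2.2 (zpowers_le.mpr heD)⟩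
      obtain ⟨e, he, he1, heD⟩ := hmeet D hD
      rintro x ⟨hxT, hxD⟩
      refine ih (T ⊔ zpowers e) (by have := hgrow e he he1; omega)
        (sup_le hT (zpowers_le.mpr (hBA he))) (mem_sup_left haT) D hD
        (sup_le hTD (zpowers_le.mpr heD)) ⟨hspec e he he1 ⟨hle hxT, ?_⟩, hxD⟩
      exact centralizer_le (Set.singleton_subset_iff.mpr heD) hxD

omit ha1 hsolv in
/-- The k-balanced functor is the functor of hyperplanes. -/
theorem iSup_delta_eq {a : G} (ha : a ∈ A) :
    (⨆ D : {D : Subgroup G // D ≤ A ∧ Nat.card ↥D = p ^ k},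
      signalizerDelta p (D : Subgroup G) ⊓ centralizer {a}) = Th p A (zpowers a) := by
  have hp := (Fact.out : p.Prime)
  refine le_antisymm (iSup_le fun E => ?_) (iSup_le fun D => ?_)
  · have hne : zpowers a ≠ A := fun h => by
      have h1 : Nat.card (zpowers a) ≤ p := by
        rw [Nat.card_zpowers]
        exact orderOf_le_of_pow_eq_one hp.pos (hA.2 a ha)
      rw [h] at h1
      have h2 : p ^ 2 ≤ Nat.card A := (Nat.pow_le_pow_right hp.pos (by omega)).trans hAk
      nlinarith [hp.two_le]
    have hp' : ¬ p ∣ Nat.card ↥(signalizerDelta p (E : Subgroup G) ⊓ centralizer ({a} : Set G)) := by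
      rcases eq_or_ne a 1 with rfl | ha1
      · by_cases hk : ∃ e ∈ (E : Subgroup G), e ≠ 1
        · obtain ⟨e, he, he1⟩ := hk
          exact fun hd => not_dvd_core e (hd.trans
            (card_dvd_of_le (inf_le_left.trans (signalizerDelta_le he he1))))
        · push Not at hk
          exfalso
          obtain ⟨b, hb, hb1⟩ : ∃ b ∈ A, b ≠ (1 : G) := by
            by_contra hcon
            push Not at hcon
            exact Coprime.ea_ne_bot (n := k + 2) (by omega) hAk
              (eq_bot_iff.mpr fun x hx => mem_bot.mpr (hcon x hx))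
          have hE : (E : Subgroup G) = ⊥ := eq_bot_iff.mpr fun x hx => mem_bot.mpr (hk x hx)
          have h1 : signalizerDelta p (E : Subgroup G) = ⊤ := by
            rw [hE]; exact eq_top_iff.mpr (le_iInf fun d => absurd (mem_bot.mp d.2.1) d.2.2)
          have h2 := hbal _ E.2.1 E.2.2.ge _ hb hb1
          rw [h1, top_inf_eq] at h2
          refine not_dvd_core (p := p) (b : G) ((?_ : p ∣ Nat.card ↥(centralizer ({(b : G)} : Set G))).trans
            (card_dvd_of_le h2))
          rw [← Coprime.ea_orderOf hA hb hb1]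
          exact Subgroup.orderOf_dvd_natCard _ (mem_centralizer_singleton_iff.mpr rfl)
      · exact fun hd => not_dvd_core a (hd.trans
          (card_dvd_of_le (hbal _ E.2.1 E.2.2.ge a ha ha1)))
    have hn : A ≤ normalizer ((signalizerDelta p (E : Subgroup G) ⊓ centralizer ({a} : Set G) :
        Subgroup G) : Set G) := by
      have := normalizer_inf_centralizer hA (zpowers_le.mpr ha) (le_normalizer_delta (p := p) hA E.2.1)
      rwa [zpowers_eq_closure, centralizer_closure] at this
    refine le_trans ?_ (le_of_hyperplanes hA hp' hn _ (zpowers a) le_rfl (zpowers_le.mpr ha) hne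
      (W' := Th p A (zpowers a)) fun D hD hle => ?_)
    · refine le_inf le_rfl (inf_le_right.trans ?_)
      rw [zpowers_eq_closure, centralizer_closure]
    · refine le_trans ?_ (le_iSup (fun D : {D : Subgroup G // HP p A D ∧ zpowers a ≤ D} =>
        Y p (D : Subgroup G)) ⟨D, hD, hle⟩)
      exact fun x hx => ⟨delta_transfer hbal E.2.1 E.2.2.ge hD.1 ⟨hx.1.1, hx.2⟩, hx.2⟩
  · have hDk : p ^ k ≤ Nat.card (D : Subgroup G) := by
      refine Nat.le_of_mul_le_mul_left ?_ hp.pos
      rw [← D.2.1.2, ← pow_succ']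
      exact (Nat.pow_le_pow_right hp.pos (by omega)).trans hAk
    obtain ⟨E, hED, hE⟩ := Coprime.ea_exists_le_card hDk (Coprime.ea_mono hA D.2.1.1)
    refine le_trans ?_ (le_iSup (fun D : {D : Subgroup G // D ≤ A ∧ Nat.card ↥D = p ^ k} =>
      signalizerDelta p (D : Subgroup G) ⊓ centralizer {a}) ⟨E, hED.trans D.2.1.1, hE⟩)
    exact inf_le_inf (signalizerDelta_anti hED)
      (centralizer_le (Set.singleton_subset_iff.mpr (D.2.2 (mem_zpowers a))))

omit ha1 hsolv in
/-- The k-balanced functor is a signalizer functor when the cores are solvable. -/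
theorem isSignalizerFunctor
    (hs : ∀ a ∈ A, a ≠ 1 → Group.IsSolvable ↥(centralizerPPrimeCore p a)) :
    IsSignalizerFunctor p A (fun a => ⨆ D : {D : Subgroup G // D ≤ A ∧ Nat.card ↥D = p ^ k},
      signalizerDelta p (D : Subgroup G) ⊓ centralizer {a}) := by
  have hp := (Fact.out : p.Prime)
  refine ⟨fun a _ _ => iSup_le fun D => inf_le_right, fun a ha ha1 => ?_,
    fun a ha _ b hb x hx => ?_, fun a ha ha1 b hb hb1 => ?_⟩
  all_goals beta_reduce
  · exact fun h => not_dvd_core a (h.trans (card_dvd_of_le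
      (iSup_le fun D => hbal _ D.2.1 D.2.2.ge a ha ha1)))
  · beta_reduce at hx
    rw [iSup_delta_eq hA hAk hbal ha] at hx ⊢
    exact (Subgroup.mem_normalizer_iff.mp (le_normalizer_Th hA _ hb) x).mp hx
  · rw [iSup_delta_eq hA hAk hbal ha, iSup_delta_eq hA hAk hbal hb]
    set T' := zpowers a ⊔ zpowers b
    have haA : zpowers a ≤ A := zpowers_le.mpr ha
    have hne : T' ≠ A := fun h => by
      have h1 : Nat.card T' ≤ p * p := (card_sup_zpowers_le hA haA hb).trans
        (Nat.mul_le_mul_left _ (by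
          rw [Nat.card_zpowers]; exact orderOf_le_of_pow_eq_one hp.pos (hA.2 a ha)))
      rw [h] at h1
      have hk : 1 ≤ k := by
        by_contra hk0
        obtain rfl : k = 0 := by omega
        obtain ⟨E, hE, hEc⟩ := Coprime.ea_exists_le_card (A := A) (n := 0)
          (by simpa using Nat.one_le_iff_ne_zero.mpr Nat.card_pos.ne') hA
        have hE1 : E = ⊥ := Subgroup.card_eq_one.mp (by simpa using hEc)
        have hd := hbal E hE hEc.ge a ha ha1
        rw [hE1, show signalizerDelta p (⊥ : Subgroup G) = ⊤ from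
          eq_top_iff.mpr (le_iInf fun d => absurd (mem_bot.mp d.2.1) d.2.2), top_inf_eq] at hd
        refine not_dvd_core (p := p) a ((?_ : p ∣ Nat.card ↥(centralizer ({a} : Set G))).trans
          (card_dvd_of_le hd))
        rw [← Coprime.ea_orderOf hA ha ha1]
        exact Subgroup.orderOf_dvd_natCard _ (mem_centralizer_singleton_iff.mpr rfl)
      have : p ^ 3 ≤ p * p := ((Nat.pow_le_pow_right hp.pos (by omega)).trans hAk).trans h1
      nlinarith [hp.two_le, mul_pos hp.pos hp.pos]
    refine le_trans ?_ (le_of_hyperplanes hA (W := Th p A (zpowers a))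
      (fun h => not_dvd_core a (h.trans (card_dvd_of_le (Th_le_core (mem_zpowers a) ha1))))
      (le_normalizer_Th hA _) _ T' le_rfl (sup_le haA (zpowers_le.mpr hb)) hne
      (W' := Th p A (zpowers b)) fun D hD hle => ?_)
    · rintro x ⟨hx, hxb⟩
      refine ⟨hx, mem_centralizer_iff.mpr fun y hy => ?_⟩
      have hle : T' ≤ centralizer ({x} : Set G) := sup_le
        (fun t ht => mem_centralizer_singleton_iff.mpr
          (mem_centralizer_iff.mp (Th_le_centralizer _ hx) t ht))
        (zpowers_le.mpr (mem_centralizer_singleton_iff.mpr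
          (mem_centralizer_singleton_iff.mp hxb).symm))
      exact mem_centralizer_singleton_iff.mp (hle hy)
    · refine (Th_inf_eq hA hAk hbal ha1 (hs a ha ha1) _ _ le_rfl haA (mem_zpowers a) D hD
        (le_sup_left.trans hle)).trans ?_
      exact le_iSup (fun D : {D : Subgroup G // HP p A D ∧ zpowers b ≤ D} => Y p (D : Subgroup G))
        ⟨D, hD, le_sup_right.trans hle⟩

end Cfsg.Agent.Signalizer.KBal
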