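import Cfsg.Agent.Coprime.Elementary
import Cfsg.Prelude.Def_Balance

/-!
Elementary properties of the family of a solvable signalizer functor.
-/

set_option autoImplicit false

open Subgroup
open scoped Pointwise

namespace Cfsg.Agent.Signalizer

open Cfsg Cfsg.Agent.Coprime

universe u

variable {G : Type u} [Group G] [Finite G] {p : ℕ} {A : Subgroup G} {θ : G → Subgroup G}

theorem le_normalizer_iff_conj {U : Subgroup G} :
    A ≤ normalizer (U : Set G) ↔ ∀ b ∈ A, ∀ u ∈ U, b * u * b⁻¹ ∈ U := by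
  refine ⟨fun h b hb u hu => (mem_normalizer_iff.mp (h hb) u).mp hu, fun h b hb => ?_⟩
  rw [mem_normalizer_iff]
  refine fun u => ⟨fun hu => h b hb u hu, fun hu => ?_⟩
  have := h b⁻¹ (A.inv_mem hb) _ hu
  simpa [mul_assoc] using this

theorem mem_family_iff {U : Subgroup G} :
    U ∈ signalizerFamily p A θ ↔ Group.IsSolvable U ∧ ¬ p ∣ Nat.card U ∧
      A ≤ normalizer (U : Set G) ∧ ∀ a ∈ A, a ≠ 1 → U ⊓ centralizer {a} ≤ θ a := by
  rw [le_normalizer_iff_conj]
  rfl

section Member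

variable {U V : Subgroup G}

theorem isSolvable_of_mem (h : U ∈ signalizerFamily p A θ) : Group.IsSolvable U := h.1

theorem not_dvd_of_mem (h : U ∈ signalizerFamily p A θ) : ¬ p ∣ Nat.card U := h.2.1

theorem le_normalizer_of_mem (h : U ∈ signalizerFamily p A θ) : A ≤ normalizer (U : Set G) :=
  le_normalizer_iff_conj.mpr h.2.2.1

theorem inf_le_theta (h : U ∈ signalizerFamily p A θ) {a : G} (ha : a ∈ A) (ha1 : a ≠ 1) :
    U ⊓ centralizer {a} ≤ θ a :=
  h.2.2.2 a ha ha1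

theorem mem_of_le (h : U ∈ signalizerFamily p A θ) (hV : V ≤ U)
    (hAV : A ≤ normalizer (V : Set G)) : V ∈ signalizerFamily p A θ :=
  mem_family_iff.mpr ⟨isSolvable_of_le hV h.1,
    fun hd => h.2.1 (hd.trans (card_dvd_of_le hV)), hAV,
    fun a ha ha1 => (inf_le_inf_right _ hV).trans (h.2.2.2 a ha ha1)⟩

theorem coprime_of_mem [Fact p.Prime] (hA : IsElementaryAbelian p A)
    (h : U ∈ signalizerFamily p A θ) : (Nat.card A).Coprime (Nat.card U) :=
  ea_coprime hA h.2.1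

end Member

theorem theta_le_centralizer (hθ : IsSolvableSignalizerFunctor p A θ) {a : G} (ha : a ∈ A)
    (ha1 : a ≠ 1) : θ a ≤ centralizer {a} :=
  hθ.1.1 a ha ha1

theorem le_normalizer_theta (hθ : IsSolvableSignalizerFunctor p A θ) {a : G} (ha : a ∈ A)
    (ha1 : a ≠ 1) : A ≤ normalizer (θ a : Set G) :=
  le_normalizer_iff_conj.mpr fun b hb => hθ.1.2.2.1 a ha ha1 b hb

theorem balance (hθ : IsSolvableSignalizerFunctor p A θ) {a b : G} (ha : a ∈ A) (ha1 : a ≠ 1)
    (hb : b ∈ A) (hb1 : b ≠ 1) : θ a ⊓ centralizer {b} ≤ θ b :=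
  hθ.1.2.2.2 a ha ha1 b hb hb1

theorem theta_mem (hθ : IsSolvableSignalizerFunctor p A θ) {a : G} (ha : a ∈ A) (ha1 : a ≠ 1) :
    θ a ∈ signalizerFamily p A θ :=
  mem_family_iff.mpr ⟨hθ.2 a ha ha1, hθ.1.2.1 a ha ha1, le_normalizer_theta hθ ha ha1,
    fun _ hb hb1 => balance hθ ha ha1 hb hb1⟩

theorem signalizerInf_le {B : Subgroup G} {a : G} (ha : a ∈ B) (ha1 : a ≠ 1) :
    signalizerInf B θ ≤ θ a :=
  iInf_le (fun a : {a : G // a ∈ B ∧ a ≠ 1} => θ (a : G)) ⟨a, ha, ha1⟩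

theorem le_signalizerInf {B U : Subgroup G} (h : ∀ a ∈ B, a ≠ 1 → U ≤ θ a) :
    U ≤ signalizerInf B θ :=
  le_iInf fun a : {a : G // a ∈ B ∧ a ≠ 1} => h a a.2.1 a.2.2

theorem signalizerInf_le_centralizer (hθ : IsSolvableSignalizerFunctor p A θ) {B : Subgroup G}
    (hB : B ≤ A) : signalizerInf B θ ≤ centralizer (B : Set G) := by
  intro x hx
  rw [mem_centralizer_iff]
  intro b hb
  by_cases hb1 : b = 1
  · simp [hb1]
  · exact mem_centralizer_iff.mp
      (theta_le_centralizer hθ (hB hb) hb1 (signalizerInf_le hb hb1 hx)) b rfl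

theorem le_normalizer_signalizerInf (hθ : IsSolvableSignalizerFunctor p A θ) {B : Subgroup G}
    (hB : B ≤ A) : A ≤ normalizer (signalizerInf B θ : Set G) := by
  rw [le_normalizer_iff_conj]
  intro c hc u hu
  have : c * u * c⁻¹ ∈ ⨅ a : {a : G // a ∈ B ∧ a ≠ 1}, θ (a : G) :=
    mem_iInf.mpr fun a => hθ.1.2.2.1 a (hB a.2.1) a.2.2 c hc u (signalizerInf_le a.2.1 a.2.2 hu)
  exact this

theorem signalizerInf_mem (hθ : IsSolvableSignalizerFunctor p A θ) {B : Subgroup G}
    (hB : B ≤ A) (hB1 : B ≠ ⊥) : signalizerInf B θ ∈ signalizerFamily p A θ := by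
  obtain ⟨b, hb, hb1⟩ := (B.bot_or_exists_ne_one).resolve_left hB1
  exact mem_of_le (theta_mem hθ (hB hb) hb1) (signalizerInf_le hb hb1)
    (le_normalizer_signalizerInf hθ hB)

/-- `U ⊓ C(B) ≤ θ(B)` for a member `U`. -/
theorem inf_centralizer_le_signalizerInf {U B : Subgroup G} (h : U ∈ signalizerFamily p A θ)
    (hB : B ≤ A) : U ⊓ centralizer (B : Set G) ≤ signalizerInf B θ :=
  le_signalizerInf fun _ ha ha1 =>
    (inf_le_inf_left _ (centralizer_le (Set.singleton_subset_iff.mpr ha))).trans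
      (inf_le_theta h (hB ha) ha1)

/-- Members normalising one another generate a member. -/
theorem sup_mem [Fact p.Prime] (hA : IsElementaryAbelian p A) {X Y : Subgroup G}
    (hX : X ∈ signalizerFamily p A θ) (hY : Y ∈ signalizerFamily p A θ)
    (hn : Y ≤ normalizer (X : Set G)) : X ⊔ Y ∈ signalizerFamily p A θ := by
  have hAX := le_normalizer_of_mem hX
  have hAY := le_normalizer_of_mem hY
  have hle : X ⊔ Y ≤ normalizer (X : Set G) := sup_le Subgroup.le_normalizer hn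
  have : (X.subgroupOf (X ⊔ Y)).Normal := normal_subgroupOf_of_le_normalizer hle
  have hsurj : Function.Surjective ((QuotientGroup.mk' (X.subgroupOf (X ⊔ Y))).comp
      (Subgroup.inclusion (le_sup_right : Y ≤ X ⊔ Y))) := by
    intro q
    obtain ⟨⟨z, hz⟩, rfl⟩ := QuotientGroup.mk_surjective q
    obtain ⟨x, hx, y, hy, rfl⟩ := (mem_sup_of_le_normalizer hn).mp hz
    refine ⟨⟨y, hy⟩, ?_⟩
    refine (QuotientGroup.eq (s := X.subgroupOf (X ⊔ Y))).mpr ?_
    rw [mem_subgroupOf]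
    have := (mem_normalizer_iff''.mp (hn hy) x).mp hx
    simpa [mul_assoc] using this
  have hdvd : Nat.card (X ⊔ Y : Subgroup G) ∣ Nat.card X * Nat.card Y := by
    rw [← card_mul_relIndex_of_le (le_sup_left : X ≤ X ⊔ Y)]
    exact Nat.mul_dvd_mul_left _ (Subgroup.card_dvd_of_surjective _ hsurj)
  refine mem_family_iff.mpr ⟨?_, ?_, le_normalizer_sup hAX hAY, fun a ha ha1 => ?_⟩
  · have h1 := isSolvable_subgroupOf (X ⊔ Y) hX.1
    have h2 : Group.IsSolvable ((X ⊔ Y : Subgroup G) ⧸ X.subgroupOf (X ⊔ Y)) :=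
      have := hY.1
      Group.isSolvable_of_surjective hsurj
    exact Group.isSolvable_of_ker_le_range (X.subgroupOf (X ⊔ Y)).subtype
      (QuotientGroup.mk' (X.subgroupOf (X ⊔ Y))) (by simp)
  · intro hd
    exact (Fact.out : p.Prime).not_dvd_mul hX.2.1 hY.2.1 (hd.trans hdvd)
  · rintro z ⟨hz, hzc⟩
    obtain ⟨x, hx, y, hy, rfl⟩ := (mem_sup_of_le_normalizer hn).mp hz
    have hz' : zpowers a ≤ A := zpowers_le.mpr ha
    have hc : x * y ∈ centralizer (zpowers a : Set G) := by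
      rwa [zpowers_eq_closure, centralizer_closure]
    have hsub : centralizer (zpowers a : Set G) ≤ centralizer {a} :=
      centralizer_le (Set.singleton_subset_iff.mpr (mem_zpowers a))
    obtain ⟨x', hx', y', hy', e⟩ := exists_fixed_mul
      (isSolvable_of_le hz' (ea_isSolvable hA)) (hz'.trans hAX) (hz'.trans hAY)
      (((ea_coprime hA hX.2.1).coprime_dvd_left (card_dvd_of_le hz')).coprime_dvd_right
        (card_dvd_of_le inf_le_left)) hx hy hc
    rw [← e]
    exact mul_mem (inf_le_theta hX ha ha1 ⟨hx'.1, hsub hx'.2⟩)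
      (inf_le_theta hY ha ha1 ⟨hy'.1, hsub hy'.2⟩)

/-- A member is generated by its intersections with the `θ a`, `a` in a noncyclic subgroup. -/
theorem le_of_inf_theta_le [Fact p.Prime] (hA : IsElementaryAbelian p A) {B U W : Subgroup G}
    (hB : B ≤ A) (hB2 : p ^ 2 ≤ Nat.card B) (hU : U ∈ signalizerFamily p A θ)
    (h : ∀ b ∈ B, b ≠ 1 → U ⊓ θ b ≤ W) : U ≤ W :=
  ea_le_of_centralizers_le (ea_mono hA hB) hB2 hU.2.1 (hB.trans (le_normalizer_of_mem hU))
    fun b hb hb1 => (le_inf inf_le_left (inf_le_theta hU (hB hb) hb1)).trans (h b hb hb1)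

theorem le_signalizerClosure [Fact p.Prime] (hA : IsElementaryAbelian p A) {B U : Subgroup G}
    (hB : B ≤ A) (hB2 : p ^ 2 ≤ Nat.card B) (hU : U ∈ signalizerFamily p A θ) :
    U ≤ signalizerClosure B θ :=
  le_of_inf_theta_le hA hB hB2 hU fun b hb hb1 =>
    inf_le_right.trans (le_iSup (fun a : {a : G // a ∈ B ∧ a ≠ 1} => θ (a : G)) ⟨b, hb, hb1⟩)

end Cfsg.Agent.Signalizer
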