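import Cfsg.Agent.AbCentFpf.Derived
import Cfsg.Agent.AbCentFpf.Lemmas
import Cfsg.Agent.CoprimeFixed.Main
import Cfsg.Agent.Coprime.Elementary
import Cfsg.Agent.FixedPointFree.Prime
import Cfsg.Agent.Layer.PConstraint
import Cfsg.Agent.Fusion.SolvablePSolvable
import Cfsg.Agent.S0012

/-!
Criteria for a `q`-subgroup of a solvable group to lie in the `q`-core, stated through the
fixed points of coprime operators on the Fitting layers of `K / O_q(K)`.
-/

set_option autoImplicit false
set_option linter.unusedSectionVars false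

open Subgroup
open scoped commutatorElement

namespace Cfsg.Agent.Signalizer

open Cfsg Cfsg.Agent.AbCentFpf

universe u

variable {Γ : Type u} [Group Γ] [Finite Γ]

/-- A chief-layer of `K / O_q(K)` seen from the normaliser of `K`. -/
structure Layering (q : ℕ) (K : Subgroup Γ) where
  H : Type u
  [grp : Group H]
  [fin : Finite H]
  f : ↥(normalizer (K : Set Γ)) →* H
  r : ℕ
  prime : r.Prime
  ne : r ≠ q
  V : Subgroup H
  normal : ∀ x, f x ∈ normalizer (V : Set H)
  ea : Cfsg.IsElementaryAbelian r V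
  le : ∀ x, f x ∈ V → (x : Γ) ∈ K
  range : V ≤ f.range
  qr : ∀ s : ℕ, s.Prime → s ∣ Nat.card (V.comap f) → s = q ∨ s = r

attribute [instance] Layering.grp Layering.fin

variable {q : ℕ} [Fact q.Prime] {K Y Q : Subgroup Γ}

/-- It is enough to centralise every layer. -/
theorem le_cor_of_layers (hK : Group.IsSolvable K) (hYK : Y ≤ K) (hY : IsPGroup q Y)
    (h : ∀ L : Layering q K, ∀ y : ↥(normalizer (K : Set Γ)), (y : Γ) ∈ Y →
      L.f y ∈ centralizer (L.V : Set L.H)) : Y ≤ Cor q K := by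
  set N := normalizer (K : Set Γ) with hN
  have hKN : K ≤ N := le_normalizer
  set C := (Cor q K).subgroupOf N with hC
  have hCn : C.Normal :=
    normal_subgroupOf_of_le_normalizer (normalizer_le_cor q)
  set f₁ := QuotientGroup.mk' C with hf₁
  have hK'n : (K.subgroupOf N).Normal := normal_subgroupOf_of_le_normalizer le_rfl
  set Kb := (K.subgroupOf N).map f₁ with hKb
  have hKbn : Kb.Normal := hK'n.map _ (QuotientGroup.mk'_surjective C)
  have hKbs : Group.IsSolvable Kb := Coprime.isSolvable_map _ (Coprime.isSolvable_subgroupOf N hK)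
  have hker : ∀ x : N, f₁ x ∈ Kb → (x : Γ) ∈ K := by
    rintro x ⟨k, hk, e⟩
    have hm : k⁻¹ * x ∈ C := (QuotientGroup.eq).mp e
    have := K.mul_mem hk (cor_le q hm)
    simpa using this
  have hO : Cor q Kb = ⊥ := by
    have hn : (Cor q Kb).Normal := by
      rw [← normalizer_eq_top_iff, eq_top_iff, ← normalizer_eq_top_iff.mpr hKbn]
      exact normalizer_le_cor q
    set D := ((Cor q Kb).comap f₁).map N.subtype with hD
    have hDK : D ≤ K := by
      rintro _ ⟨x, hx, rfl⟩
      exact hker x (cor_le q hx)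
    have hDn : K ≤ normalizer (D : Set Γ) := by
      have hDn' : ((Cor q Kb).comap f₁).Normal := inferInstance
      refine hKN.trans (le_trans ?_ (le_normalizer_map N.subtype))
      rw [normalizer_eq_top_iff.mpr hDn', ← MonoidHom.range_eq_map, range_subtype]
    have hDp : IsPGroup q D := by
      refine IsPGroup.map ?_ _
      refine (cor_isPGroup q).comap_of_ker_isPGroup f₁ ?_
      rw [hf₁, QuotientGroup.ker_mk']
      exact (cor_isPGroup q).comap_of_injective N.subtype N.subtype_injective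
    have hDC : D ≤ Cor q K := le_cor hDK hDn hDp
    rw [eq_bot_iff]
    intro z hz
    obtain ⟨x, rfl⟩ := QuotientGroup.mk'_surjective C z
    exact mem_bot.mpr ((QuotientGroup.eq_one_iff x).mpr (hDC ⟨x, hz, rfl⟩))
  suffices hmain : ∀ y : N, (y : Γ) ∈ Y → f₁ y ∈ centralizer (Ftg Kb : Set (↥N ⧸ C)) by
    intro y hy
    have hyK : f₁ ⟨y, hKN (hYK hy)⟩ ∈ Kb := mem_map_of_mem _ (show (⟨y, _⟩ : N) ∈ K.subgroupOf N from hYK hy)
    have hF : (Y.subgroupOf N).map f₁ ≤ Ftg Kb := by
      rintro _ ⟨z, hz, rfl⟩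
      exact centralizer_ftg_le hKbs (mem_map_of_mem _ (show z ∈ K.subgroupOf N from hYK hz))
        fun w hw => mem_centralizer_iff.mp (hmain z hz) w hw
    have h2 := le_cor_of_le_ftg (IsPGroup.map (hY.comap_of_injective N.subtype N.subtype_injective) f₁) hF
    rw [hO] at h2
    have h3 : f₁ ⟨y, hKN (hYK hy)⟩ = 1 := mem_bot.mp (h2 (mem_map_of_mem _ (show (⟨y, _⟩ : N) ∈ Y.subgroupOf N from hy)))
    exact (QuotientGroup.eq_one_iff (N := C) _).mp h3
  intro y hy
  rw [← zpowers_le, Subgroup.le_centralizer_iff]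
  refine ftg_le_of_cor fun r hr => ?_
  rw [Subgroup.le_centralizer_iff, zpowers_le]
  have := Fact.mk hr
  by_cases hrq : r = q
  · subst hrq
    rw [hO, mem_centralizer_iff]
    intro w hw
    rw [mem_bot.mp hw, one_mul, mul_one]
  set R := Cor r Kb with hR
  have hRn : R.Normal := by
    rw [← normalizer_eq_top_iff, eq_top_iff, ← normalizer_eq_top_iff.mpr hKbn]
    exact normalizer_le_cor r
  set Φ := (frattini R).map R.subtype with hΦ
  have hΦn : Φ.Normal := ConjAct.normal_of_characteristic_of_normal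
  set f₂ := QuotientGroup.mk' Φ with hf₂
  set V := R.map f₂ with hV
  have hVn : V.Normal := hRn.map _ (QuotientGroup.mk'_surjective Φ)
  obtain ⟨hc, hpow⟩ := S0012.result r (cor_isPGroup r : IsPGroup r R)
  have hVea : Cfsg.IsElementaryAbelian r V := by
    refine ⟨⟨⟨?_⟩⟩, ?_⟩
    · rintro ⟨_, a, ha, rfl⟩ ⟨_, b, hb, rfl⟩
      refine Subtype.ext ?_
      show f₂ a * f₂ b = f₂ b * f₂ a
      rw [← commutatorElement_eq_one_iff_mul_comm, ← map_commutatorElement]
      exact (QuotientGroup.eq_one_iff _).mpr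
        ⟨⁅⟨a, ha⟩, ⟨b, hb⟩⁆, hc (commutator_mem_commutator (mem_top _) (mem_top _)), rfl⟩
    · rintro _ ⟨a, ha, rfl⟩
      rw [← map_pow]
      exact (QuotientGroup.eq_one_iff _).mpr ⟨(⟨a, ha⟩ : R) ^ r, hpow _, rfl⟩
  have hle : ∀ x : N, f₂ (f₁ x) ∈ V → (x : Γ) ∈ K := by
    rintro x ⟨k, hk, e⟩
    refine hker x ?_
    have hm : k⁻¹ * f₁ x ∈ Φ := (QuotientGroup.eq).mp e
    have := Kb.mul_mem (cor_le r hk) (cor_le r (map_subtype_le _ hm))
    simpa using this
  let L : Layering q K :=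
    { H := (↥N ⧸ C) ⧸ Φ
      f := f₂.comp f₁
      r := r
      prime := hr
      ne := hrq
      V := V
      normal := fun x => by rw [normalizer_eq_top_iff.mpr hVn]; exact mem_top _
      ea := hVea
      le := hle
      range := by
        intro v _
        obtain ⟨w, rfl⟩ := QuotientGroup.mk'_surjective Φ v
        obtain ⟨x, rfl⟩ := QuotientGroup.mk'_surjective C w
        exact ⟨x, rfl⟩
      qr := by
        intro s hs hd
        have hΦR : f₂.ker ≤ R := by rw [hf₂, QuotientGroup.ker_mk']; exact map_subtype_le _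
        rw [← comap_comap, hV, comap_map_eq_self hΦR, hf₁, Core.card_comap_mk] at hd
        rcases hs.dvd_mul.mp hd with h' | h'
        · have hCp : IsPGroup q C := (cor_isPGroup q).comap_of_injective N.subtype N.subtype_injective
          obtain ⟨i, hi⟩ := IsPGroup.iff_card.mp hCp
          rw [hi] at h'
          exact Or.inl ((Nat.prime_dvd_prime_iff_eq hs Fact.out).mp (hs.dvd_of_dvd_pow h'))
        · obtain ⟨i, hi⟩ := IsPGroup.iff_card.mp (cor_isPGroup r : IsPGroup r R)
          rw [hi] at h'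
          exact Or.inr ((Nat.prime_dvd_prime_iff_eq hs hr).mp (hs.dvd_of_dvd_pow h')) }
  have hLy : f₂ (f₁ y) ∈ centralizer (V : Set ((↥N ⧸ C) ⧸ Φ)) := h L y hy
  have hyR : zpowers (f₁ y) ≤ centralizer (R : Set (↥N ⧸ C)) := by
    refine Coprime.le_centralizer_of_trivial_mod_frattini
      (zpowers_le.mpr (by rw [normalizer_eq_top_iff.mpr hRn]; exact mem_top _)) ?_ ?_
    · obtain ⟨j, hj⟩ := IsPGroup.iff_card.mp (cor_isPGroup r : IsPGroup r R)
      refine Nat.Coprime.coprime_dvd_right ((Subgroup.card_subgroup_dvd_card _).trans hj.dvd) ?_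
      rw [Nat.card_zpowers]
      obtain ⟨i, hi⟩ := IsPGroup.iff_orderOf.mp hY ⟨y, hy⟩
      have : orderOf (f₁ y) ∣ q ^ i := (orderOf_map_dvd f₁ y).trans (by
        rw [← hi, Subgroup.orderOf_mk, ← Subgroup.orderOf_coe])
      exact ((((Nat.coprime_primes hr Fact.out).mpr hrq).pow j i).symm).coprime_dvd_left this
    · intro a ha k hk
      rw [← QuotientGroup.eq_one_iff (N := Φ)]
      change f₂ (a * k * a⁻¹ * k⁻¹) = 1
      rw [map_mul, map_mul, map_mul, map_inv, map_inv]
      have ha' : f₂ a ∈ centralizer (V : Set ((↥N ⧸ C) ⧸ Φ)) := by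
        have h1 : zpowers (f₁ y) ≤ (centralizer (V : Set ((↥N ⧸ C) ⧸ Φ))).comap f₂ := zpowers_le.mpr hLy
        exact h1 ha
      rw [← mem_centralizer_iff.mp ha' _ (mem_map_of_mem f₂ hk), mul_inv_cancel_right,
        mul_inv_cancel]
  exact zpowers_le.mp hyR

/-- The image of a subgroup of the normaliser in a layer. -/
abbrev Layering.img (L : Layering q K) (X : Subgroup Γ) : Subgroup L.H :=
  (X.subgroupOf (normalizer (K : Set Γ))).map L.f

theorem Layering.img_le_normalizer (L : Layering q K) (X : Subgroup Γ) :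
    L.img X ≤ normalizer (L.V : Set L.H) := by
  rintro _ ⟨x, -, rfl⟩
  exact L.normal x

theorem Layering.img_isPGroup (L : Layering q K) {n : ℕ} {X : Subgroup Γ} (hX : IsPGroup n X) :
    IsPGroup n (L.img X) :=
  (hX.comap_of_injective (normalizer (K : Set Γ)).subtype (subtype_injective _)).map _

theorem Layering.isPGroup_V (L : Layering q K) : IsPGroup L.r L.V :=
  Coprime.ea_isPGroup L.ea

theorem Layering.coprime_img (L : Layering q K) {X : Subgroup Γ} (hX : IsPGroup q X) :
    (Nat.card (L.img X)).Coprime (Nat.card L.V) := by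
  have := Fact.mk L.prime
  obtain ⟨i, hi⟩ := IsPGroup.iff_card.mp (L.img_isPGroup hX)
  obtain ⟨j, hj⟩ := IsPGroup.iff_card.mp L.isPGroup_V
  rw [hi, hj]
  exact ((Nat.coprime_primes Fact.out L.prime).mpr L.ne.symm).pow i j

/-- A `q`-subgroup normalised by the fixed points of `g` in `K` centralises the fixed points of
`g` in every layer. -/
theorem Layering.img_le_centralizer_fixed (L : Layering q K) {g : Γ}
    (hg : g ∈ normalizer (K : Set Γ)) (hcop : (orderOf g).Coprime (Nat.card K)) (hQK : Q ≤ K)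
    (hQ : IsPGroup q Q) (hn : K ⊓ centralizer {g} ≤ normalizer (Q : Set Γ)) :
    L.img Q ≤ centralizer ((L.V ⊓ centralizer {L.f ⟨g, hg⟩} : Subgroup L.H) : Set L.H) := by
  set N := normalizer (K : Set Γ)
  set W := L.V.comap L.f with hW
  have hWn : (⊤ : Subgroup N) ≤ normalizer (W : Set N) := by
    intro x _
    rw [mem_normalizer_iff]
    intro y
    simp only [hW, mem_comap, map_mul, map_inv]
    exact mem_normalizer_iff.mp (L.normal x) _
  have hWK : W ≤ K.subgroupOf N := fun x hx => L.le x hx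
  have hkerW : L.f.ker ≤ W := ker_le_comap _ _
  have hWm : W.map L.f = L.V := map_comap_eq_self L.range
  set T : Subgroup N := zpowers ⟨g, hg⟩ with hT
  have hTcop : (Nat.card T).Coprime (Nat.card L.f.ker) := by
    rw [hT, Nat.card_zpowers, ← Subgroup.orderOf_coe]
    refine hcop.coprime_dvd_right ?_
    rw [← Coprime.card_subgroupOf (le_normalizer : K ≤ N)]
    exact card_dvd_of_le (hkerW.trans hWK)
  have h1 := Coprime.map_inf_centralizer L.f (A := T) (K := W) (le_top.trans hWn) hkerW hTcop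
    (Or.inl (Group.isSolvable_of_comm fun a b => mul_comm' a b))
  rw [hWm, hT, MonoidHom.map_zpowers, FixedPointFree.centralizer_zpowers,
    FixedPointFree.centralizer_zpowers] at h1
  rw [← h1]
  rintro _ ⟨y, hy, rfl⟩
  rw [mem_centralizer_iff]
  rintro _ ⟨x, ⟨hxW, hxg⟩, rfl⟩
  rw [← commutatorElement_eq_one_iff_mul_comm, ← map_commutatorElement, ← mem_bot,
    ← Coprime.inf_eq_bot_of_coprime (L.coprime_img hQ)]
  refine ⟨mem_map_of_mem _ ?_, ?_⟩
  · have hxg' : (x : Γ) ∈ centralizer {g} :=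
      mem_centralizer_singleton_iff.mpr (congrArg Subtype.val (mem_centralizer_singleton_iff.mp hxg))
    have h2 := (mem_normalizer_iff.mp (hn ⟨hWK hxW, hxg'⟩) _).mp hy
    exact Q.mul_mem h2 (Q.inv_mem hy)
  · rw [map_commutatorElement]
    have h2 := (mem_normalizer_iff.mp (L.normal y) _).mp (L.V.inv_mem hxW)
    rw [commutatorElement_def, mul_assoc (L.f x), mul_assoc (L.f x)]
    exact L.V.mul_mem hxW h2

variable {p : ℕ} [Fact p.Prime] {a : Γ}

theorem orderOf_dvd_prime {p : ℕ} {a : Γ} (hap : a ^ p = 1) {n : ℕ} (h : p.Coprime n) :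
    (orderOf a).Coprime n :=
  h.coprime_dvd_left (orderOf_dvd_of_pow_eq_one hap)

/-- A subgroup `E` without fixed points under `a`, inside a `q`-group normalised by `a` and by
`C_K(a)`, lies in `O_q(K)`. -/
theorem le_cor_of_fpf (hK : Group.IsSolvable K) (hKp : p.Coprime (Nat.card K)) (hap : a ^ p = 1)
    (haK : a ∈ normalizer (K : Set Γ)) (hQK : Q ≤ K) (hQ : IsPGroup q Q)
    (hn : K ⊓ centralizer {a} ≤ normalizer (Q : Set Γ)) {E : Subgroup Γ} (hE : E ≤ Q)
    (haE : a ∈ normalizer (E : Set Γ)) (hfix : E ⊓ centralizer {a} = ⊥) : E ≤ Cor q K := by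
  refine le_cor_of_layers hK (hE.trans hQK) (hQ.to_le hE) fun L => ?_
  set N := normalizer (K : Set Γ)
  set a' : N := ⟨a, haK⟩
  set X := L.img E
  have hp : p.Prime := Fact.out
  have hfX : X ⊓ centralizer {L.f a'} = ⊥ := by
    rw [eq_bot_iff]
    rintro _ ⟨⟨e, he, rfl⟩, hec⟩
    have hT : Group.IsSolvable (zpowers a') := Group.isSolvable_of_comm fun x y => mul_comm' x y
    have hTn : zpowers a' ≤ normalizer ((E.subgroupOf N ⊓ L.f.ker : Subgroup N) : Set N) := by
      refine Coprime.le_normalizer_inf (zpowers_le.mpr ?_) le_normalizer_of_normal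
      rw [mem_normalizer_iff]
      exact fun x => mem_normalizer_iff.mp haE x
    have hcopE : (Nat.card (zpowers a')).Coprime (Nat.card (E.subgroupOf N ⊓ L.f.ker : Subgroup N)) := by
      rw [Nat.card_zpowers, ← Subgroup.orderOf_coe]
      refine (orderOf_dvd_prime hap hKp).coprime_dvd_right ((card_dvd_of_le inf_le_left).trans ?_)
      rw [Coprime.card_subgroupOf ((hE.trans hQK).trans le_normalizer)]
      exact card_dvd_of_le (hE.trans hQK)
    obtain ⟨n, hn', hc⟩ := Coprime.exists_fixed_mem_leftCoset hTn hcopE (Or.inl hT) (k := e) (by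
      intro b hb
      have hb' : b ∈ normalizer (E.subgroupOf N : Set N) := by
        refine zpowers_le.mpr (mem_normalizer_iff.mpr fun x => ?_) hb
        exact mem_normalizer_iff.mp haE x
      refine ⟨(E.subgroupOf N).mul_mem (inv_mem he) ((mem_normalizer_iff.mp hb' e).mp he), ?_⟩
      have hfb : Commute (L.f b) (L.f e) := by
        obtain ⟨i, rfl⟩ := mem_zpowers_iff.mp hb
        rw [map_zpow]
        have hc : Commute (L.f a') (L.f e) := (mem_centralizer_singleton_iff.mp hec).symm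
        exact hc.zpow_left i
      show L.f _ = 1
      rw [map_mul, map_mul, map_mul, map_inv, map_inv, hfb.eq, mul_inv_cancel_right,
        inv_mul_cancel])
    have h1 : e * n = 1 := Subtype.ext (mem_bot.mp (hfix.le ⟨E.mul_mem he hn'.1,
      mem_centralizer_singleton_iff.mpr
        (congrArg Subtype.val (mem_centralizer_iff.mp hc a' (mem_zpowers a'))).symm⟩))
    rw [mem_bot, eq_inv_of_mul_eq_one_left h1, map_inv, MonoidHom.mem_ker.mp hn'.2, inv_one]
  have hcopX : (Nat.card X).Coprime (Nat.card L.V) := L.coprime_img (hQ.to_le hE)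
  have := L.ea.1
  have hXV : X ≤ normalizer (L.V : Set L.H) := L.img_le_normalizer E
  set U := ⁅L.V, X⁆ with hU
  have hUV : U ≤ L.V := Coprime.commutator_le_of_le_normalizer hXV
  have hfixV : L.V ⊓ centralizer {L.f a'} ≤ centralizer (X : Set L.H) :=
    Subgroup.le_centralizer_iff.mp ((map_mono (comap_mono hE)).trans
      (L.img_le_centralizer_fixed haK (orderOf_dvd_prime hap hKp) hQK hQ hn))
  have haX : L.f a' ∈ normalizer (X : Set L.H) := by
    refine le_normalizer_map L.f (mem_map_of_mem _ ?_)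
    rw [mem_normalizer_iff]
    exact fun x => mem_normalizer_iff.mp haE x
  have haU : L.f a' ∈ normalizer (U : Set L.H) :=
    FixedPointFree.mem_normalizer_commutator (L.normal a') haX
  have hfU : U ⊓ centralizer {L.f a'} = ⊥ := by
    rw [eq_bot_iff, ← Coprime.centralizer_inf_commutator_eq_bot hXV hcopX]
    rintro u ⟨hu, huc⟩
    exact ⟨⟨hUV hu, hfixV ⟨hUV hu, huc⟩⟩, hu⟩
  have hUc : IsMulCommutative U := ⟨⟨fun x y => Subtype.ext (setLike_mul_comm (hUV x.2) (hUV y.2))⟩⟩
  have hXU : X ≤ centralizer (U : Set L.H) := FixedPointFree.le_centralizer_of_frobenius hp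
    (by rw [← map_pow, show a' ^ p = 1 from Subtype.ext hap, map_one]) (normalizer_commutator_ge_right L.V X)
    haU haX (hcopX.coprime_dvd_right (card_dvd_of_le hUV)) hfU hfX
  have hbot : U = ⊥ := by
    rw [hU, ← Coprime.commutator_commutator_eq hXV hcopX
      (Or.inr (Group.isSolvable_of_comm fun x y => IsMulCommutative.is_comm.comm x y))]
    exact commutator_eq_bot_iff_le_centralizer.mpr (Subgroup.le_centralizer_iff.mp hXU)
  intro y hy
  exact Subgroup.le_centralizer_iff.mp (commutator_eq_bot_iff_le_centralizer.mp hbot) (mem_map_of_mem _ hy)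

/-- For odd `q` the commutator with `a` of a `q`-group normalised by `a` and by `C_K(a)` lies in
`O_q(K)`. -/
theorem commutator_le_cor_of_odd (hK : Group.IsSolvable K) (hKp : p.Coprime (Nat.card K))
    (hq2 : q ≠ 2) (hqp : q ≠ p) (hap : a ^ p = 1) (haK : a ∈ normalizer (K : Set Γ)) (hQK : Q ≤ K)
    (hQ : IsPGroup q Q) (haQ : a ∈ normalizer (Q : Set Γ))
    (hn : K ⊓ centralizer {a} ≤ normalizer (Q : Set Γ)) : ⁅Q, zpowers a⁆ ≤ Cor q K := by
  have hle : ⁅Q, zpowers a⁆ ≤ Q := Coprime.commutator_le_of_le_normalizer (zpowers_le.mpr haQ)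
  refine le_cor_of_layers hK (hle.trans hQK) (hQ.to_le hle) fun L => ?_
  set N := normalizer (K : Set Γ)
  set a' : N := ⟨a, haK⟩
  set P := L.img Q
  have hp : p.Prime := Fact.out
  have := Fact.mk L.prime
  have hcopP : (Nat.card P).Coprime (Nat.card L.V) := L.coprime_img hQ
  have := L.ea.1
  have hPV : P ≤ normalizer (L.V : Set L.H) := L.img_le_normalizer Q
  have hfixV : L.V ⊓ centralizer {L.f a'} ≤ centralizer (P : Set L.H) :=
    Subgroup.le_centralizer_iff.mp
      (L.img_le_centralizer_fixed haK (orderOf_dvd_prime hap hKp) hQK hQ hn)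
  set W := ⁅L.V, P⁆
  have hWV : W ≤ L.V := Coprime.commutator_le_of_le_normalizer hPV
  have haP : L.f a' ∈ normalizer (P : Set L.H) := by
    refine le_normalizer_map L.f (mem_map_of_mem _ ?_)
    rw [mem_normalizer_iff]
    exact fun x => mem_normalizer_iff.mp haQ x
  have haW : L.f a' ∈ normalizer (W : Set L.H) :=
    FixedPointFree.mem_normalizer_commutator (L.normal a') haP
  have hPW : P ≤ normalizer (W : Set L.H) := normalizer_commutator_ge_right L.V P
  set M := normalizer (W : Set L.H)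
  obtain ⟨Wm, i1, i2, i3, ρ, e, hadd, hconj⟩ := CoprimeFixed.exists_rep W (Coprime.ea_mono L.ea hWV)
  set x : M := ⟨L.f a', haW⟩
  have hxp : x ^ p = 1 := Subtype.ext (by
    show (L.f a') ^ p = 1
    rw [← map_pow, show a' ^ p = 1 from Subtype.ext hap, map_one])
  have hfpf : ∀ w, ρ x w = w → w = 0 := by
    intro w hw
    rw [CoprimeFixed.model_fixed_iff (hconj := hconj)] at hw
    apply e.injective
    refine Subtype.ext ?_
    rw [CoprimeFixed.model_zero hadd, ← mem_bot, ← Coprime.centralizer_inf_commutator_eq_bot hPV hcopP]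
    exact ⟨⟨hWV (e w).2, hfixV ⟨hWV (e w).2, mem_centralizer_singleton_iff.mpr hw.symm.eq⟩⟩, (e w).2⟩
  by_cases hr : L.r = p
  · -- the layer is trivial
    intro y _
    have hV : L.V = ⊥ := by
      by_contra hne
      obtain ⟨v, hv, hv1⟩ := (L.V.bot_or_exists_ne_one).resolve_left hne
      obtain ⟨k, rfl⟩ := L.range hv
      have h1 : orderOf (L.f k) ∣ Nat.card K := (orderOf_map_dvd _ _).trans (by
        rw [← Subgroup.orderOf_coe]; exact orderOf_dvd_natCard K (L.le k hv))
      rw [orderOf_eq_prime (L.ea.2 _ hv) hv1, hr] at h1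
      exact ((Nat.Prime.coprime_iff_not_dvd hp).mp hKp) h1
    rw [hV, mem_centralizer_iff]
    intro w hw
    rw [mem_bot.mp hw, one_mul, mul_one]
  have hcomm : ∀ y : M, (y : L.H) ∈ P → Commute (ρ x) (ρ y) := by
    intro y hy
    have := CoprimeFixed.commute_of_fpf ρ (P.subgroupOf M) x Fact.out hp L.ne.symm (Ne.symm hr)
      hqp hq2 ((L.img_isPGroup hQ).comap_of_injective M.subtype M.subtype_injective) hxp
      (CoprimeFixed.sum_pow_eq_zero ρ hxp hfpf) (fun b hb => (mem_normalizer_iff.mp haP _).mp hb) (a := y) hy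
    rwa [map_mul, map_mul] at this
  suffices key : ⁅Q, zpowers a⁆ ≤
      ((centralizer (L.V : Set L.H)).comap L.f).map N.subtype by
    intro y hy
    obtain ⟨z, hz, e⟩ := key hy
    exact (Subtype.ext e : z = y) ▸ hz
  rw [commutator_le]
  intro y hy b hb
  obtain ⟨i, rfl⟩ := mem_zpowers_iff.mp hb
  set y' : N := ⟨y, le_normalizer (hQK hy)⟩
  refine ⟨⁅y', a' ^ i⁆, ?_, rfl⟩
  have hyP : L.f y' ∈ P := mem_map_of_mem _ (show y' ∈ Q.subgroupOf N from hy)
  set y'' : M := ⟨L.f y', hPW hyP⟩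
  have h1 : ρ ⁅y'', x ^ i⁆ = 1 := by
    rw [← MonoidHom.coe_toHomUnits, map_commutatorElement, map_zpow]
    have hc : Commute (ρ.toHomUnits y'') (ρ.toHomUnits x) := Units.ext (hcomm y'' hyP).eq.symm
    rw [commutatorElement_eq_one_iff_commute.mpr (hc.zpow_right i)]
    rfl
  rw [CoprimeFixed.model_eq_one_iff (hconj := hconj)] at h1
  have h2 : L.f ⁅y', a' ^ i⁆ ∈ centralizer (W : Set L.H) := by
    rw [map_commutatorElement, map_zpow]
    simpa [y'', x, commutatorElement_def] using h1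
  have hTP : (a' ^ i : N) ∈ normalizer (Q.subgroupOf N : Set N) := by
    refine zpow_mem ?_ i
    rw [mem_normalizer_iff]
    exact fun z => mem_normalizer_iff.mp haQ z
  have h3 : L.f ⁅y', a' ^ i⁆ ∈ P := mem_map_of_mem _ ((Q.subgroupOf N).mul_mem
    (show y' ∈ Q.subgroupOf N from hy) ((mem_normalizer_iff.mp hTP y'⁻¹).mp (inv_mem hy)) |> fun h => by
      simpa [commutatorElement_def, mul_assoc] using h)
  rw [SetLike.mem_coe, mem_comap, mem_centralizer_iff]
  intro v hv
  rw [← (Coprime.abelian_decomposition hPV hcopP).2] at hv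
  refine (mem_centralizer_singleton_iff.mp ?_)
  refine (sup_le ?_ ?_ : L.V ⊓ centralizer (P : Set L.H) ⊔ ⁅L.V, P⁆ ≤ _) hv
  · intro w hw
    exact mem_centralizer_singleton_iff.mpr (mem_centralizer_iff.mp hw.2 _ h3).symm
  · intro w hw
    exact mem_centralizer_singleton_iff.mpr (mem_centralizer_iff.mp h2 w hw)

/-- The line criterion: a `q`-group `P` lying, for every element `g` of a point outside the line
of `f`, in a `q`-group normalised by `C_K(g)` has `[P, f] ≤ O_q(K)`. -/
theorem commutator_le_cor_of_point (hK : Group.IsSolvable K) (hKp : p.Coprime (Nat.card K))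
    {B : Subgroup Γ} (hB : Cfsg.IsElementaryAbelian p B) (hBK : B ≤ normalizer (K : Set Γ))
    {f g₀ : Γ} (hf : f ∈ B) (hg₀ : g₀ ∈ B) (hfg : g₀ ∉ zpowers f) {P : Subgroup Γ} (hPK : P ≤ K)
    (hP : IsPGroup q P) (hfP : f ∈ normalizer (P : Set Γ))
    (h : ∀ g ∈ B, g ∉ zpowers f → ∃ Q : Subgroup Γ, P ≤ Q ∧ Q ≤ K ∧ IsPGroup q Q ∧
      K ⊓ centralizer {g} ≤ normalizer (Q : Set Γ)) :
    ⁅P, zpowers f⁆ ≤ Cor q K := by
  have hle : ⁅P, zpowers f⁆ ≤ P := Coprime.commutator_le_of_le_normalizer (zpowers_le.mpr hfP)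
  refine le_cor_of_layers hK (hle.trans hPK) (hP.to_le hle) fun L => ?_
  set N := normalizer (K : Set Γ)
  have := Fact.mk L.prime
  have hp : p.Prime := Fact.out
  set f' : N := ⟨f, hBK hf⟩
  set g' : N := ⟨g₀, hBK hg₀⟩
  by_cases hr : L.r = p
  · intro y _
    have hV : L.V = ⊥ := by
      by_contra hne
      obtain ⟨v, hv, hv1⟩ := (L.V.bot_or_exists_ne_one).resolve_left hne
      obtain ⟨k, rfl⟩ := L.range hv
      have h1 : orderOf (L.f k) ∣ Nat.card K := (orderOf_map_dvd _ _).trans (by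
        rw [← Subgroup.orderOf_coe]; exact orderOf_dvd_natCard K (L.le k hv))
      rw [orderOf_eq_prime (L.ea.2 _ hv) hv1, hr] at h1
      exact ((Nat.Prime.coprime_iff_not_dvd hp).mp hKp) h1
    rw [hV, mem_centralizer_iff]
    intro w hw
    rw [mem_bot.mp hw, one_mul, mul_one]
  have hcomm : Commute f' g' := Subtype.ext (Coprime.ea_comm hB hf hg₀)
  have hfp : f' ^ p = 1 := Subtype.ext (hB.2 f hf)
  have hgp : g' ^ p = 1 := Subtype.ext (hB.2 g₀ hg₀)
  set F := L.f f'
  set Gg := L.f g'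
  set T : Subgroup L.H := closure {F, Gg}
  have := L.ea.1
  have hTB : T ≤ L.img B := by
    rw [closure_le]
    rintro z (rfl | rfl)
    · exact mem_map_of_mem _ (show f' ∈ B.subgroupOf N from hf)
    · exact mem_map_of_mem _ (show g' ∈ B.subgroupOf N from hg₀)
  have hcopT : ∀ {X : Subgroup L.H}, X ≤ L.V → ∀ {Y : Subgroup L.H}, Y ≤ T →
      (Nat.card Y).Coprime (Nat.card X) := by
    intro X hX Y hY
    obtain ⟨i, hi⟩ := IsPGroup.iff_card.mp ((L.img_isPGroup (Coprime.ea_isPGroup hB)).to_le (hY.trans hTB))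
    obtain ⟨j, hj⟩ := IsPGroup.iff_card.mp (L.isPGroup_V.to_le hX)
    rw [hi, hj]
    exact ((Nat.coprime_primes hp L.prime).mpr (Ne.symm hr)).pow i j
  set W := ⁅L.V, zpowers F⁆ with hWdef
  have hFV : zpowers F ≤ normalizer (L.V : Set L.H) := zpowers_le.mpr (L.normal f')
  have hcopF : (Nat.card (zpowers F)).Coprime (Nat.card L.V) :=
    hcopT le_rfl (zpowers_le.mpr (subset_closure (Or.inl rfl)))
  have hWV : W ≤ L.V := Coprime.commutator_le_of_le_normalizer hFV
  have hFW : F ∈ normalizer (W : Set L.H) :=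
    normalizer_commutator_ge_right L.V _ (mem_zpowers F)
  have hGW : Gg ∈ normalizer (W : Set L.H) := by
    refine FixedPointFree.mem_normalizer_commutator (L.normal g') ?_
    refine centralizer_le_normalizer _ ?_
    rw [FixedPointFree.centralizer_zpowers, mem_centralizer_singleton_iff]
    exact (hcomm.symm.map L.f).eq
  set PP := L.img P
  have hW : W ≤ centralizer (PP : Set L.H) := by
    refine Coprime.le_of_centralizers_le (a := F) (b := Gg) (hcomm.map L.f) hFW hGW hp ?_ ?_ ?_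
      (hcopT hWV le_rfl) ?_ fun k => ?_
    · rw [← map_pow, hfp, map_one]; exact one_mem _
    · rw [← map_pow, hgp, map_one]; exact one_mem _
    · obtain ⟨j, hj⟩ := IsPGroup.iff_card.mp (L.isPGroup_V.to_le hWV)
      rw [hj]
      exact ((Nat.coprime_primes hp L.prime).mpr (Ne.symm hr)).pow_right j
    · rintro z ⟨hzW, hzF⟩
      have : z ∈ (L.V ⊓ centralizer (zpowers F : Set L.H)) ⊓ W :=
        ⟨⟨hWV hzW, by rwa [FixedPointFree.centralizer_zpowers]⟩, hzW⟩
      rw [Coprime.centralizer_inf_commutator_eq_bot hFV hcopF, mem_bot] at this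
      rw [this]
      exact one_mem _
    · have hg : f ^ k * g₀ ∈ B := B.mul_mem (B.pow_mem hf k) hg₀
      obtain ⟨Q, hPQ, hQK, hQ, hn⟩ := h _ hg fun hm => hfg
        ((Subgroup.mul_mem_cancel_left _ (pow_mem (mem_zpowers f) k)).mp hm)
      have h1 := L.img_le_centralizer_fixed (hBK hg) (orderOf_dvd_prime (hB.2 _ hg) hKp) hQK hQ hn
      rw [Subgroup.le_centralizer_iff] at h1
      refine le_trans ?_ (h1.trans (centralizer_le (map_mono (comap_mono hPQ))))
      refine inf_le_inf hWV (le_of_eq ?_)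
      rw [show (⟨f ^ k * g₀, hBK hg⟩ : N) = f' ^ k * g' from rfl, map_mul, map_pow]
  -- the commutators are trivial on `W` and on `V / W`
  have hPW : ∀ y ∈ PP, ∀ w ∈ W, y * w * y⁻¹ = w := fun y hy w hw => by
    rw [mem_centralizer_iff.mp (hW hw) y hy, mul_inv_cancel_right]
  suffices key : ⁅P, zpowers f⁆ ≤ ((centralizer (L.V : Set L.H)).comap L.f).map N.subtype by
    intro y hy
    obtain ⟨z, hz, e⟩ := key hy
    exact (Subtype.ext e : z = y) ▸ hz
  rw [commutator_le]
  intro y hy b hb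
  obtain ⟨i, rfl⟩ := mem_zpowers_iff.mp hb
  set y' : N := ⟨y, le_normalizer (hPK hy)⟩
  refine ⟨⁅y', f' ^ i⁆, ?_, rfl⟩
  have hyP : L.f y' ∈ PP := mem_map_of_mem _ (show y' ∈ P.subgroupOf N from hy)
  rw [SetLike.mem_coe, mem_comap, map_commutatorElement, map_zpow]
  set Fi := F ^ i with hFi
  set Y₀ := L.f y' with hY₀
  have hFiW : Fi ∈ normalizer (W : Set L.H) := zpow_mem hFW i
  have hYi : Y₀ * Fi * Y₀⁻¹ * Fi⁻¹ ∈ PP := by
    have hFP : Fi ∈ normalizer (PP : Set L.H) := by
      refine zpow_mem (le_normalizer_map L.f (mem_map_of_mem _ ?_)) i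
      rw [mem_normalizer_iff]
      exact fun z => mem_normalizer_iff.mp hfP z
    rw [mul_assoc Y₀, mul_assoc Y₀]
    exact PP.mul_mem hyP ((mem_normalizer_iff.mp hFP _).mp (PP.inv_mem hyP))
  rw [commutatorElement_def]
  refine AbCentFpf.commute_of_series hWV ?_ (fun w hw => ?_) ?_
  · obtain ⟨j, hj⟩ := IsPGroup.iff_card.mp L.isPGroup_V
    obtain ⟨k, hk⟩ := IsPGroup.iff_orderOf.mp (L.img_isPGroup hP) ⟨_, hYi⟩
    rw [Subgroup.orderOf_mk] at hk
    rw [hk, hj]
    exact ((Nat.coprime_primes Fact.out L.prime).mpr L.ne.symm).pow k j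
  · exact (mem_centralizer_iff.mp (hW hw) _ hYi)
  · intro v hv
    have hF : ∀ u ∈ L.V, Fi * u * Fi⁻¹ * u⁻¹ ∈ W := fun u hu => by
      have := commutator_mem_commutator (H₁ := L.V) (H₂ := zpowers F) hu (zpow_mem (mem_zpowers F) i)
      have := W.inv_mem (hWdef ▸ this : ⁅u, Fi⁆ ∈ W)
      simpa [commutatorElement_def, mul_assoc] using this
    set h' := Y₀ * Fi * Y₀⁻¹ with hh'
    have hh : ∀ u ∈ L.V, h' * u * h'⁻¹ * u⁻¹ ∈ W := fun u hu => by
      have hu' : Y₀⁻¹ * u * Y₀ ∈ L.V := by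
        have := (mem_normalizer_iff.mp ((normalizer (L.V : Set L.H)).inv_mem (L.normal y')) u).mp hu
        simpa [hY₀] using this
      have h1 := hF _ hu'
      have h2 := hPW _ hyP _ h1
      rw [← h2] at h1
      convert h1 using 1
      rw [hh']; group
    have hhW : h' ∈ normalizer (W : Set L.H) := by
      have hY : Y₀ ∈ normalizer (W : Set L.H) :=
        centralizer_le_normalizer _ (Subgroup.le_centralizer_iff.mp hW hyP)
      exact Subgroup.mul_mem _ (Subgroup.mul_mem _ hY hFiW) (inv_mem hY)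
    have h1 : Fi⁻¹ * v * Fi * v⁻¹ ∈ W := by
      have hv' : Fi⁻¹ * v * Fi ∈ L.V := by
        have := (mem_normalizer_iff.mp (inv_mem (zpow_mem (L.normal f') i)) v).mp hv
        simpa [hFi] using this
      have := W.inv_mem (hF _ hv')
      simpa [mul_assoc] using this
    have h2 := W.mul_mem ((mem_normalizer_iff.mp hhW _).mp h1) (hh v hv)
    have hv1 : (Y₀ * Fi * Y₀⁻¹ * Fi⁻¹) * v * (Y₀ * Fi * Y₀⁻¹ * Fi⁻¹)⁻¹ * v⁻¹ ∈ W := by
      convert h2 using 1
      rw [hh']; group
    have hvc : v⁻¹ * ((Y₀ * Fi * Y₀⁻¹ * Fi⁻¹) * v * (Y₀ * Fi * Y₀⁻¹ * Fi⁻¹)⁻¹) =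
        (Y₀ * Fi * Y₀⁻¹ * Fi⁻¹) * v * (Y₀ * Fi * Y₀⁻¹ * Fi⁻¹)⁻¹ * v⁻¹ := by
      have hz : (Y₀ * Fi * Y₀⁻¹ * Fi⁻¹) * v * (Y₀ * Fi * Y₀⁻¹ * Fi⁻¹)⁻¹ ∈ L.V :=
        (mem_normalizer_iff.mp (L.img_le_normalizer P hYi) v).mp hv
      exact setLike_mul_comm (L.V.inv_mem hv) hz
    rw [hvc]
    exact hv1

/-- A `c'`-subgroup centralising a `c`-subgroup `R` and normalised by `C_K(R)` lies in
`O_{c'}(K)`. -/
theorem le_pPrimeCore_of_centralizes {c : ℕ} [Fact c.Prime] (hK : Group.IsSolvable K)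
    {R : Subgroup Γ} (hRK : R ≤ K) (hR : IsPGroup c R) (hYK : Y ≤ K)
    (hY : (Nat.card Y).Coprime c) (hYR : Y ≤ centralizer (R : Set Γ))
    (hn : K ⊓ centralizer (R : Set Γ) ≤ normalizer (Y : Set Γ)) :
    Y ≤ (Cfsg.pPrimeCore c ↥K).map K.subtype := by
  have := hK
  set C := centralizer ((R.subgroupOf K : Subgroup K) : Set K)
  have hYC : Y.subgroupOf K ≤ C := fun y hy => mem_centralizer_iff.mpr fun r hr =>
    Subtype.ext (mem_centralizer_iff.mp (hYR hy) r hr)
  have hYn : ((Y.subgroupOf K).subgroupOf C).Normal := by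
    refine normal_subgroupOf_of_le_normalizer fun x hx => ?_
    have hxR : (x : Γ) ∈ centralizer (R : Set Γ) := mem_centralizer_iff.mpr fun r hr =>
      congrArg Subtype.val (mem_centralizer_iff.mp hx ⟨r, hRK hr⟩ hr)
    rw [mem_normalizer_iff]
    exact fun y => mem_normalizer_iff.mp (hn ⟨x.2, hxR⟩) y
  have h1 : (Y.subgroupOf K).subgroupOf C ≤ Cfsg.pPrimeCore c ↥C := Core.le_pPrimeCore (by
    rwa [Coprime.card_subgroupOf hYC, Coprime.card_subgroupOf hYK])
  have h2 := (map_mono (f := C.subtype) h1).trans (Layer.pPrimeCore_centralizer_le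
    (Layer.isPConstrained_of_isSolvable (p := c) (G := K))
    (hR.comap_of_injective K.subtype K.subtype_injective))
  rw [map_subgroupOf_eq_of_le hYC] at h2
  have h3 := map_mono (f := K.subtype) h2
  rwa [map_subgroupOf_eq_of_le hYK] at h3

end Cfsg.Agent.Signalizer
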