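import Cfsg.Agent.Signalizer.Transitivity
import Cfsg.Agent.Signalizer.Layers
import Cfsg.Agent.S1281
import Cfsg.Agent.S1288
import Cfsg.Agent.Coprime.Hall

/-!
A minimal counterexample to the solvable signalizer functor theorem: completeness in proper
normalisers, greatest `π`-members, maximal members and the core criterion.
-/

set_option autoImplicit false
set_option linter.unusedSectionVars false

open Subgroup
open scoped Pointwise

namespace Cfsg.Agent.Signalizer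

open Cfsg Cfsg.Agent.Coprime Cfsg.Agent.AbCentFpf

universe u

variable {G : Type u} [Group G]

/-- A solvable signalizer functor on a group of order `p ^ 3`. -/
structure Hyp (p : ℕ) (A : Subgroup G) (θ : G → Subgroup G) : Prop where
  ea : Cfsg.IsElementaryAbelian p A
  card : Nat.card A = p ^ 3
  functor : Cfsg.IsSolvableSignalizerFunctor p A θ

/-- Some member contains every `θ a`. -/
def Complete (p : ℕ) (A : Subgroup G) (θ : G → Subgroup G) : Prop :=
  ∃ W ∈ Cfsg.signalizerFamily p A θ, ∀ a ∈ A, a ≠ 1 → θ a ≤ W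

/-- The sum of the orders of the `θ a`. -/
noncomputable def size (A : Subgroup G) (θ : G → Subgroup G) : ℕ :=
  Nat.card (Σ a : {a : G // a ∈ A ∧ a ≠ 1}, θ (a : G))

/-- A minimal counterexample. -/
structure Ctx (p : ℕ) (A : Subgroup G) (θ : G → Subgroup G) : Prop extends Hyp p A θ where
  ih : ∀ (H : Type u) [Group H] [Finite H] (A' : Subgroup H) (θ' : H → Subgroup H),
    Hyp p A' θ' → size A' θ' < size A θ → Complete p A' θ'
  not_complete : ¬ Complete p A θ

variable [Finite G] {p : ℕ} [Fact p.Prime] {A : Subgroup G} {θ : G → Subgroup G}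

theorem size_lt {H : Type u} [Group H] [Finite H] {A' : Subgroup H} {θ' : H → Subgroup H}
    (e : {a : G // a ∈ A ∧ a ≠ 1} ≃ {a : H // a ∈ A' ∧ a ≠ 1})
    (hle : ∀ a, Nat.card (θ' (e a : H)) ≤ Nat.card (θ (a : G)))
    (a₀ : {a : G // a ∈ A ∧ a ≠ 1}) (hlt : Nat.card (θ' (e a₀ : H)) < Nat.card (θ (a₀ : G))) :
    size A' θ' < size A θ := by
  classical
  have := Fintype.ofFinite {a : G // a ∈ A ∧ a ≠ 1}
  have := Fintype.ofFinite {a : H // a ∈ A' ∧ a ≠ 1}
  rw [size, size, Nat.card_sigma, Nat.card_sigma, ← Equiv.sum_comp e]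
  exact Finset.sum_lt_sum (fun a _ => hle a) ⟨a₀, Finset.mem_univ _, hlt⟩

/-! ### Lines and points -/

/-- A subgroup of `A` of order `p ^ 2`. -/
def IsPoint (p : ℕ) (A B : Subgroup G) : Prop := B ≤ A ∧ Nat.card B = p ^ 2

namespace Hyp

variable (h : Hyp p A θ)
include h

theorem le3 : p ^ 3 ≤ Nat.card A := h.card.ge

theorem le2 : p ^ 2 ≤ Nat.card A :=
  (Nat.pow_le_pow_right (Fact.out : p.Prime).pos (by norm_num)).trans h.card.ge

theorem ne_bot : A ≠ ⊥ := ea_ne_bot three_ne_zero h.le3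

theorem exists_ne_one : ∃ a ∈ A, a ≠ 1 := (A.bot_or_exists_ne_one).resolve_left h.ne_bot

theorem not_dvd_theta {a : G} (ha : a ∈ A) (ha1 : a ≠ 1) : ¬ p ∣ Nat.card (θ a) :=
  h.functor.1.2.1 a ha ha1

theorem theta_eq_of_zpowers {a b : G} (ha : a ∈ A) (ha1 : a ≠ 1) (hb : b ∈ zpowers a) (hb1 : b ≠ 1) :
    θ b = θ a := by
  have hbA : b ∈ A := zpowers_le.mpr ha hb
  have hab : zpowers b = zpowers a := by
    refine eq_of_le_of_card_ge (zpowers_le.mpr hb) ?_
    rw [Nat.card_zpowers, Nat.card_zpowers, ea_orderOf h.ea ha ha1, ea_orderOf h.ea hbA hb1]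
  have hc : centralizer {b} = centralizer ({a} : Set G) := by
    rw [← FixedPointFree.centralizer_zpowers, ← FixedPointFree.centralizer_zpowers, hab]
  refine le_antisymm ?_ ?_
  · refine le_trans (le_inf le_rfl ?_) (balance h.functor hbA hb1 ha ha1)
    rw [← hc]; exact theta_le_centralizer h.functor hbA hb1
  · refine le_trans (le_inf le_rfl ?_) (balance h.functor ha ha1 hbA hb1)
    rw [hc]; exact theta_le_centralizer h.functor ha ha1

theorem point_ne_bot {B : Subgroup G} (hB : IsPoint p A B) : B ≠ ⊥ := by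
  intro hb
  have h2 := hB.2
  rw [hb, Subgroup.card_bot] at h2
  have := (Fact.out : p.Prime).two_le
  nlinarith

theorem point_le2 {B : Subgroup G} (hB : IsPoint p A B) : p ^ 2 ≤ Nat.card B := hB.2.ge

theorem isPoint_of_relIndex {B : Subgroup G} (hB : B ≤ A) (hi : B.relIndex A = p) : IsPoint p A B := by
  refine ⟨hB, ?_⟩
  have := Coprime.card_mul_relIndex_of_le hB
  rw [hi, h.card, pow_succ] at this
  exact Nat.eq_of_mul_eq_mul_right (Fact.out : p.Prime).pos this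

theorem relIndex_point {B : Subgroup G} (hB : IsPoint p A B) : B.relIndex A = p := by
  have := Coprime.card_mul_relIndex_of_le hB.1
  rw [hB.2, h.card, pow_succ p 2] at this
  exact Nat.eq_of_mul_eq_mul_left (Nat.pow_pos (Fact.out : p.Prime).pos) this

/-- Two points share a line. -/
theorem exists_common {B B' : Subgroup G} (hB : IsPoint p A B) (hB' : IsPoint p A B') :
    ∃ c ∈ B, c ∈ B' ∧ c ≠ 1 := by
  by_contra hno
  push Not at hno
  have hinf : B ⊓ B' = ⊥ := by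
    rw [eq_bot_iff]
    exact fun x hx => mem_bot.mpr (hno x hx.1 hx.2)
  have hn : B' ≤ normalizer (B : Set G) := fun b hb =>
    centralizer_le_normalizer _ (mem_centralizer_iff.mpr fun y hy =>
      ea_comm h.ea (hB.1 hy) (hB'.1 hb))
  have h1 := card_dvd_of_le (sup_le hB.1 hB'.1)
  rw [Coprime.card_sup_eq_mul hn hinf, hB.2, hB'.2, h.card, ← pow_add] at h1
  exact absurd (Nat.pow_dvd_pow_iff_le_right (Fact.out : p.Prime).one_lt |>.mp h1) (by norm_num)

/-- Every line lies in a point through any second line. -/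
theorem isPoint_zpowers_sup {a b : G} (ha : a ∈ A) (ha1 : a ≠ 1) (hb : b ∈ A)
    (hab : b ∉ zpowers a) : IsPoint p A (zpowers a ⊔ zpowers b) := by
  have hb1 : b ≠ 1 := fun hh => hab (hh ▸ one_mem _)
  refine ⟨sup_le (zpowers_le.mpr ha) (zpowers_le.mpr hb), ?_⟩
  have hinf : zpowers a ⊓ zpowers b = ⊥ := by
    rw [eq_bot_iff]
    intro x hx
    rw [mem_bot]
    by_contra hx1
    refine hab ((?_ : zpowers b ≤ zpowers a) (mem_zpowers b))
    have hxA : x ∈ A := zpowers_le.mpr ha hx.1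
    have he : zpowers x = zpowers b := by
      refine eq_of_le_of_card_ge (zpowers_le.mpr hx.2) ?_
      rw [Nat.card_zpowers, Nat.card_zpowers, ea_orderOf h.ea hxA hx1, ea_orderOf h.ea hb hb1]
    rw [← he]
    exact zpowers_le.mpr hx.1
  have hn : zpowers b ≤ normalizer (zpowers a : Set G) :=
    zpowers_le.mpr (centralizer_le_normalizer _ (mem_centralizer_iff.mpr fun y hy =>
      ea_comm h.ea (zpowers_le.mpr ha hy) hb))
  rw [Coprime.card_sup_eq_mul hn hinf, Nat.card_zpowers, Nat.card_zpowers, ea_orderOf h.ea ha ha1,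
    ea_orderOf h.ea hb hb1, pow_two]

theorem exists_point_mem {a : G} (ha : a ∈ A) : ∃ B, IsPoint p A B ∧ a ∈ B := by
  obtain ⟨a', ha', ha'1, ha''⟩ : ∃ a', a' ∈ A ∧ a' ≠ 1 ∧ a ∈ zpowers a' := by
    by_cases ha1 : a = 1
    · obtain ⟨x, hx, hx1⟩ := h.exists_ne_one
      exact ⟨x, hx, hx1, ha1 ▸ one_mem _⟩
    · exact ⟨a, ha, ha1, mem_zpowers a⟩
  obtain ⟨b, hb, hbn⟩ : ∃ b ∈ A, b ∉ zpowers a' := by
    by_contra hno
    push Not at hno
    have := card_dvd_of_le (H := A) (K := zpowers a') hno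
    rw [h.card, Nat.card_zpowers, ea_orderOf h.ea ha' ha'1] at this
    exact absurd ((Nat.pow_dvd_pow_iff_le_right (Fact.out : p.Prime).one_lt).mp
      (by simpa using this : p ^ 3 ∣ p ^ 1)) (by norm_num)
  exact ⟨_, h.isPoint_zpowers_sup ha' ha'1 hb hbn, le_sup_left (b := zpowers b) ha''⟩

theorem exists_mem_point_not_zpowers {B : Subgroup G} (hB : IsPoint p A B) (a : G) :
    ∃ b ∈ B, b ∉ zpowers a ∧ b ≠ 1 := by
  by_contra hno
  push Not at hno
  have hle : B ≤ zpowers a := fun b hb => by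
    by_contra hb'
    exact hb' ((hno b hb hb') ▸ one_mem _)
  exact ea_not_isCyclic (ea_mono h.ea hB.1) hB.2.ge (Subgroup.isCyclic_of_le hle)

/-- A member is generated by its parts at the points. -/
theorem le_of_points {U W : Subgroup G} (hU : U ∈ signalizerFamily p A θ)
    (hW : ∀ B, IsPoint p A B → U ⊓ centralizer (B : Set G) ≤ W) : U ≤ W := by
  have := h.ea.1
  rw [← iSup_cocyclic_centralizer_eq (le_normalizer_of_mem hU) (coprime_of_mem h.ea hU)]
  refine iSup₂_le fun C hC => ?_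
  obtain ⟨B, hBC, hB⟩ := ea_exists_hyperplane_le h.ea h.ne_bot hC
  exact (inf_le_inf_left _ (centralizer_le hBC)).trans (hW B (h.isPoint_of_relIndex (hBC.trans hC.1) hB))

theorem le_of_lines {B U W : Subgroup G} (hB : IsPoint p A B) (hU : U ∈ signalizerFamily p A θ)
    (hW : ∀ b ∈ B, b ≠ 1 → U ⊓ θ b ≤ W) : U ≤ W :=
  le_of_inf_theta_le h.ea hB.1 hB.2.ge hU hW

end Hyp

/-- The primes of the functor. -/
def primes (A : Subgroup G) (θ : G → Subgroup G) : Set ℕ :=
  {r | r.Prime ∧ ∃ a ∈ A, a ≠ 1 ∧ r ∣ Nat.card (θ a)}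

theorem Hyp.mem_primes_of_dvd (h : Hyp p A θ) {U : Subgroup G} (hU : U ∈ signalizerFamily p A θ)
    {r : ℕ} (hr : r.Prime) (hd : r ∣ Nat.card U) :
    ∃ a ∈ A, a ≠ 1 ∧ r ∣ Nat.card (U ⊓ θ a : Subgroup G) := by
  have := Fact.mk hr
  obtain ⟨R, hR⟩ := exists_invariant_sylow (le_normalizer_of_mem hU) (coprime_of_mem h.ea hU)
    (Or.inl (ea_isSolvable h.ea)) r
  have hRm := mem_of_le hU (map_subtype_le _) hR
  by_contra hno
  push Not at hno
  have hle : (R : Subgroup U).map U.subtype ≤ ⊥ := le_of_inf_theta_le h.ea le_rfl h.le2 hRm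
    fun b hb hb1 => by
      have h1 : IsPGroup r ((R : Subgroup U).map U.subtype ⊓ θ b : Subgroup G) :=
        (R.2.map U.subtype).to_le inf_le_left
      obtain ⟨n, hn⟩ := IsPGroup.iff_card.mp h1
      rcases Nat.eq_zero_or_pos n with rfl | hn0
      · rw [pow_zero] at hn
        exact (Subgroup.card_eq_one.mp hn).le
      · exact absurd ((dvd_pow_self r hn0.ne').trans (hn ▸ card_dvd_of_le
          (inf_le_inf_right _ (map_subtype_le _)))) (hno b hb hb1)
  rw [le_bot_iff, map_eq_bot_iff_of_injective _ U.subtype_injective] at hle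
  exact R.ne_bot_of_dvd_card hd hle

theorem Hyp.primes_of_member (h : Hyp p A θ) {U : Subgroup G} (hU : U ∈ signalizerFamily p A θ)
    {r : ℕ} (hr : r.Prime) (hd : r ∣ Nat.card U) : r ∈ primes A θ := by
  obtain ⟨a, ha, ha1, hda⟩ := h.mem_primes_of_dvd hU hr hd
  exact ⟨hr, a, ha, ha1, hda.trans (card_dvd_of_le inf_le_right)⟩

/-- The greatest member normalising `U`. -/
def nrm (p : ℕ) (A : Subgroup G) (θ : G → Subgroup G) (U : Subgroup G) : Subgroup G :=
  sSup {V | V ∈ signalizerFamily p A θ ∧ V ≤ normalizer (U : Set G)}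

/-- The greatest `θ(A)`-invariant member that is a `π`-group. -/
def gr (p : ℕ) (A : Subgroup G) (θ : G → Subgroup G) (π : Set ℕ) : Subgroup G :=
  sSup {V | V ∈ signalizerFamily p A θ ∧ signalizerInf A θ ≤ normalizer (V : Set G) ∧
    ∀ r : ℕ, r.Prime → r ∣ Nat.card V → r ∈ π}

theorem le_nrm {U V : Subgroup G} (hV : V ∈ signalizerFamily p A θ)
    (hn : V ≤ normalizer (U : Set G)) : V ≤ nrm p A θ U := le_sSup ⟨hV, hn⟩

theorem le_gr {π : Set ℕ} {V : Subgroup G} (hV : V ∈ signalizerFamily p A θ)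
    (hD : signalizerInf A θ ≤ normalizer (V : Set G))
    (hπ : ∀ r : ℕ, r.Prime → r ∣ Nat.card V → r ∈ π) : V ≤ gr p A θ π := le_sSup ⟨hV, hD, hπ⟩

/-- A maximal member containing `θ(A)`. -/
structure IsMx (p : ℕ) (A : Subgroup G) (θ : G → Subgroup G) (M : Subgroup G) : Prop where
  mem : M ∈ signalizerFamily p A θ
  D_le : signalizerInf A θ ≤ M
  max : ∀ U ∈ signalizerFamily p A θ, M ≤ U → U = M

namespace Ctx

variable (C : Ctx p A θ)
include C

theorem D_mem : signalizerInf A θ ∈ signalizerFamily p A θ :=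
  signalizerInf_mem C.functor le_rfl C.ne_bot

theorem D_le_theta {a : G} (ha : a ∈ A) (ha1 : a ≠ 1) : signalizerInf A θ ≤ θ a :=
  signalizerInf_le ha ha1

theorem bot_mem : (⊥ : Subgroup G) ∈ signalizerFamily p A θ := by
  obtain ⟨a, ha, ha1⟩ := C.exists_ne_one
  exact mem_of_le (theta_mem C.functor ha ha1) bot_le fun x _ => by
    rw [normalizer_eq_top]; exact mem_top x

/-- Not every `θ a` normalises a nontrivial member. -/
theorem exists_theta_not_le {U : Subgroup G} (hU : U ∈ signalizerFamily p A θ) (hU1 : U ≠ ⊥) :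
    ∃ a ∈ A, a ≠ 1 ∧ ¬ θ a ≤ normalizer (U : Set G) := by
  by_contra hno
  push Not at hno
  apply C.not_complete
  set N := normalizer (U : Set G) with hN
  have hAN : A ≤ N := le_normalizer_of_mem hU
  set U' := U.subgroupOf N with hU'
  have hU'n : U'.Normal := normal_subgroupOf_of_le_normalizer le_rfl
  set A₁ := A.subgroupOf N
  set θ₁ : N → Subgroup N := fun x => (θ (x : G)).subgroupOf N with hθ₁
  have hA₁ : Cfsg.IsElementaryAbelian p A₁ := ⟨⟨⟨fun a b => Subtype.ext (Subtype.ext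
    (ea_comm C.ea a.2 b.2))⟩⟩, fun a ha => Subtype.ext (C.ea.2 _ ha)⟩
  have hne : ∀ {x : N}, x ≠ 1 → (x : G) ≠ 1 := fun hx hh => hx (Subtype.ext hh)
  have hA₁2 : p ^ 2 ≤ Nat.card A₁ := (Coprime.card_subgroupOf hAN).symm ▸ C.le2
  have hF₁ : Cfsg.IsSolvableSignalizerFunctor p A₁ θ₁ := by
    refine ⟨⟨fun a ha ha1 => ?_, fun a ha ha1 hd => ?_, fun a ha ha1 b hb x hx => ?_,
      fun a ha ha1 b hb hb1 => ?_⟩, fun a ha ha1 => ?_⟩
    · intro x hx
      exact mem_centralizer_singleton_iff.mpr (Subtype.ext (mem_centralizer_singleton_iff.mp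
        (theta_le_centralizer C.functor ha (hne ha1) hx)))
    · refine C.not_dvd_theta ha (hne ha1) ?_
      exact (Coprime.card_subgroupOf (hno _ ha (hne ha1))) ▸ hd
    · exact C.functor.1.2.2.1 _ ha (hne ha1) _ hb _ hx
    · rintro x ⟨hx, hxb⟩
      exact balance C.functor ha (hne ha1) hb (hne hb1) ⟨hx, mem_centralizer_singleton_iff.mpr
        (congrArg Subtype.val (mem_centralizer_singleton_iff.mp hxb))⟩
    · exact Coprime.isSolvable_subgroupOf N (C.functor.2 _ ha (hne ha1))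
  set f := QuotientGroup.mk' U' with hf
  have hcardU : ¬ p ∣ Nat.card U' := by
    rw [Coprime.card_subgroupOf le_normalizer]; exact hU.2.1
  have hinj : ∀ {x : N}, (x : G) ∈ A → f x = 1 → x = 1 := by
    intro x hx hfx
    have hxU : (x : G) ∈ U := (QuotientGroup.eq_one_iff x).mp hfx
    have h1 : (x : G) ∈ A ⊓ U := ⟨hx, hxU⟩
    rw [Coprime.inf_eq_bot_of_coprime (coprime_of_mem C.ea hU), mem_bot] at h1
    exact Subtype.ext h1
  set A₂ := A₁.map f
  set θ₂ : ↥N ⧸ U' → Subgroup (↥N ⧸ U') := fun z =>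
    ⨆ x : {x : N // (x : G) ∈ A ∧ f x = z}, (θ₁ (x : N)).map f with hθ₂
  have hθ₂eq : ∀ a : N, (a : G) ∈ A → θ₂ (f a) = (θ₁ a).map f := by
    intro a ha
    refine le_antisymm (iSup_le ?_) (le_iSup_of_le ⟨a, ha, rfl⟩ le_rfl)
    intro ⟨x, hx, hxa⟩
    have : x = a := by
      have h1 : a⁻¹ * x = 1 := hinj (show ((a⁻¹ * x : N) : G) ∈ A from A.mul_mem (A.inv_mem ha) hx)
        (by rw [map_mul, map_inv, hxa, inv_mul_cancel])
      exact (inv_mul_eq_one.mp h1).symm
    show (θ₁ x).map f ≤ _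
    rw [this]
  have hlift : ∀ z ∈ A₂, z ≠ 1 → ∃ a : N, (a : G) ∈ A ∧ (a : G) ≠ 1 ∧ f a = z := by
    rintro _ ⟨a, ha, rfl⟩ hz
    exact ⟨a, ha, fun h1 => hz (by rw [show a = 1 from Subtype.ext h1, map_one]), rfl⟩
  have hH₂ : Hyp p A₂ θ₂ := by
    refine ⟨⟨⟨⟨?_⟩⟩, ?_⟩, ?_, ⟨⟨?_, ?_, ?_, ?_⟩, ?_⟩⟩
    · rintro ⟨_, a, ha, rfl⟩ ⟨_, b, hb, rfl⟩
      refine Subtype.ext ?_
      show f a * f b = f b * f a
      rw [← map_mul, ← map_mul, show a * b = b * a from Subtype.ext (ea_comm C.ea ha hb)]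
    · rintro _ ⟨a, ha, rfl⟩
      rw [← map_pow, hA₁.2 a ha, map_one]
    · rw [← C.card, ← Coprime.card_subgroupOf hAN]
      refine (Nat.card_congr (Equiv.ofBijective (f.subgroupMap A₁) ⟨?_, f.subgroupMap_surjective _⟩)).symm
      rw [injective_iff_map_eq_one]
      intro x hx
      exact Subtype.ext (hinj x.2 (congrArg Subtype.val hx))
    · intro z hz hz1
      obtain ⟨a, ha, ha1, rfl⟩ := hlift z hz hz1
      rw [hθ₂eq a ha]
      rintro _ ⟨x, hx, rfl⟩
      refine mem_centralizer_singleton_iff.mpr ?_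
      rw [← map_mul, ← map_mul, mem_centralizer_singleton_iff.mp
        (hF₁.1.1 a ha (fun h1 => ha1 (by rw [h1]; rfl)) hx)]
    · intro z hz hz1
      obtain ⟨a, ha, ha1, rfl⟩ := hlift z hz hz1
      rw [hθ₂eq a ha]
      exact fun hd => hF₁.1.2.1 a ha (fun h1 => ha1 (by rw [h1]; rfl)) (hd.trans (card_map_dvd _ _))
    · intro z hz hz1 w hw x hx
      obtain ⟨a, ha, ha1, rfl⟩ := hlift z hz hz1
      obtain ⟨b, hb, rfl⟩ := hw
      rw [hθ₂eq a ha] at hx ⊢
      obtain ⟨y, hy, rfl⟩ := hx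
      exact ⟨b * y * b⁻¹, hF₁.1.2.2.1 a ha (fun h1 => ha1 (by rw [h1]; rfl)) b hb y hy, by simp⟩
    · intro z hz hz1 w hw hw1
      obtain ⟨a, ha, ha1, rfl⟩ := hlift z hz hz1
      obtain ⟨b, hb, hb1, rfl⟩ := hlift w hw hw1
      rw [hθ₂eq a ha, hθ₂eq b hb]
      exact S1281.result p A₁ hA₁ hA₁2 θ₁ hF₁ U' hcardU a b ha (fun h1 => ha1 (by rw [h1]; rfl)) hb
        (fun h1 => hb1 (by rw [h1]; rfl))
    · intro z hz hz1
      obtain ⟨a, ha, ha1, rfl⟩ := hlift z hz hz1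
      rw [hθ₂eq a ha]
      exact Coprime.isSolvable_map f (hF₁.2 a ha (fun h1 => ha1 (by rw [h1]; rfl)))
  -- the size drops
  obtain ⟨a₀, ha₀, ha₀1, hUa⟩ : ∃ a ∈ A, a ≠ 1 ∧ U ⊓ θ a ≠ ⊥ := by
    by_contra hall
    push Not at hall
    exact hU1 (le_bot_iff.mp (le_of_inf_theta_le C.ea le_rfl C.le2 hU
      fun b hb hb1 => (hall b hb hb1).le))
  have hlt : size A₂ θ₂ < size A θ := by
    let e : {a : G // a ∈ A ∧ a ≠ 1} ≃ {z : ↥N ⧸ U' // z ∈ A₂ ∧ z ≠ 1} :=
      Equiv.ofBijective (fun a => ⟨f ⟨a, hAN a.2.1⟩,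
        mem_map_of_mem f (show (⟨_, hAN a.2.1⟩ : N) ∈ A₁ from a.2.1),
        fun h1 => a.2.2 (congrArg Subtype.val (hinj (x := ⟨_, hAN a.2.1⟩) a.2.1 h1))⟩) (by
      refine ⟨fun a b hab => Subtype.ext ?_, fun z => ?_⟩
      · have h0 : f ⟨a, hAN a.2.1⟩ = f ⟨b, hAN b.2.1⟩ := congrArg Subtype.val hab
        have h1 := hinj (x := (⟨a, hAN a.2.1⟩ : N)⁻¹ * ⟨b, hAN b.2.1⟩)
          (A.mul_mem (A.inv_mem a.2.1) b.2.1) (by rw [map_mul, map_inv, h0, inv_mul_cancel])
        exact congrArg (fun z : N => (z : G)) (inv_mul_eq_one.mp h1)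
      · obtain ⟨a, ha, ha1, haz⟩ := hlift z z.2.1 z.2.2
        exact ⟨⟨a, ha, ha1⟩, Subtype.ext haz⟩)
    have hcard : ∀ a : {a : G // a ∈ A ∧ a ≠ 1}, Nat.card (θ₂ (e a : ↥N ⧸ U')) *
        Nat.card ((θ (a : G)).subgroupOf N ⊓ U' : Subgroup N) = Nat.card (θ (a : G)) := by
      intro a
      rw [show (e a : ↥N ⧸ U') = f ⟨a, hAN a.2.1⟩ from rfl, hθ₂eq _ a.2.1, hθ₁, hf,
        Core.card_map_mk_mul, Coprime.card_subgroupOf (hno _ a.2.1 a.2.2)]
    refine size_lt e (fun a => Nat.le_of_dvd Nat.card_pos (Dvd.intro _ (hcard a))) ⟨a₀, ha₀, ha₀1⟩ ?_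
    rw [← hcard ⟨a₀, ha₀, ha₀1⟩]
    refine lt_mul_of_one_lt_right Nat.card_pos ((Subgroup.one_lt_card_iff_ne_bot _).mpr fun hb => hUa ?_)
    rw [eq_bot_iff]
    intro x hx
    have : (⟨x, le_normalizer hx.1⟩ : N) ∈ (θ a₀).subgroupOf N ⊓ U' := ⟨hx.2, hx.1⟩
    rw [hb, mem_bot] at this
    exact mem_bot.mpr (congrArg Subtype.val this)
  obtain ⟨W₂, hW₂, hW₂le⟩ := C.ih _ A₂ θ₂ hH₂ hlt
  set W₁ := W₂.comap f with hW₁
  have hW₁card : Nat.card W₁ = Nat.card U' * Nat.card W₂ := by rw [hW₁, hf, Core.card_comap_mk]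
  have hW₁s : Group.IsSolvable W₁ := by
    have h1 : Group.IsSolvable (U'.subgroupOf W₁) :=
      Coprime.isSolvable_subgroupOf W₁ (Coprime.isSolvable_subgroupOf N hU.1)
    have := hW₂.1
    refine Group.isSolvable_of_ker_le_range (U'.subgroupOf W₁).subtype (f.subgroupComap W₂) ?_
    intro x hx
    rw [range_subtype]
    exact (QuotientGroup.eq_one_iff (N := U') _).mp (congrArg Subtype.val hx)
  refine ⟨W₁.map N.subtype, mem_family_iff.mpr ⟨Coprime.isSolvable_map _ hW₁s, ?_, ?_, ?_⟩, ?_⟩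
  · rw [card_map_of_injective N.subtype_injective, hW₁card]
    exact (Fact.out : p.Prime).not_dvd_mul hcardU hW₂.2.1
  · rw [le_normalizer_iff_conj]
    rintro b hb _ ⟨x, hx, rfl⟩
    refine ⟨⟨b, hAN hb⟩ * x * ⟨b, hAN hb⟩⁻¹, ?_, rfl⟩
    rw [hW₁, SetLike.mem_coe, mem_comap, map_mul, map_mul, map_inv]
    exact hW₂.2.2.1 _ (mem_map_of_mem f (show (⟨b, hAN hb⟩ : N) ∈ A₁ from hb)) _ hx
  · rintro a ha ha1 _ ⟨⟨x, hx, rfl⟩, hxa⟩
    set a' : N := ⟨a, hAN ha⟩
    have hfa : f a' ≠ 1 := fun h1 => ha1 (congrArg Subtype.val (hinj (x := a') ha h1))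
    have h1 : f x ∈ W₂ ⊓ centralizer {f a'} := by
      refine ⟨hx, mem_centralizer_singleton_iff.mpr ?_⟩
      rw [← map_mul, ← map_mul]
      exact congrArg f (Subtype.ext (mem_centralizer_singleton_iff.mp hxa))
    have h2 := hW₂.2.2.2 _ (mem_map_of_mem f (show a' ∈ A₁ from ha)) hfa h1
    rw [hθ₂eq a' ha] at h2
    obtain ⟨t, ht, htx⟩ := h2
    have hm : (x : G) * (t : G)⁻¹ ∈ U := by
      have : f (x * t⁻¹) = 1 := by rw [map_mul, map_inv, htx, mul_inv_cancel]
      exact (QuotientGroup.eq_one_iff (N := U') (x * t⁻¹)).mp this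
    have h3 := inf_le_theta hU ha ha1 ⟨hm, (centralizer {a}).mul_mem hxa
      ((centralizer {a}).inv_mem (theta_le_centralizer C.functor ha ha1 ht))⟩
    have := (θ a).mul_mem h3 ht
    simpa using this
  · intro a ha ha1 x hx
    refine ⟨⟨x, hno a ha ha1 hx⟩, ?_, rfl⟩
    have hm : f ⟨x, hno a ha ha1 hx⟩ ∈ θ₂ (f ⟨a, hAN ha⟩) := by
      rw [hθ₂eq _ ha]
      exact mem_map_of_mem f (show (⟨x, _⟩ : N) ∈ (θ a).subgroupOf N from hx)
    exact hW₂le _ (mem_map_of_mem f (show (⟨a, hAN ha⟩ : N) ∈ A₁ from ha))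
      (fun h1 => ha1 (congrArg Subtype.val (hinj (x := ⟨a, hAN ha⟩) ha h1))) hm

/-- Completeness below a proper subfunctor. -/
theorem exists_of_sub {θ' : G → Subgroup G} (hθ' : Cfsg.IsSolvableSignalizerFunctor p A θ')
    (hle : ∀ a ∈ A, a ≠ 1 → θ' a ≤ θ a) (hlt : ∃ a ∈ A, a ≠ 1 ∧ ¬ θ a ≤ θ' a) :
    ∃ W ∈ signalizerFamily p A θ', W ∈ signalizerFamily p A θ ∧ ∀ a ∈ A, a ≠ 1 → θ' a ≤ W := by
  obtain ⟨a₀, ha₀, ha₀1, hn⟩ := hlt
  have hsz : size A θ' < size A θ := by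
    refine size_lt (Equiv.refl _) (fun a => Nat.le_of_dvd Nat.card_pos
      (card_dvd_of_le (hle _ a.2.1 a.2.2))) ⟨a₀, ha₀, ha₀1⟩ ?_
    refine lt_of_le_of_ne (Nat.le_of_dvd Nat.card_pos (card_dvd_of_le (hle _ ha₀ ha₀1)))
      fun he => hn (eq_of_le_of_card_ge (hle _ ha₀ ha₀1) he.ge).ge
  obtain ⟨W, hW, hWle⟩ := C.ih G A θ' ⟨C.ea, C.card, hθ'⟩ hsz
  exact ⟨W, hW, mem_family_iff.mpr ⟨hW.1, hW.2.1, le_normalizer_of_mem hW,
    fun a ha ha1 => (hW.2.2.2 a ha ha1).trans (hle a ha ha1)⟩, hWle⟩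

theorem nrm_spec {U : Subgroup G} (hU : U ∈ signalizerFamily p A θ) (hU1 : U ≠ ⊥) :
    nrm p A θ U ∈ signalizerFamily p A θ ∧ nrm p A θ U ≤ normalizer (U : Set G) := by
  set N := normalizer (U : Set G)
  have hAN : A ≤ normalizer (N : Set G) := (le_normalizer_of_mem hU).trans le_normalizer
  have hθ' : Cfsg.IsSolvableSignalizerFunctor p A (fun a => θ a ⊓ N) := by
    refine ⟨⟨fun a ha ha1 => inf_le_left.trans (theta_le_centralizer C.functor ha ha1),
      fun a ha ha1 hd => C.not_dvd_theta ha ha1 (hd.trans (card_dvd_of_le inf_le_left)),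
      fun a ha ha1 => le_normalizer_iff_conj.mp
        (le_normalizer_inf (le_normalizer_theta C.functor ha ha1) hAN),
      fun a ha ha1 b hb hb1 => le_inf ((inf_le_inf_right _ inf_le_left).trans
        (balance C.functor ha ha1 hb hb1)) (inf_le_left.trans inf_le_right)⟩,
      fun a ha ha1 => isSolvable_of_le inf_le_left (C.functor.2 a ha ha1)⟩
  obtain ⟨a₀, ha₀, ha₀1, hn⟩ := C.exists_theta_not_le hU hU1
  obtain ⟨W, hW', hW, hWle⟩ := C.exists_of_sub hθ' (fun _ _ _ => inf_le_left)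
    ⟨a₀, ha₀, ha₀1, fun h => hn (h.trans inf_le_right)⟩
  have hWN : W ≤ N := le_of_inf_theta_le C.ea le_rfl C.le2 hW'
    fun b hb hb1 => inf_le_right.trans inf_le_right
  have heq : nrm p A θ U = W := by
    refine le_antisymm (sSup_le ?_) (le_nrm hW hWN)
    rintro V ⟨hV, hVN⟩
    exact le_of_inf_theta_le C.ea le_rfl C.le2 hV fun b hb hb1 =>
      (le_inf inf_le_right (inf_le_left.trans hVN)).trans (hWle b hb hb1)
  exact heq ▸ ⟨hW, hWN⟩

theorem nrm_mem {U : Subgroup G} (hU : U ∈ signalizerFamily p A θ) (hU1 : U ≠ ⊥) :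
    nrm p A θ U ∈ signalizerFamily p A θ := (C.nrm_spec hU hU1).1

theorem D_normalizes_inter {U : Subgroup G} (hU : signalizerInf A θ ≤ normalizer (U : Set G)) {b : G}
    (hb : b ∈ A) : signalizerInf A θ ≤ normalizer ((U ⊓ centralizer {b} : Subgroup G) : Set G) :=
  le_normalizer_inf hU (((signalizerInf_A_le_centralizer C.functor).trans
    (centralizer_le (Set.singleton_subset_iff.mpr hb))).trans le_normalizer)

theorem gr_spec {π : Set ℕ} (hπ : ∃ r ∈ primes A θ, r ∉ π) :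
    gr p A θ π ∈ signalizerFamily p A θ ∧ signalizerInf A θ ≤ normalizer (gr p A θ π : Set G) ∧
      ∀ r : ℕ, r.Prime → r ∣ Nat.card (gr p A θ π) → r ∈ π := by
  set D := signalizerInf A θ with hD
  let φ : G → Subgroup G := fun a =>
    ⨅ H : {H : Subgroup G // IsPiHallOf π H (θ a) ∧ A ≤ normalizer (H : Set G)}, (H : Subgroup G)
  have hall : ∀ a ∈ A, a ≠ 1 → ∃ H : Subgroup G, IsPiHallOf π H (θ a) ∧ A ≤ normalizer (H : Set G) :=
    fun a ha ha1 => exists_invariant_hall (le_normalizer_theta C.functor ha ha1)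
      (coprime_of_mem C.ea (theta_mem C.functor ha ha1)) (C.functor.2 a ha ha1) π
  have hφle : ∀ a ∈ A, a ≠ 1 → φ a ≤ θ a := fun a ha ha1 => by
    obtain ⟨H, hH, hHA⟩ := hall a ha ha1
    exact (iInf_le _ ⟨H, hH, hHA⟩).trans hH.1
  have hφπ : ∀ a ∈ A, a ≠ 1 → ∀ r : ℕ, r.Prime → r ∣ Nat.card (φ a) → r ∈ π := fun a ha ha1 r hr hd => by
    obtain ⟨H, hH, hHA⟩ := hall a ha ha1
    exact hH.2.1 r hr (hd.trans (card_dvd_of_le
      (iInf_le (fun H : {H : Subgroup G // IsPiHallOf π H (θ a) ∧ A ≤ normalizer (H : Set G)} =>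
        (H : Subgroup G)) ⟨H, hH, hHA⟩)))
  have hφA : ∀ a, A ≤ normalizer (φ a : Set G) := fun a => by
    rw [le_normalizer_iff_conj]
    intro b hb x hx
    exact mem_iInf.mpr fun H => (le_normalizer_iff_conj.mp H.2.2) b hb x (mem_iInf.mp hx H)
  have hmax : ∀ a ∈ A, a ≠ 1 → ∀ V : Subgroup G, V ≤ θ a → A ≤ normalizer (V : Set G) →
      D ≤ normalizer (V : Set G) → (∀ r : ℕ, r.Prime → r ∣ Nat.card V → r ∈ π) → V ≤ φ a := by
    intro a ha ha1 V hVa hVA hVD hVπ
    obtain ⟨H₀, hH₀, hH₀A, hVH⟩ := exists_le_invariant_hall (le_normalizer_theta C.functor ha ha1)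
      (coprime_of_mem C.ea (theta_mem C.functor ha ha1)) (C.functor.2 a ha ha1) hVa hVA hVπ
    refine le_iInf fun H => ?_
    obtain ⟨c, hc, hcH⟩ := exists_centralizer_conj_hall (le_normalizer_theta C.functor ha ha1)
      (coprime_of_mem C.ea (theta_mem C.functor ha ha1)) (C.functor.2 a ha ha1) hH₀ hH₀A H.2.1 H.2.2
    rw [← hcH, ← conj_smul_eq_self_of_mem_normalizer
      (hVD (inf_centralizer_le_signalizerInf (theta_mem C.functor ha ha1) le_rfl hc))]
    exact Subgroup.pointwise_smul_le_pointwise_smul_iff.mpr hVH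
  have hφD : ∀ a ∈ A, a ≠ 1 → D ≤ normalizer (φ a : Set G) := by
    intro a ha ha1 d hd
    apply mem_normalizer_of_conj_smul_eq
    have key : ∀ x ∈ D, MulAut.conj x • φ a ≤ φ a := by
      intro x hx
      refine le_iInf fun H => ?_
      have hxA := signalizerInf_A_le_centralizer C.functor hx
      have hxn : x⁻¹ ∈ normalizer (θ a : Set G) := inv_mem (le_normalizer (signalizerInf_le ha ha1 hx))
      have hH' : A ≤ normalizer ((MulAut.conj x⁻¹ • (H : Subgroup G) : Subgroup G) : Set G) := by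
        intro b hb
        apply mem_normalizer_of_conj_smul_eq
        rw [← conj_mul_smul, mem_centralizer_iff.mp (inv_mem hxA) b hb, conj_mul_smul,
          conj_smul_eq_self_of_mem_normalizer (H.2.2 hb)]
      have h1 : φ a ≤ MulAut.conj x⁻¹ • (H : Subgroup G) :=
        iInf_le (fun H : {H : Subgroup G // IsPiHallOf π H (θ a) ∧ A ≤ normalizer (H : Set G)} =>
          (H : Subgroup G)) ⟨_, isPiHallOf_conj H.2.1 hxn, hH'⟩
      have h2 := Subgroup.pointwise_smul_le_pointwise_smul_iff (a := MulAut.conj x) |>.mpr h1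
      rwa [← conj_mul_smul, mul_inv_cancel, map_one, one_smul] at h2
    refine le_antisymm (key d hd) ?_
    have h2 := Subgroup.pointwise_smul_le_pointwise_smul_iff (a := MulAut.conj d) |>.mpr (key d⁻¹ (inv_mem hd))
    rwa [← conj_mul_smul, mul_inv_cancel, map_one, one_smul] at h2
  have hθ' : Cfsg.IsSolvableSignalizerFunctor p A φ := by
    refine ⟨⟨fun a ha ha1 => (hφle a ha ha1).trans (theta_le_centralizer C.functor ha ha1),
      fun a ha ha1 hd => C.not_dvd_theta ha ha1 (hd.trans (card_dvd_of_le (hφle a ha ha1))),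
      fun a _ _ => le_normalizer_iff_conj.mp (hφA a), fun a ha ha1 b hb hb1 => ?_⟩,
      fun a ha ha1 => isSolvable_of_le (hφle a ha ha1) (C.functor.2 a ha ha1)⟩
    exact hmax b hb hb1 _ ((inf_le_inf_right _ (hφle a ha ha1)).trans (balance C.functor ha ha1 hb hb1))
      (le_normalizer_inf (hφA a) ((ea_le_centralizer_singleton C.ea hb).trans le_normalizer))
      (C.D_normalizes_inter (hφD a ha ha1) hb)
      fun r hr hd => hφπ a ha ha1 r hr (hd.trans (card_dvd_of_le inf_le_left))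
  obtain ⟨r₀, ⟨hr₀, a₀, ha₀, ha₀1, hd₀⟩, hr₀π⟩ := hπ
  obtain ⟨W, hW', hW, hWle⟩ := C.exists_of_sub hθ' hφle ⟨a₀, ha₀, ha₀1, fun hh => hr₀π
    (hφπ a₀ ha₀ ha₀1 r₀ hr₀ (hd₀.trans (card_dvd_of_le hh)))⟩
  have hWπ : ∀ r : ℕ, r.Prime → r ∣ Nat.card W → r ∈ π := by
    intro r hr hd
    obtain ⟨a, ha, ha1, hda⟩ := (⟨C.ea, C.card, hθ'⟩ : Hyp p A φ).mem_primes_of_dvd hW' hr hd
    exact hφπ a ha ha1 r hr (hda.trans (card_dvd_of_le inf_le_right))
  have hWD : D ≤ normalizer (W : Set G) := by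
    intro d hd
    have hdA := signalizerInf_A_le_centralizer C.functor hd
    have key : ∀ x ∈ D, MulAut.conj x • W ≤ W := by
      intro x hx
      have hxA := signalizerInf_A_le_centralizer C.functor hx
      refine le_of_inf_theta_le C.ea le_rfl C.le2 (conj_mem C.functor hW hx) fun b hb hb1 => ?_
      rintro y ⟨hy, hyb⟩
      have hy := mem_conj_smul.mp (show y ∈ MulAut.conj x • W from hy)
      have hxb : x ∈ centralizer {b} := centralizer_le (Set.singleton_subset_iff.mpr hb) hxA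
      have h1 : x⁻¹ * y * x ∈ φ b := hW'.2.2.2 b hb hb1 ⟨hy, Subgroup.mul_mem _
        (Subgroup.mul_mem _ (inv_mem hxb) (theta_le_centralizer C.functor hb hb1 hyb)) hxb⟩
      have h2 := (mem_normalizer_iff.mp (hφD b hb hb1 hx) _).mp h1
      refine hWle b hb hb1 ?_
      simpa [mul_assoc] using h2
    apply mem_normalizer_of_conj_smul_eq
    refine le_antisymm (key d hd) ?_
    have h2 := Subgroup.pointwise_smul_le_pointwise_smul_iff (a := MulAut.conj d) |>.mpr (key d⁻¹ (inv_mem hd))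
    rwa [← conj_mul_smul, mul_inv_cancel, map_one, one_smul] at h2
  have heq : gr p A θ π = W := by
    refine le_antisymm (sSup_le ?_) (le_gr hW hWD hWπ)
    rintro V ⟨hV, hVD, hVπ⟩
    refine le_of_inf_theta_le C.ea le_rfl C.le2 hV fun b hb hb1 => ?_
    refine le_trans (hmax b hb hb1 _ inf_le_right (le_normalizer_inf (le_normalizer_of_mem hV)
      (le_normalizer_theta C.functor hb hb1)) (le_normalizer_inf hVD
        ((signalizerInf_le hb hb1).trans le_normalizer))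
      fun r hr hd => hVπ r hr (hd.trans (card_dvd_of_le inf_le_left))) (hWle b hb hb1)
  exact heq ▸ ⟨hW, hWD, hWπ⟩

/-! ### Maximal members -/

theorem exists_mx_ge {U : Subgroup G} (hU : U ∈ signalizerFamily p A θ)
    (hD : signalizerInf A θ ≤ normalizer (U : Set G)) : ∃ M, IsMx p A θ M ∧ U ≤ M := by
  have h0 := sup_mem C.ea hU C.D_mem hD
  obtain ⟨M, ⟨hM, hle⟩, hmax⟩ := wellFounded_gt.has_min
    {V : Subgroup G | V ∈ signalizerFamily p A θ ∧ U ⊔ signalizerInf A θ ≤ V} ⟨_, h0, le_rfl⟩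
  exact ⟨M, ⟨hM, le_sup_right.trans hle, fun V hV hle' =>
    (eq_of_le_of_not_lt hle' fun hlt => hmax V ⟨hV, hle.trans hle'⟩ hlt).symm⟩, le_sup_left.trans hle⟩

theorem exists_mx_theta {a : G} (ha : a ∈ A) (ha1 : a ≠ 1) : ∃ M, IsMx p A θ M ∧ θ a ≤ M :=
  C.exists_mx_ge (theta_mem C.functor ha ha1) ((signalizerInf_le ha ha1).trans le_normalizer)

theorem exists_theta_ne_bot : ∃ a ∈ A, a ≠ 1 ∧ θ a ≠ ⊥ := by
  by_contra hno
  push Not at hno
  exact C.not_complete ⟨⊥, C.bot_mem, fun a ha ha1 => (hno a ha ha1).le⟩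

theorem mx_ne_bot {M : Subgroup G} (hM : IsMx p A θ M) : M ≠ ⊥ := by
  intro hb
  obtain ⟨a, ha, ha1, hne⟩ := C.exists_theta_ne_bot
  exact hne (le_bot_iff.mp ((hM.max _ (theta_mem C.functor ha ha1) (hb ▸ bot_le)).le.trans hb.le))

theorem le_of_normalizes {M X : Subgroup G} (hM : IsMx p A θ M) (hX : X ∈ signalizerFamily p A θ)
    (hX1 : X ≠ ⊥) (hMX : M ≤ normalizer (X : Set G)) {V : Subgroup G}
    (hV : V ∈ signalizerFamily p A θ) (hVX : V ≤ normalizer (X : Set G)) : V ≤ M :=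
  (le_nrm hV hVX).trans (hM.max _ (C.nrm_mem hX hX1) (le_nrm hM.mem hMX)).le

theorem cor_mem {M : Subgroup G} (hM : M ∈ signalizerFamily p A θ) (q : ℕ) :
    Cor q M ∈ signalizerFamily p A θ :=
  mem_of_le hM (cor_le q) ((le_normalizer_of_mem hM).trans (normalizer_le_cor q))

theorem le_of_normalizes_cor {M : Subgroup G} (hM : IsMx p A θ M) {q : ℕ} (hne : Cor q M ≠ ⊥)
    {V : Subgroup G} (hV : V ∈ signalizerFamily p A θ) (hn : V ≤ normalizer (Cor q M : Set G)) :
    V ≤ M :=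
  C.le_of_normalizes hM (C.cor_mem hM.mem q) hne (Subgroup.le_normalizer.trans (normalizer_le_cor q)) hV hn

theorem exists_cor_ne_bot {M : Subgroup G} (hM : IsMx p A θ M) :
    ∃ q : ℕ, q.Prime ∧ Cor q M ≠ ⊥ := by
  by_contra hno
  push Not at hno
  have := hM.mem.1
  have : Nontrivial M := (Subgroup.nontrivial_iff_ne_bot M).mpr (C.mx_ne_bot hM)
  have h1 : Ftg M ≤ ⊥ := ftg_le_of_cor fun r hr => (hno r hr).le
  rw [le_bot_iff, Ftg, map_eq_bot_iff_of_injective _ M.subtype_injective] at h1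
  exact Core.fittingSubgroup_ne_bot h1

end Ctx

/-! ### The criterion -/

/-- At every point some line `c` has a member above `θ c` with `Q` in its `q`-core. -/
structure Glob (p : ℕ) (A : Subgroup G) (θ : G → Subgroup G) (q : ℕ) (Q : Subgroup G) : Prop where
  mem : Q ∈ signalizerFamily p A θ
  isPGroup : IsPGroup q Q
  wit : ∀ B, IsPoint p A B → ∃ c ∈ B, c ≠ 1 ∧ ∃ M ∈ signalizerFamily p A θ, θ c ≤ M ∧ Q ≤ Cor q M

theorem Glob.mono {q : ℕ} {Q Q' : Subgroup G} (hQ : Glob p A θ q Q) (hle : Q' ≤ Q)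
    (hA : A ≤ normalizer (Q' : Set G)) : Glob p A θ q Q' :=
  ⟨mem_of_le hQ.mem hle hA, hQ.isPGroup.to_le hle, fun B hB => by
    obtain ⟨c, hc, hc1, M, hM, hcM, hQM⟩ := hQ.wit B hB
    exact ⟨c, hc, hc1, M, hM, hcM, hle.trans hQM⟩⟩

theorem Hyp.glob_le_cor (h : Hyp p A θ) {q : ℕ} [Fact q.Prime] {Q K : Subgroup G} (hQ : Glob p A θ q Q)
    (hK : K ∈ signalizerFamily p A θ) (hQK : Q ≤ K) : Q ≤ Cor q K := by
  set X : Subgroup K := ⨅ r : {r : Nat.Primes // (r : ℕ) ≠ q ∧ (r : ℕ) ∣ Nat.card K},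
    Cfsg.pPrimeCore (r : ℕ) K with hX
  have hXp : IsPGroup q X := by
    refine IsPGroup.of_card (n := (Nat.card X).primeFactorsList.length)
      (Nat.eq_prime_pow_of_unique_prime_dvd Nat.card_pos.ne' ?_)
    intro r hr hd
    by_contra hne
    have := Fact.mk hr
    exact Core.not_dvd_card_pPrimeCore (hd.trans (card_dvd_of_le
      (iInf_le (fun r : {r : Nat.Primes // (r : ℕ) ≠ q ∧ (r : ℕ) ∣ Nat.card K} =>
        Cfsg.pPrimeCore (r : ℕ) K) ⟨⟨r, hr⟩, hne, hd.trans (card_subgroup_dvd_card X)⟩)))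
  have hXn : X.Normal := Subgroup.normal_iInf_normal fun r => inferInstance
  have hle : Q.subgroupOf K ≤ X := by
    refine le_iInf fun r => ?_
    have := Fact.mk r.1.2
    have hqr : ¬ (r : ℕ) ∣ Nat.card Q := by
      obtain ⟨n, hn⟩ := IsPGroup.iff_card.mp hQ.isPGroup
      rw [hn]
      exact fun hd => r.2.1 ((Nat.prime_dvd_prime_iff_eq r.1.2 Fact.out).mp (r.1.2.dvd_of_dvd_pow hd))
    have h1 := S1288.result p A K h.ea h.le2 hK.2.1 hK.1 (le_normalizer_of_mem hK) (r : ℕ) r.2.2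
      Q hQK hqr (fun B hBA hB => by
        obtain ⟨c, hc, hc1, M, hM, hcM, hQM⟩ := hQ.wit B (h.isPoint_of_relIndex hBA hB)
        have hKB : K ⊓ centralizer (B : Set G) ≤ M :=
          ((inf_le_inf_left _ (centralizer_le (Set.singleton_subset_iff.mpr hc))).trans
            (inf_le_theta hK (hBA hc) hc1)).trans hcM
        have hn : M ≤ normalizer (Cor q M : Set G) := Subgroup.le_normalizer.trans (normalizer_le_cor q)
        have hcomm : ⁅Q, K ⊓ centralizer (B : Set G)⁆ ≤ Cor q M :=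
          (commutator_mono hQM hKB).trans (commutator_le_of_le_normalizer hn)
        obtain ⟨n, hn⟩ := IsPGroup.iff_card.mp ((cor_isPGroup q).to_le hcomm)
        rw [hn]
        exact fun hd => r.2.1 ((Nat.prime_dvd_prime_iff_eq r.1.2 Fact.out).mp (r.1.2.dvd_of_dvd_pow hd)))
    intro x hx
    obtain ⟨y, hy, e⟩ := h1 hx
    exact (Subtype.ext e : y = x) ▸ hy
  have h2 := map_mono (f := K.subtype) (hle.trans (Core.le_pCore hXp))
  rwa [map_subgroupOf_eq_of_le hQK] at h2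

end Cfsg.Agent.Signalizer
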