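import Cfsg.Agent.Thompson.Offender.Operators
import Cfsg.Agent.S0606

/-!
An invariant `p`-subgroup containing `V` and normalised by the fixed points of coprime operators
has all its largest elementary abelian subgroups centralising `V`.
-/

set_option autoImplicit false
set_option linter.unusedSectionVars false

namespace Cfsg.Agent.Signalizer

open Subgroup
open Cfsg.Agent.Offender
open scoped commutatorElement

section Image

variable {G : Type*} [Group G] [Finite G] {p : ℕ} [Fact p.Prime]

theorem isBestOffenderOn_cj {V A : Subgroup G} {x : G} (hx : x ∈ normalizer (V : Set G))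
    (hA : Cfsg.IsBestOffenderOn p V A) : Cfsg.IsBestOffenderOn p V (cj x A) := by
  refine ⟨fun B hB => ?_, ?_, ?_⟩
  · have hB₀ : cj x⁻¹ B ≤ A := (cj_mono hB).trans (le_of_eq (by rw [cj_cj, inv_mul_cancel, cj_one]))
    have h1 := hA.1 _ hB₀
    have hfix : ∀ C : Subgroup G, Nat.card (V ⊓ centralizer (cj x C : Set G) : Subgroup G) =
        Nat.card (V ⊓ centralizer (C : Set G) : Subgroup G) := fun C => by
      rw [← cj_fix hx, card_cj]
    have h2 : cj x (cj x⁻¹ B) = B := by rw [cj_cj, mul_inv_cancel, cj_one]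
    rw [← hfix (cj x⁻¹ B), h2, card_cj, ← hfix A] at h1
    rwa [card_cj]
  · rw [← cj_commutator]
    refine (cj_mono hA.2.1).trans (le_of_eq ?_)
    rw [cj_centralizer, cj_eq_self hx]
  · rintro - ⟨a, ha, rfl⟩
    rw [← map_pow]
    have h1 : MulAut.conj x (a ^ p) ∈ cj x (centralizer (V : Set G)) := ⟨_, hA.2.2 a ha, rfl⟩
    rw [cj_centralizer, cj_eq_self hx] at h1
    exact h1

variable {V : Subgroup G} [V.Normal]

/-- The image of a largest elementary abelian subgroup is a best offender. -/
theorem isBestOffenderOn_image {K : Subgroup G} (hVK : V ≤ K) (hV : Cfsg.IsElementaryAbelian p V)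
    {A : Subgroup K} (hA : A ∈ Cfsg.maxElementaryAbelianSubgroups p ↥K) :
    Cfsg.IsBestOffenderOn p (emb V V) ((A.map K.subtype).map (act V)) := by
  set σ := act V with hσ
  have hVn : (V.subgroupOf K).Normal := ‹V.Normal›.subgroupOf K
  have hoff := Cfsg.Agent.S0606.result (V.subgroupOf K)
    ((Thompson.ea_map_iff K.subtype_injective).1 (by
      rw [subgroupOf_map_subtype, inf_eq_left.2 hVK]; exact hV)) A hA
  set A' := A.map K.subtype with hA'
  have hea : Cfsg.IsElementaryAbelian p (A'.map σ) := Thompson.ea_map (Thompson.ea_map hA.1 _) _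
  refine ⟨fun B hB => ?_, ?_, fun a ha => ?_⟩
  · set B₀ := A' ⊓ B.comap σ with hB₀
    have hmap : B₀.map σ = B := by
      refine le_antisymm (map_le_iff_le_comap.2 inf_le_right) fun b hb => ?_
      obtain ⟨a, ha, rfl⟩ := hB hb
      exact ⟨a, ⟨ha, hb⟩, rfl⟩
    have hker : B₀ ⊓ centralizer (V : Set G) = A' ⊓ centralizer (V : Set G) := by
      refine le_antisymm (inf_le_inf_right _ inf_le_left) ?_
      rintro x ⟨hx, hxc⟩
      refine ⟨⟨hx, ?_⟩, hxc⟩
      show σ x ∈ B
      rw [show σ x = 1 from MonoidHom.mem_ker.1 ((act_ker (V := V)).ge hxc)]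
      exact one_mem _
    have hB₀K : B₀ ≤ K := inf_le_left.trans (map_subtype_le A)
    have key := hoff.1 (B₀.subgroupOf K) (fun x hx => by
      obtain ⟨y, hy, he⟩ := (show (x : G) ∈ A' from hx.1)
      rwa [← Subtype.ext he])
    rw [Nat.card_congr (subgroupOfEquivOfLe hB₀K).toEquiv] at key
    have hfix : ∀ X : Subgroup G, ∀ Y : Subgroup K, X = Y.map K.subtype →
        Nat.card (V.subgroupOf K ⊓ centralizer (Y : Set K) : Subgroup K) =
          Nat.card (V ⊓ centralizer (X : Set G) : Subgroup G) := by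
      rintro X Y rfl
      rw [← card_map_of_injective K.subtype_injective]
      refine congrArg (fun S : Subgroup G => Nat.card S) ?_
      ext z
      constructor
      · rintro ⟨w, ⟨hwV, hwc⟩, rfl⟩
        refine ⟨hwV, mem_centralizer_iff.2 ?_⟩
        rintro - ⟨y, hy, rfl⟩
        exact congrArg Subtype.val (mem_centralizer_iff.1 hwc y hy)
      · rintro ⟨hzV, hzc⟩
        exact ⟨⟨z, hVK hzV⟩, ⟨hzV, mem_centralizer_iff.2 fun y hy =>
          Subtype.ext (mem_centralizer_iff.1 hzc _ ⟨y, hy, rfl⟩)⟩, rfl⟩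
    rw [hfix B₀ _ (by rw [subgroupOf_map_subtype, inf_eq_left.2 hB₀K]), hfix A' A rfl,
      Nat.card_congr (A.equivMapOfInjective K.subtype K.subtype_injective).toEquiv] at key
    rw [← hA', ← card_map_act_mul (V := V) B₀, ← card_map_act_mul (V := V) A', hker, hmap] at key
    rw [← hmap, fix_act, fix_act, card_emb inf_le_left, card_emb inf_le_left, hmap]
    refine Nat.le_of_mul_le_mul_right ?_ (Nat.card_pos (α := (A' ⊓ centralizer (V : Set G) : Subgroup G)))
    linarith
  · rw [commutator_eq_bot_iff_le_centralizer.2 (Thompson.ea_iff.1 hea).1]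
    exact bot_le
  · rw [(Thompson.ea_iff.1 hea).2 a ha]
    exact one_mem _

end Image

variable {G : Type*} [Group G] [Finite G] {p q : ℕ} [Fact p.Prime] [Fact q.Prime]

/-- No offender survives in a `p`-subgroup normalised by the fixed points of the operators. -/
theorem maxEA_le_centralizer (K X : Subgroup G) (hXK : X ≤ normalizer (K : Set G)) (V : Subgroup K)
    [V.Characteristic] (hVea : Cfsg.IsElementaryAbelian p V) (hsep : Cfsg.IsPSolvable p ↥K)
    (hD : Cfsg.pCore p (↥K ⧸ (act V).ker) = ⊥) (hX : IsPGroup q X) (hq : ¬ q ∣ Nat.card K)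
    {S : Subgroup K} (hS : IsPGroup p S) (hVS : V ≤ S)
    (hfixS : ∀ k : K, (k : G) ∈ centralizer (X : Set G) → k ∈ normalizer (S : Set K))
    {E : Subgroup S} (hE : E ∈ Cfsg.maxElementaryAbelianSubgroups p ↥S) :
    E.map S.subtype ≤ centralizer (V : Set K) := by
  obtain ⟨-, hτp, -, hτV, -, -⟩ := ops_setting K X hXK V hVea hsep hD hX hq
  set σ := act V with hσ
  set τ := (opsHom K X hXK V).range with hτ
  set H : Subgroup (Hol V) := ⨆ B : {B : Subgroup (Hol V) //
    B ≤ σ.range ∧ Cfsg.IsBestOffenderOn p (emb V V) B}, (B : Subgroup (Hol V)) with hH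
  have hHr : H ≤ σ.range := iSup_le fun B => B.2.1
  have hinv : ∀ x, x ∈ normalizer (σ.range : Set (Hol V)) →
      x ∈ normalizer (emb V V : Set (Hol V)) → cj x H ≤ H := by
    intro x hxr hxV
    rw [hH]
    refine (Subgroup.map_iSup _ _).le.trans (iSup_le fun B => ?_)
    exact le_iSup_of_le ⟨cj x B.1, (cj_mono B.2.1).trans (cj_eq_self hxr).le,
      isBestOffenderOn_cj hxV B.2.2⟩ le_rfl
  have hHn : σ.range ≤ normalizer (H : Set (Hol V)) := le_normalizer_of_cj fun y hy =>
    eq_of_le_of_card_ge (hinv y (Subgroup.le_normalizer hy) (act_le_normalizer hy)) (card_cj _ _).ge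
  have hτr : τ ≤ normalizer (σ.range : Set (Hol V)) := by
    refine le_normalizer_of_cj ?_
    rintro - ⟨x, rfl⟩
    refine eq_of_le_of_card_ge ?_ (card_cj _ _).ge
    rintro - ⟨-, ⟨k, rfl⟩, rfl⟩
    exact ⟨_, (opsHom_conj_act K X hXK V x k).symm⟩
  have hτH : τ ≤ normalizer (H : Set (Hol V)) := le_normalizer_of_cj fun y hy =>
    eq_of_le_of_card_ge (hinv y (hτr hy) (hτV hy)) (card_cj _ _).ge
  have hqH : ¬ q ∣ Nat.card H := fun hd => hq (hd.trans ((card_dvd_of_le hHr).trans
    (card_range_dvd σ)))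
  have hff : FF p (emb V V) H := by
    refine ⟨emb_ea hVea, hHr.trans act_le_normalizer, ?_, ?_, ?_⟩
    · rw [eq_bot_iff]
      rintro x ⟨hx, hc⟩
      obtain ⟨g, rfl⟩ := hHr hx
      refine mem_bot.2 (MonoidHom.mem_ker.1 ?_)
      rw [hσ, act_ker, mem_centralizer_iff]
      intro v hv
      have h1 := mem_centralizer_iff.1 hc _ (inl_mem_emb (v := ⟨v, hv⟩).2 hv)
      have h2 := act_conj g ⟨v, hv⟩
      rw [← hσ, ← h1, mul_inv_cancel_right] at h2
      exact (mul_inv_eq_iff_eq_mul.1
        (congrArg Subtype.val (SemidirectProduct.inl_injective h2)).symm).symm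
    · have hsepR : Cfsg.IsPSolvable p σ.range :=
        Layer.isPSolvable_of_surjective hsep σ.rangeRestrict_surjective
      have hn : (H.subgroupOf σ.range).Normal := normal_subgroupOf_of_le_normalizer hHn
      refine centralizer_pPrimeCore_le
        (Layer.isPSolvable_of_surjective (isPSolvable_subgroup hsepR (H.subgroupOf σ.range))
          (f := (subgroupOfEquivOfLe hHr).toMonoidHom) (MulEquiv.surjective _)) ?_
      rw [← Core.map_pCore (subgroupOfEquivOfLe hHr), Subgroup.map_eq_bot_iff_of_injective _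
        (subgroupOfEquivOfLe hHr).injective,
        ← Subgroup.map_eq_bot_iff_of_injective _ (H.subgroupOf σ.range).subtype_injective,
        ← le_bot_iff, ← pCore_range_eq_bot σ hD]
      exact Layer.subnormal_le_pCore (Subgroup.Normal.isSubnormal inferInstance |>.trans'
        (Subgroup.Normal.isSubnormal hn)) (Core.pCore_isPGroup.map _)
    · refine le_antisymm (iSup_le fun B => ?_) (iSup_le fun B => B.2.1)
      exact le_iSup_of_le ⟨B.1, le_iSup_of_le B le_rfl, B.2.2⟩ le_rfl
  set T := S.map σ with hT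
  have hET : (E.map S.subtype).map σ ≤ T := map_mono (map_subtype_le _)
  have hEH : (E.map S.subtype).map σ ≤ H :=
    le_iSup_of_le ⟨_, map_le_range σ _, isBestOffenderOn_image hVS hVea hE⟩ le_rfl
  have hTp : IsPGroup p T := hS.map σ
  -- no line lies in `T`
  have hno : ∀ L, IsLine p (emb V V) H L → L ≤ T → False := by
    intro L hl hLT
    obtain ⟨δ, -, hfix, hconj, hδH, -⟩ := hl.exists_diag hff hτp hτH hτV hqH
    have hcT : ∀ e ∈ blk p H L, cj e L ≤ T := by
      intro e he
      set m : ↥(blk p H L ⊔ ⁅emb V V, blk p H L⁆) := ⟨e, mem_sup_left he⟩ with hm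
      obtain ⟨j, hj⟩ := hHr (hδH m (hl.blk_le hff he))
      set C := σ.ker with hC
      set N := C.map K.subtype with hN
      have hCchar : C.Characteristic := by
        rw [hC, hσ, act_ker, characteristic_iff_map_le]
        intro φ
        rintro - ⟨c, hc, rfl⟩
        refine mem_centralizer_iff.2 fun v hv => ?_
        obtain ⟨w, hw, rfl⟩ := (characteristic_iff_map_eq.1 ‹V.Characteristic› φ).ge hv
        exact (map_mul φ w c).symm.trans
          ((congrArg φ (mem_centralizer_iff.1 hc w hw)).trans (map_mul φ c w))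
      have hXN : X ≤ normalizer (N : Set G) :=
        Coprime.le_normalizer_map_of_characteristic hXK C hCchar
      have hcop : (Nat.card X).Coprime (Nat.card N) := by
        obtain ⟨n, hn⟩ := IsPGroup.iff_card.1 hX
        rw [hn, card_map_of_injective K.subtype_injective]
        exact (((Fact.out : q.Prime).coprime_iff_not_dvd).2
          fun hd => hq (hd.trans (card_subgroup_dvd_card C))).pow_left n
      have hk : ∀ x ∈ X, (j : G)⁻¹ * (x * (j : G) * x⁻¹) ∈ N := by
        intro x hx
        refine ⟨j⁻¹ * K.normalizerMonoidHom (inclusion hXK ⟨x, hx⟩) j, ?_, rfl⟩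
        rw [SetLike.mem_coe, hC, MonoidHom.mem_ker, map_mul, map_inv, hσ, ← opsHom_conj_act]
        rw [← hσ, hj, mem_centralizer_iff.1 (hfix m) _ ⟨⟨x, hx⟩, rfl⟩, mul_inv_cancel_right,
          inv_mul_cancel]
      obtain ⟨-, ⟨c, hc, rfl⟩, hfixc⟩ := Coprime.exists_fixed_mem_leftCoset hXN hcop
        (Or.inl (Layer.isSolvable_of_isPGroup hX)) hk
      have hn : δ m ∈ normalizer (T : Set (Hol V)) := by
        rw [← hj, show σ j = σ (j * c) by rw [map_mul, MonoidHom.mem_ker.1 hc, mul_one]]
        exact le_normalizer_map σ (mem_map_of_mem σ (hfixS (j * c) hfixc))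
      rintro - ⟨l, hl', rfl⟩
      show e * l * e⁻¹ ∈ T
      rw [← show δ m * l * (δ m)⁻¹ = e * l * e⁻¹ from
        hconj m ⟨l, mem_sup_left (mem_sup_right hl')⟩]
      exact (mem_normalizer_iff.1 hn l).1 (hLT hl')
    obtain ⟨x, hxR, hxL⟩ : ∃ x ∈ ⁅core p H, L⁆, x ∉ centralizer (L : Set (Hol V)) := by
      refine SetLike.not_le_iff_exists.1 fun hle => hl.commutator_core_ne_bot hff ?_
      have := (hl.ea).1
      rw [← Coprime.commutator_commutator_eq (hl.le.trans FF.le_normalizer_core) (by
          rw [hl.card_eq]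
          exact FF.coprime_core.symm)
        (Or.inl (Group.isSolvable_of_comm fun u v => IsMulCommutative.is_comm.comm u v))]
      exact commutator_eq_bot_iff_le_centralizer.2 hle
    have hblk : blk p H L ≤ T := by
      have hxb : x ∈ blk p H L := mem_sup_left hxR
      rw [hl.blk_eq hff (IsLine.commutator_core_le hl.le hxR) hxL]
      exact sup_le hLT (hcT x hxb)
    refine hl.commutator_core_ne_bot hff (le_bot_iff.1 ?_)
    have h0 : T ⊓ core p H = ⊥ := by
      obtain ⟨n, hn⟩ := IsPGroup.iff_card.1 hTp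
      refine Coprime.inf_eq_bot_of_coprime ?_
      rw [hn]
      exact (FF.coprime_core (H := H)).symm.pow_left n
    rw [← h0]
    exact le_inf (le_sup_left.trans hblk) (IsLine.commutator_core_le hl.le)
  obtain ⟨k, L, hL, -, hsup⟩ := hff.exists_lines hEH (isBestOffenderOn_image hVS hVea hE)
  have hbot : (E.map S.subtype).map σ = ⊥ := by
    rw [← hsup, iSup_eq_bot]
    exact fun i => (hno _ (hL i).2 ((hL i).1.trans hET)).elim
  rw [Subgroup.map_eq_bot_iff] at hbot
  rwa [hσ, act_ker] at hbot

end Cfsg.Agent.Signalizer
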