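import Cfsg.Agent.Signalizer.Toolkit

/-!
The solvable signalizer functor theorem with at least three primes: the intersections of the
cores of the maximal members avoiding a prime.
-/

set_option autoImplicit false
set_option linter.unusedSectionVars false

open Subgroup
open scoped Pointwise commutatorElement

namespace Cfsg.Agent.Signalizer

open Cfsg Cfsg.Agent.Coprime Cfsg.Agent.AbCentFpf

universe u

variable {G : Type u} [Group G] [Finite G] {p : ℕ} [Fact p.Prime] {A : Subgroup G} {θ : G → Subgroup G}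

/-- A chosen maximal member above the greatest member avoiding `u`. -/
noncomputable def kmax (p : ℕ) (A : Subgroup G) (θ : G → Subgroup G) (u : ℕ) : Subgroup G :=
  Classical.epsilon fun M => IsMx p A θ M ∧ gr p A θ {r | r ≠ u} ≤ M

/-- The meet of the `q`-cores of the chosen members. -/
noncomputable def gam (p : ℕ) (A : Subgroup G) (θ : G → Subgroup G) (q : ℕ) : Subgroup G :=
  ⨅ u : {u : ℕ // u ∈ primes A θ ∧ u ≠ q}, Cor q (kmax p A θ (u : ℕ))

/-- A minimal counterexample with at least three primes. -/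
structure Ctx3 (p : ℕ) (A : Subgroup G) (θ : G → Subgroup G) : Prop extends Ctx p A θ where
  three : ∀ a b : ℕ, ∃ u ∈ primes A θ, u ≠ a ∧ u ≠ b

theorem dvd_of_isPGroup {q s : ℕ} [Fact q.Prime] (hs : s.Prime) {X : Subgroup G} (hX : IsPGroup q X)
    (hd : s ∣ Nat.card X) : s = q := by
  obtain ⟨n, hn⟩ := IsPGroup.iff_card.mp hX
  rw [hn] at hd
  exact (Nat.prime_dvd_prime_iff_eq hs Fact.out).mp (hs.dvd_of_dvd_pow hd)

namespace Ctx3

variable (C : Ctx3 p A θ)
include C

theorem kmax_spec {u : ℕ} (hu : u ∈ primes A θ) :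
    IsMx p A θ (kmax p A θ u) ∧ gr p A θ {r | r ≠ u} ≤ kmax p A θ u := by
  obtain ⟨hm, hd, -⟩ := C.gr_spec (π := {r | r ≠ u}) ⟨u, hu, fun h => h rfl⟩
  obtain ⟨M, hM, hle⟩ := C.exists_mx_ge hm hd
  exact Classical.epsilon_spec (p := fun M => IsMx p A θ M ∧ gr p A θ {r | r ≠ u} ≤ M) ⟨M, hM, hle⟩

theorem kmax_mx {u : ℕ} (hu : u ∈ primes A θ) : IsMx p A θ (kmax p A θ u) := (C.kmax_spec hu).1

theorem le_kmax {u : ℕ} (hu : u ∈ primes A θ) {V : Subgroup G} (hV : V ∈ signalizerFamily p A θ)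
    (hD : signalizerInf A θ ≤ normalizer (V : Set G)) (h : ¬ u ∣ Nat.card V) : V ≤ kmax p A θ u :=
  (le_gr hV hD fun r _ hd => show r ≠ u from fun e => h (e ▸ hd)).trans (C.kmax_spec hu).2

theorem le_kmax_of_isPGroup {u t : ℕ} [Fact t.Prime] (hu : u ∈ primes A θ) (hut : u ≠ t)
    {V : Subgroup G} (hV : V ∈ signalizerFamily p A θ)
    (hD : signalizerInf A θ ≤ normalizer (V : Set G)) (ht : IsPGroup t V) : V ≤ kmax p A θ u :=
  C.le_kmax hu hV hD fun hd => hut (dvd_of_isPGroup hu.1 ht hd)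

theorem cor_le_kmax {u t : ℕ} [Fact t.Prime] (hu : u ∈ primes A θ) (hut : u ≠ t) {M : Subgroup G}
    (hM : IsMx p A θ M) : Cor t M ≤ kmax p A θ u :=
  C.le_kmax_of_isPGroup hu hut (C.cor_mem hM.mem t) (hM.dinv_cor t) (cor_isPGroup t)

/-- The intersection of the `q`-cores of two of the chosen members. -/
theorem pair_le_cor {q u v : ℕ} [Fact q.Prime] (hu : u ∈ primes A θ) (hv : v ∈ primes A θ)
    (huv : u ≠ v) (huq : u ≠ q) (hvq : v ≠ q) {M : Subgroup G} (hM : IsMx p A θ M)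
    (hX : Cor q M ≠ ⊥) : Cor q (kmax p A θ u) ⊓ Cor q (kmax p A θ v) ≤ Cor q M := by
  set P := Cor q (kmax p A θ u) ⊓ Cor q (kmax p A θ v) with hP
  have hPm : P ∈ signalizerFamily p A θ := mem_of_le (C.cor_mem (C.kmax_mx hu).mem q) inf_le_left
    (le_normalizer_inf (le_normalizer_of_mem (C.cor_mem (C.kmax_mx hu).mem q))
      (le_normalizer_of_mem (C.cor_mem (C.kmax_mx hv).mem q)))
  have hPp : IsPGroup q P := (cor_isPGroup q).to_le inf_le_left
  have hR : P ⊓ M ≤ Cor q M := by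
    refine C.le_cor_of_qr hM inf_le_right (hPp.to_le inf_le_left) fun r hr hrq W hW hWM hWD hWp => ?_
    obtain ⟨x, hx, hxr, hxq, hPx⟩ : ∃ x ∈ primes A θ, x ≠ r ∧ x ≠ q ∧ P ≤ Cor q (kmax p A θ x) := by
      rcases eq_or_ne u r with rfl | hur
      · exact ⟨v, hv, huv.symm, hvq, inf_le_right⟩
      · exact ⟨u, hu, hur, huq, inf_le_left⟩
    refine ⟨Cor q (kmax p A θ x), cor_isPGroup q,
      (commutator_mono (inf_le_left.trans hPx) le_rfl).trans (commutator_le_of_le_normalizer ?_)⟩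
    refine (C.kmax_mx hx).le_normalizer_cor (C.le_kmax hx hW hWD fun hd => ?_) q
    rcases hWp x hx.1 hd with h | h
    exacts [hxq h, hxr h]
  refine le_of_normalizer_inf_le hPp (cor_isPGroup q)
    (le_normalizer_inf ((C.kmax_mx hu).le_normalizer_cor (C.cor_le_kmax hu huq hM) q)
      ((C.kmax_mx hv).le_normalizer_cor (C.cor_le_kmax hv hvq hM) q)) ?_
  refine le_trans (le_inf inf_le_left (C.le_of_normalizes_cor hM hX ?_ inf_le_right)) hR
  exact mem_of_le hPm inf_le_left (le_normalizer_inf (le_normalizer_of_mem hPm)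
    ((le_normalizer_of_mem (C.cor_mem hM.mem q)).trans Subgroup.le_normalizer))

theorem pair_inf_centralizer_eq_bot {q u v : ℕ} [Fact q.Prime] (hu : u ∈ primes A θ)
    (hv : v ∈ primes A θ) (huv : u ≠ v) (huq : u ≠ q) (hvq : v ≠ q) {f : G} (hf : f ∈ A) (hf1 : f ≠ 1)
    (hnot : ¬ IsLineOf p A θ q f) :
    Cor q (kmax p A θ u) ⊓ Cor q (kmax p A θ v) ⊓ centralizer {f} = ⊥ := by
  obtain ⟨M, hM, hfM⟩ := C.exists_mx_theta hf hf1
  set P := Cor q (kmax p A θ u) ⊓ Cor q (kmax p A θ v)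
  have hbot : Cor q M = ⊥ := by
    by_contra h
    exact hnot ⟨M, hM, hfM, h⟩
  have hle : P ⊓ centralizer {f} ≤ M := le_trans (le_trans (inf_le_inf_right _ inf_le_left)
    (inf_le_theta (C.cor_mem (C.kmax_mx hu).mem q) hf hf1)) hfM
  have hPp : IsPGroup q (P ⊓ centralizer {f} : Subgroup G) :=
    ((cor_isPGroup q).to_le inf_le_left).to_le inf_le_left
  rw [← le_bot_iff, ← hbot]
  refine le_cor_of_centralizes hM.mem.1 hPp hle fun r hr => ?_
  have := Fact.mk hr
  rcases eq_or_ne r q with rfl | hrq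
  · rw [hbot]; exact bot_le
  obtain ⟨x, hx, hxr, hxq, hPx⟩ : ∃ x ∈ primes A θ, x ≠ r ∧ x ≠ q ∧ P ≤ Cor q (kmax p A θ x) := by
    rcases eq_or_ne u r with rfl | hur
    · exact ⟨v, hv, huv.symm, hvq, inf_le_right⟩
    · exact ⟨u, hu, hur, huq, inf_le_left⟩
  rw [← commutator_eq_bot_iff_le_centralizer, eq_bot_iff,
    ← Coprime.inf_eq_bot_of_coprime (coprime_of_isPGroup hrq (cor_isPGroup r : IsPGroup r (Cor r M))
      (cor_isPGroup q : IsPGroup q (Cor q (kmax p A θ x))))]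
  refine le_inf (commutator_le_of_le_normalizer (hM.le_normalizer_cor hle r)) ?_
  rw [commutator_comm]
  refine (commutator_mono (inf_le_left.trans hPx) le_rfl).trans (commutator_le_of_le_normalizer ?_)
  exact (C.kmax_mx hx).le_normalizer_cor (C.cor_le_kmax hx hxr hM) q

theorem le_gam {q : ℕ} {X : Subgroup G}
    (h : ∀ u ∈ primes A θ, u ≠ q → X ≤ Cor q (kmax p A θ u)) : X ≤ gam p A θ q :=
  le_iInf fun u => h u u.2.1 u.2.2

theorem gam_le {q u : ℕ} (hu : u ∈ primes A θ) (huq : u ≠ q) :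
    gam p A θ q ≤ Cor q (kmax p A θ u) :=
  iInf_le (fun u : {u : ℕ // u ∈ primes A θ ∧ u ≠ q} => Cor q (kmax p A θ (u : ℕ))) ⟨u, hu, huq⟩

theorem glob_le_gam {q : ℕ} [Fact q.Prime] {P : Subgroup G} (hP : Glob p A θ q P)
    (hD : signalizerInf A θ ≤ normalizer (P : Set G)) : P ≤ gam p A θ q :=
  C.le_gam fun _ hu huq => C.glob_le_cor hP (C.kmax_mx hu).mem
    (C.le_kmax_of_isPGroup hu huq hP.mem hD hP.isPGroup)

theorem exists_line_of_pair {q u v : ℕ} [Fact q.Prime] (hu : u ∈ primes A θ) (hv : v ∈ primes A θ)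
    (huv : u ≠ v) (huq : u ≠ q) (hvq : v ≠ q)
    (hne : Cor q (kmax p A θ u) ⊓ Cor q (kmax p A θ v) ≠ ⊥) {B : Subgroup G} (hB : IsPoint p A B) :
    ∃ c ∈ B, c ≠ 1 ∧ IsLineOf p A θ q c := by
  by_contra hno
  push Not at hno
  refine hne (le_bot_iff.mp (C.le_of_lines hB (mem_of_le (C.cor_mem (C.kmax_mx hu).mem q) inf_le_left
    (le_normalizer_inf (le_normalizer_of_mem (C.cor_mem (C.kmax_mx hu).mem q))
      (le_normalizer_of_mem (C.cor_mem (C.kmax_mx hv).mem q)))) fun b hb hb1 => ?_))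
  refine le_trans (inf_le_inf_left _ (theta_le_centralizer C.functor (hB.1 hb) hb1)) ?_
  exact (C.pair_inf_centralizer_eq_bot hu hv huv huq hvq (hB.1 hb) hb1 (hno b hb hb1)).le

theorem pair_le_gam {q u v : ℕ} [Fact q.Prime] (hu : u ∈ primes A θ) (hv : v ∈ primes A θ)
    (huv : u ≠ v) (huq : u ≠ q) (hvq : v ≠ q) :
    Cor q (kmax p A θ u) ⊓ Cor q (kmax p A θ v) ≤ gam p A θ q := by
  by_cases hne : Cor q (kmax p A θ u) ⊓ Cor q (kmax p A θ v) = ⊥
  · rw [hne]; exact bot_le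
  have hm : Cor q (kmax p A θ u) ⊓ Cor q (kmax p A θ v) ∈ signalizerFamily p A θ :=
    mem_of_le (C.cor_mem (C.kmax_mx hu).mem q) inf_le_left
      (le_normalizer_inf (le_normalizer_of_mem (C.cor_mem (C.kmax_mx hu).mem q))
        (le_normalizer_of_mem (C.cor_mem (C.kmax_mx hv).mem q)))
  refine C.glob_le_gam ⟨hm, (cor_isPGroup q).to_le inf_le_left, fun B hB => ?_⟩
    (le_normalizer_inf ((C.kmax_mx hu).dinv_cor q) ((C.kmax_mx hv).dinv_cor q))
  obtain ⟨c, hc, hc1, M, hM, hcM, hX⟩ := C.exists_line_of_pair hu hv huv huq hvq hne hB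
  exact ⟨c, hc, hc1, M, hM.mem, hcM, C.pair_le_cor hu hv huv huq hvq hM hX⟩

theorem pair_eq_bot {q u v : ℕ} [Fact q.Prime] (hu : u ∈ primes A θ) (hv : v ∈ primes A θ)
    (huv : u ≠ v) (huq : u ≠ q) (hvq : v ≠ q) (hg : gam p A θ q = ⊥) :
    Cor q (kmax p A θ u) ⊓ Cor q (kmax p A θ v) = ⊥ :=
  le_bot_iff.mp ((C.pair_le_gam hu hv huv huq hvq).trans hg.le)

theorem gam_mem (q : ℕ) : gam p A θ q ∈ signalizerFamily p A θ := by
  obtain ⟨u, hu, huq, -⟩ := C.three q q
  refine mem_of_le (C.cor_mem (C.kmax_mx hu).mem q) (C.gam_le hu huq) ?_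
  rw [le_normalizer_iff_conj]
  intro b hb x hx
  exact mem_iInf.mpr fun v => le_normalizer_iff_conj.mp
    (le_normalizer_of_mem (C.cor_mem (C.kmax_mx v.2.1).mem q)) b hb x (mem_iInf.mp hx v)

theorem gam_isPGroup (q : ℕ) : IsPGroup q (gam p A θ q) := by
  obtain ⟨u, hu, huq, -⟩ := C.three q q
  exact (cor_isPGroup q).to_le (C.gam_le hu huq)

theorem le_normalizer_gam {q : ℕ} {V : Subgroup G}
    (h : ∀ u ∈ primes A θ, u ≠ q → V ≤ normalizer (Cor q (kmax p A θ u) : Set G)) :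
    V ≤ normalizer (gam p A θ q : Set G) := by
  intro g hg
  rw [mem_normalizer_iff]
  intro x
  simp only [gam, mem_iInf]
  exact forall_congr' fun u => mem_normalizer_iff.mp (h u u.2.1 u.2.2 hg) x

theorem gam_dinv (q : ℕ) : signalizerInf A θ ≤ normalizer (gam p A θ q : Set G) :=
  C.le_normalizer_gam fun _ hu _ => (C.kmax_mx hu).dinv_cor q

theorem qmem_normalizes_gam {q : ℕ} [Fact q.Prime] {V : Subgroup G} (hV : V ∈ signalizerFamily p A θ)
    (hD : signalizerInf A θ ≤ normalizer (V : Set G)) (hq : IsPGroup q V) :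
    V ≤ normalizer (gam p A θ q : Set G) :=
  C.le_normalizer_gam fun _ hu huq =>
    (C.kmax_mx hu).le_normalizer_cor (C.le_kmax_of_isPGroup hu huq hV hD hq) q

theorem gam_le_cor {q : ℕ} [Fact q.Prime] {M : Subgroup G} (hM : IsMx p A θ M) (hX : Cor q M ≠ ⊥) :
    gam p A θ q ≤ Cor q M := by
  obtain ⟨u, hu, huq, -⟩ := C.three q q
  obtain ⟨v, hv, hvq, hvu⟩ := C.three q u
  exact (le_inf (C.gam_le hu huq) (C.gam_le hv hvq)).trans (C.pair_le_cor hu hv hvu.symm huq hvq hM hX)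

theorem gam_glob {q : ℕ} [Fact q.Prime] (hne : gam p A θ q ≠ ⊥) : Glob p A θ q (gam p A θ q) := by
  obtain ⟨u, hu, huq, -⟩ := C.three q q
  obtain ⟨v, hv, hvq, hvu⟩ := C.three q u
  refine ⟨C.gam_mem q, C.gam_isPGroup q, fun B hB => ?_⟩
  obtain ⟨c, hc, hc1, M, hM, hcM, hX⟩ := C.exists_line_of_pair hu hv hvu.symm huq hvq
    (fun h => hne (le_bot_iff.mp ((le_inf (C.gam_le hu huq) (C.gam_le hv hvq)).trans h.le))) hB
  exact ⟨c, hc, hc1, M, hM.mem, hcM, C.gam_le_cor hM hX⟩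

/-- Two invariant groups of different primes commute inside a third chosen member. -/
theorem gam_commute {q t : ℕ} [Fact q.Prime] [Fact t.Prime] (hqt : q ≠ t) :
    gam p A θ q ≤ centralizer (gam p A θ t : Set G) := by
  obtain ⟨u, hu, huq, hut⟩ := C.three q t
  intro x hx
  exact mem_centralizer_iff.mpr fun y hy =>
    (cor_commute hqt x (C.gam_le hu huq hx) y (C.gam_le hu hut hy)).eq.symm

/-- With all the meets trivial, the cores act faithfully on one another. -/
theorem faithful (hall : ∀ q, q.Prime → gam p A θ q = ⊥) {a i j : ℕ} [Fact a.Prime] [Fact i.Prime]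
    (hi : i ∈ primes A θ) (hj : j ∈ primes A θ) (haj : a ≠ j) (hai : a ≠ i) (hij : i ≠ j) :
    Cor a (kmax p A θ i) ⊓ centralizer (Cor i (kmax p A θ j) : Set G) = ⊥ := by
  set X := Cor a (kmax p A θ i)
  set V := X ⊓ centralizer (Cor i (kmax p A θ j) : Set G) with hV
  have hX : X ≤ kmax p A θ j := C.cor_le_kmax hj haj.symm (C.kmax_mx hi)
  have hXm : X ∈ signalizerFamily p A θ := C.cor_mem (C.kmax_mx hi).mem a
  rw [← le_bot_iff]
  refine le_trans (le_inf inf_le_left ?_) (C.pair_eq_bot hi hj hij hai.symm haj.symm (hall a Fact.out)).le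
  refine le_cor_of_centralizes (C.kmax_mx hj).mem.1 ((cor_isPGroup a).to_le inf_le_left)
    (inf_le_left.trans hX) fun s hs => ?_
  have := Fact.mk hs
  rcases eq_or_ne s i with rfl | hsi
  · exact Subgroup.le_centralizer_iff.mp inf_le_right
  · refine Subgroup.le_centralizer_iff.mp (inf_le_left.trans ?_)
    by_cases hsa : s = a
    · subst hsa
      refine commutator_eq_bot_iff_le_centralizer.mp (le_bot_iff.mp (le_trans ?_
        (C.pair_eq_bot hi hj hij hai.symm haj.symm (hall s hs)).le))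
      refine le_inf (commutator_le_of_le_normalizer
        ((C.kmax_mx hi).le_normalizer_cor (C.cor_le_kmax hi hsi.symm (C.kmax_mx hj)) s)) ?_
      rw [commutator_comm]
      exact commutator_le_of_le_normalizer ((C.kmax_mx hj).le_normalizer_cor hX s)
    · exact le_centralizer_of_mutual (Ne.symm hsa) (cor_isPGroup a) (cor_isPGroup s)
        ((C.kmax_mx hj).le_normalizer_cor hX s)
        ((C.kmax_mx hi).le_normalizer_cor (C.cor_le_kmax hi hsi.symm (C.kmax_mx hj)) a)

/-- The normal subgroups of the auxiliary solvable group are trivial. -/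
theorem three_normal_eq_bot {r s t : ℕ} [Fact r.Prime] [Fact s.Prime] [Fact t.Prime] {X Y Z K U : Subgroup G}
    (hX : IsPGroup r X) (hY : IsPGroup s Y) (hZ : IsPGroup t Z) (hrs : r ≠ s) (hrt : r ≠ t)
    (hXY : X ≤ normalizer (Y : Set G)) (hXK : X ≤ K) (hYK : Y ≤ K)
    (hcard : Nat.card K ∣ Nat.card X * (Nat.card Y * Nat.card Z))
    (hUK : U ≤ K) (hU : IsPGroup r U) (hn : K ≤ normalizer (U : Set G))
    (hf : X ⊓ centralizer (Y : Set G) = ⊥) : U = ⊥ := by
  have hm : ¬ r ∣ Nat.card Y * Nat.card Z := by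
    refine (Fact.out : r.Prime).not_dvd_mul ?_ ?_
    · exact fun hd => hrs (dvd_of_isPGroup Fact.out hY hd)
    · exact fun hd => hrt (dvd_of_isPGroup Fact.out hZ hd)
  have hUX : U ≤ X := le_of_full_part hX hU hXK hUK (hXK.trans hn) hcard hm
  rw [← le_bot_iff, ← hf]
  exact le_inf hUX (le_centralizer_of_mutual hrs hU hY (hUX.trans hXY) (hYK.trans hn))

theorem exists_gam_ne_bot : ∃ q, q.Prime ∧ gam p A θ q ≠ ⊥ := by
  by_contra hno
  push Not at hno
  by_cases hpure : ∀ i ∈ primes A θ, IsPure i (kmax p A θ i)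
  · obtain ⟨i, hi, -, -⟩ := C.three 0 0
    obtain ⟨j, hj, hji, -⟩ := C.three i i
    have := Fact.mk hi.1
    have := Fact.mk hj.1
    have hX : ∀ k ∈ primes A θ, Cor k (kmax p A θ k) ≠ ⊥ := fun k hk hbot => by
      obtain ⟨s, hs, hne⟩ := C.exists_cor_ne_bot (C.kmax_mx hk)
      rcases eq_or_ne s k with rfl | hsk
      exacts [hne hbot, hne (hpure k hk s hs hsk)]
    have hji' : Cor j (kmax p A θ j) ≤ kmax p A θ i := C.cor_le_kmax hi hji.symm (C.kmax_mx hj)
    have hij' : Cor i (kmax p A θ i) ≤ kmax p A θ j := C.cor_le_kmax hj hji (C.kmax_mx hi)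
    have hcomm := le_centralizer_of_mutual hji.symm (cor_isPGroup i) (cor_isPGroup j)
      ((C.kmax_mx hj).le_normalizer_cor hij' j) ((C.kmax_mx hi).le_normalizer_cor hji' i)
    refine hX j hj (le_bot_iff.mp ?_)
    rw [← hpure i hi j hj.1 hji]
    refine le_cor_of_centralizes (C.kmax_mx hi).mem.1 (cor_isPGroup j) hji' fun r hr => ?_
    rcases eq_or_ne r i with rfl | hri
    · exact hcomm
    · rw [hpure i hi r hr hri]; exact bot_le
  · simp only [IsPure, not_forall] at hpure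
    obtain ⟨i, hi, a, ha', hai, hane⟩ := hpure
    have := Fact.mk ha'
    have := Fact.mk hi.1
    have ha : a ∈ primes A θ := C.mem_primes_of_cor (C.kmax_mx hi).mem hane
    obtain ⟨j, hj, hja, hji⟩ := C.three a i
    have := Fact.mk hj.1
    have hF1 := C.faithful hno hi hj hja.symm hai hji.symm (a := a)
    have hF2 := C.faithful hno hj ha hai.symm hji.symm hja (a := i)
    have hF3 := C.faithful hno ha hi hji hja hai (a := j)
    set X := Cor a (kmax p A θ i) with hXdef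
    set Y := Cor i (kmax p A θ j) with hYdef
    set Z := Cor j (kmax p A θ a) with hZdef
    have hXY : X ≤ normalizer (Y : Set G) :=
      (C.kmax_mx hj).le_normalizer_cor (C.cor_le_kmax hj hja (C.kmax_mx hi)) i
    have hYZ : Y ≤ normalizer (Z : Set G) :=
      (C.kmax_mx ha).le_normalizer_cor (C.cor_le_kmax ha hai (C.kmax_mx hj)) j
    have hZX : Z ≤ normalizer (X : Set G) :=
      (C.kmax_mx hi).le_normalizer_cor (C.cor_le_kmax hi hji.symm (C.kmax_mx ha)) a
    obtain ⟨K, hXK, hYK, hZK, hKs, hKc, -⟩ :=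
      exists_three (r := a) (s := i) (t := j) (cor_isPGroup a) (cor_isPGroup i) (cor_isPGroup j)
        hai hja.symm hji.symm hXY hYZ hZX
    have hKne : K ≠ ⊥ := fun h => hane (le_bot_iff.mp (hXK.trans h.le))
    obtain ⟨e, he, U, hUK, hU1, hUp, hUn⟩ :=
      exists_normal_pSubgroup_le (A := K) Subgroup.le_normalizer hKs hKne
    have := Fact.mk he
    have hKU : K ≤ normalizer (U : Set G) := le_sup_left.trans hUn
    obtain ⟨n, hn⟩ := IsPGroup.iff_card.mp hUp
    have hn0 : n ≠ 0 := by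
      rintro rfl
      exact hU1 (Subgroup.card_eq_one.mp (by rwa [pow_zero] at hn))
    have hd : e ∣ Nat.card X * Nat.card Y * Nat.card Z :=
      ((dvd_pow_self e hn0).trans (hn ▸ card_dvd_of_le hUK)).trans hKc
    apply hU1
    rcases he.dvd_mul.mp hd with hd | hd
    · rcases he.dvd_mul.mp hd with hd | hd
      · obtain rfl := dvd_of_isPGroup he (cor_isPGroup a) hd
        exact C.three_normal_eq_bot (r := e) (s := i) (t := j) (cor_isPGroup _) (cor_isPGroup i)
          (cor_isPGroup j) hai hja.symm hXY hXK hYK (hKc.trans (dvd_of_eq (by ring))) hUK hUp hKU hF1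
      · obtain rfl := dvd_of_isPGroup he (cor_isPGroup i) hd
        exact C.three_normal_eq_bot (r := e) (s := j) (t := a) (cor_isPGroup _) (cor_isPGroup j)
          (cor_isPGroup a) hji.symm hai.symm hYZ hYK hZK (hKc.trans (dvd_of_eq (by ring))) hUK hUp hKU hF2
    · obtain rfl := dvd_of_isPGroup he (cor_isPGroup j) hd
      exact C.three_normal_eq_bot (r := e) (s := a) (t := i) (cor_isPGroup _) (cor_isPGroup a)
        (cor_isPGroup i) hja hji hZX hZK hXK (hKc.trans (dvd_of_eq (by ring))) hUK hUp hKU hF3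

end Ctx3

end Cfsg.Agent.Signalizer
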