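import Cfsg.Agent.Signalizer.ThreePoints

/-!
The solvable signalizer functor theorem with at least three primes: points with a single line in
the chosen prime, and the conclusion.
-/

set_option autoImplicit false
set_option linter.unusedSectionVars false

open Subgroup
open scoped Pointwise commutatorElement

namespace Cfsg.Agent.Signalizer

open Cfsg Cfsg.Agent.Coprime Cfsg.Agent.AbCentFpf

universe u

variable {G : Type u} [Group G] [Finite G] {p : ℕ} [Fact p.Prime] {A : Subgroup G} {θ : G → Subgroup G}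

/-- A point with a single line in the chosen prime. -/
structure Single (p : ℕ) (A : Subgroup G) (θ : G → Subgroup G) (q : ℕ) (B : Subgroup G) (d : G) :
    Prop where
  point : IsPoint p A B
  d_mem : d ∈ B
  d_ne : d ≠ 1
  line : IsLineOf p A θ q d
  only : ∀ g ∈ B, g ∉ zpowers d → ¬ IsLineOf p A θ q g
  two : ∃ f f', f ∈ B ∧ f ≠ 1 ∧ f' ∈ B ∧ f' ∉ zpowers f ∧ f ∉ zpowers d ∧ f' ∉ zpowers d

namespace Ctx3Q

variable {q : ℕ} {M₁ : Subgroup G} (C : Ctx3Q p A θ q M₁) {B : Subgroup G} {d : G}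
include C

theorem single_le_theta (S : Single p A θ q B d) {V : Subgroup G} (hV : V ∈ signalizerFamily p A θ)
    (h : ∀ g ∈ B, g ≠ 1 → ¬ IsLineOf p A θ q g → V ⊓ centralizer {g} = ⊥) : V ≤ centralizer {d} := by
  refine C.le_of_lines S.point hV fun b hb hb1 => ?_
  by_cases hbd : b ∈ zpowers d
  · rw [C.theta_eq_of_zpowers (S.point.1 S.d_mem) S.d_ne hbd hb1]
    exact inf_le_right.trans (theta_le_centralizer C.functor (S.point.1 S.d_mem) S.d_ne)
  · refine le_trans ?_ bot_le
    exact (inf_le_inf_left _ (theta_le_centralizer C.functor (S.point.1 hb) hb1)).trans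
      (h b hb hb1 (S.only b hb hbd)).le

theorem inf_centralizer_eq_bot {g : G} (hg : g ∈ A) (hg1 : g ≠ 1) (hng : ¬ IsLineOf p A θ q g)
    {V : Subgroup G} (hV : V ∈ signalizerFamily p A θ) {t : ℕ} [Fact t.Prime] (hVt : IsPGroup t V)
    (h : ∀ N : Subgroup G, IsMx p A θ N → θ g ≤ N → Cor t N = ⊥ ∧
      ∀ r : ℕ, r.Prime → r ≠ t → Cor r N ≤ normalizer (V : Set G)) : V ⊓ centralizer {g} = ⊥ := by
  obtain ⟨N, hN, hgN⟩ := C.exists_mx_theta hg hg1
  obtain ⟨hbot, hn⟩ := h N hN hgN
  have hle : V ⊓ centralizer {g} ≤ N := (inf_le_theta hV hg hg1).trans hgN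
  rw [← le_bot_iff, ← hbot]
  refine le_cor_of_centralizes hN.mem.1 (hVt.to_le inf_le_left) hle fun r hr => ?_
  have := Fact.mk hr
  rcases eq_or_ne r t with rfl | hrt
  · rw [hbot]; exact bot_le
  rw [← commutator_eq_bot_iff_le_centralizer, eq_bot_iff,
    ← Coprime.inf_eq_bot_of_coprime (coprime_of_isPGroup hrt (cor_isPGroup r : IsPGroup r (Cor r N)) hVt)]
  refine le_inf (commutator_le_of_le_normalizer (hN.le_normalizer_cor hle r)) ?_
  refine (commutator_mono le_rfl inf_le_left).trans ?_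
  rw [commutator_comm]
  exact commutator_le_of_le_normalizer (hn r hr hrt)

theorem single_false_of_theta (S : Single p A θ q B d) {g : G} (hng : ¬ IsLineOf p A θ q g) {N : Subgroup G}
    (hN : IsMx p A θ N) (hgN : θ g ≤ N) (h : N = θ d) : False := by
  obtain ⟨M, hM, hdM, hX⟩ := S.line
  exact hng ⟨M, hM, hgN.trans (h.le.trans hdM), hX⟩

theorem gam_le_centralizer (S : Single p A θ q B d) : gam p A θ q ≤ centralizer {d} :=
  C.single_le_theta S (C.gam_mem q) fun _ hg hg1 hng => C.gam_inf_centralizer_eq_bot (S.point.1 hg) hg1 hng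

theorem single_pure (S : Single p A θ q B d) (hp1 : IsPure q M₁) (hq : q = 2 → Four A θ) :
    signalizerInf B θ ≤ M₁ := by
  have := C.fact
  have hd := S.point.1 S.d_mem
  suffices hX : Cor q M₁ ≤ centralizer {d} by
    have heq : M₁ = θ d := C.eq_theta_of_centralizes C.mx hd S.d_ne fun r hr => by
      rcases eq_or_ne r q with rfl | hrq
      · exact hX
      · rw [hp1 r hr hrq]; exact bot_le
    exact heq ▸ signalizerInf_le S.d_mem S.d_ne
  by_cases hq2 : q = 2
  · refine C.single_le_theta S (C.cor_mem C.mx.mem q) fun g hg hg1 hng => ?_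
    refine C.inf_centralizer_eq_bot (S.point.1 hg) hg1 hng (C.cor_mem C.mx.mem q) (cor_isPGroup q)
      fun N hN hgN => ⟨C.cor_q_eq_bot hng hN hgN, fun r hr _ => ?_⟩
    exact C.mx.le_normalizer_cor (C.cor_le_M₁_four (hq hq2) hN hr) q
  obtain ⟨M, hM, hdM, hXd⟩ := S.line
  have hMX : Cor q M ≤ centralizer {d} := by
    rw [le_centralizer_singleton_iff_commutator,
      (C.point_normalizes_commutator hq2 S.point S.d_mem S.d_ne hM hdM hXd).1,
      ← le_centralizer_singleton_iff_commutator]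
    exact C.gam_le_centralizer S
  have hMeq : M = θ d := C.eq_theta_of_centralizes hM hd S.d_ne fun r hr => by
    rcases eq_or_ne r q with rfl | hrq
    · exact hMX
    · rw [C.isPure_of_pure hp1 hM hXd r hr hrq]; exact bot_le
  obtain ⟨u, hu, huq, -⟩ := C.three q q
  refine le_trans (le_gr (C.cor_mem C.mx.mem q) (C.mx.dinv_cor q) fun s hs hdd => ?_)
    (C.centralizes_gr hd S.d_ne (hMeq ▸ hM) (hMeq ▸ hXd) ⟨u, hu, huq⟩)
  exact dvd_of_isPGroup hs (cor_isPGroup q) hdd

theorem single_mixed (S : Single p A θ q B d) (hp1 : ¬ IsPure q M₁)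
    (hcond : ∀ w : ℕ, w.Prime → w ≠ q → Cor w M₁ ≠ ⊥ → ∃ g ∈ B, g ≠ 1 ∧ Cor w M₁ ≤ centralizer {g}) :
    signalizerInf B θ ≤ M₁ := by
  have := C.fact
  set T := signalizerInf B θ with hT
  set Q := gam p A θ q with hQ
  set P := conjClosure Q T with hP
  have hd := S.point.1 S.d_mem
  obtain ⟨M, hM, hdM, hXd⟩ := S.line
  have hQP : Q ≤ P := le_conjClosure Q T
  have hPX : P ≤ Cor q M :=
    conjClosure_le (C.gam_le_cor hM hXd) (C.point_normalizes_cor S.d_mem S.d_ne hM hdM)
  have hPT : T ≤ normalizer (P : Set G) := le_normalizer_conjClosure_self Q T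
  have hPA : A ≤ normalizer (P : Set G) := le_normalizer_conjClosure' (le_normalizer_of_mem (C.gam_mem q))
    (le_normalizer_signalizerInf C.functor S.point.1)
  have hPm : P ∈ signalizerFamily p A θ := mem_of_le (C.cor_mem hM.mem q) hPX hPA
  have hPD : signalizerInf A θ ≤ normalizer (P : Set G) := (C.point_dinv S.point).trans hPT
  have hPM₁ : P ≤ M₁ := C.qmem_le_M₁ hPm hPD ((cor_isPGroup q).to_le hPX)
  have hY : ∀ w : ℕ, w.Prime → w ≠ q → Cor w M₁ ≤ centralizer (P : Set G) := by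
    intro w hw hwq
    by_cases hne : Cor w M₁ = ⊥
    · rw [hne]; exact bot_le
    have := Fact.mk hw
    rw [Subgroup.le_centralizer_iff]
    obtain ⟨g, hg, hg1, hgY⟩ := hcond w hw hwq hne
    by_cases hgd : g ∈ zpowers d
    · have hYM : Cor w M₁ ≤ M := by
        refine le_trans (C.le_theta_of_centralizes (C.cor_mem C.mx.mem w) (S.point.1 hg) hg1 hgY) ?_
        rw [C.theta_eq_of_zpowers hd S.d_ne hgd hg1]
        exact hdM
      rw [← commutator_eq_bot_iff_le_centralizer, eq_bot_iff, ← Coprime.inf_eq_bot_of_coprime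
        (coprime_of_isPGroup hwq.symm (cor_isPGroup q : IsPGroup q (Cor q M))
          (cor_isPGroup w : IsPGroup w (Cor w M₁)))]
      refine le_inf ((commutator_mono hPX le_rfl).trans
        (commutator_le_of_le_normalizer (hM.le_normalizer_cor hYM q))) ?_
      rw [commutator_comm]
      exact commutator_le_of_le_normalizer (C.mx.le_normalizer_cor hPM₁ w)
    · have hQg : ⁅Q, zpowers g⁆ = Q := C.commutator_eq_self (C.gam_mem q) (S.point.1 hg)
        (C.gam_inf_centralizer_eq_bot (S.point.1 hg) hg1 (S.only g hg hgd))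
      refine iSup_le fun t => ?_
      have ht : (t : G) ∈ centralizer (zpowers g : Set G) :=
        centralizer_le (zpowers_le.mpr hg) (signalizerInf_le_centralizer C.functor S.point.1 t.2)
      have htQ : MulAut.conj (t : G) • Q ≤ M₁ :=
        (le_iSup (fun t : T => MulAut.conj (t : G) • Q) t).trans hPM₁
      have htg : MulAut.conj (t : G) • Q = ⁅MulAut.conj (t : G) • Q, zpowers g⁆ := by
        conv_lhs => rw [← hQg]
        rw [conj_smul_eq_map, map_commutator, ← conj_smul_eq_map, ← conj_smul_eq_map,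
          conj_smul_eq_self_of_mem_normalizer (centralizer_le_normalizer _ ht)]
      rw [htg]
      exact (commutator_mono htQ le_rfl).trans
        (commutator_le_centralizer (C.mx.le_normalizer_cor le_rfl w) hgY)
  have hP1 : P ≠ ⊥ := fun h => C.gam_ne (le_bot_iff.mp (hQP.trans h.le))
  obtain ⟨hN, -⟩ := C.nrm_spec hPm hP1
  obtain ⟨K, hK, hle⟩ := C.exists_mx_ge hN ((le_nrm C.D_mem hPD).trans Subgroup.le_normalizer)
  have hQK : Q ≤ K := (le_nrm (C.gam_mem q) (hQP.trans Subgroup.le_normalizer)).trans hle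
  have hYK : ∀ r : ℕ, r.Prime → r ≠ q → Cor r M₁ ≤ K := fun r hr hrq =>
    (le_nrm (C.cor_mem C.mx.mem r) ((hY r hr hrq).trans (centralizer_le_normalizer _))).trans hle
  obtain ⟨b, hb, hbq, hbK⟩ : ∃ b, b.Prime ∧ b ≠ q ∧ Cor b K ≠ ⊥ := by
    by_contra hno
    push Not at hno
    refine hp1 fun w hw hwq => ?_
    have := Fact.mk hw
    rw [← le_bot_iff, ← hno w hw hwq]
    refine le_cor_of_centralizes hK.mem.1 (cor_isPGroup w) (hYK w hw hwq) fun r hr => ?_
    rcases eq_or_ne r q with rfl | hrq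
    · exact le_centralizer_of_mutual hwq.symm (cor_isPGroup _) (cor_isPGroup w)
        (C.mx.le_normalizer_cor (C.cor_le_M₁ hK hQK hr) w) (hK.le_normalizer_cor (hYK w hw hwq) _)
    · rw [hno r hr hrq]; exact bot_le
  have := Fact.mk hb
  have heq := C.eq_M₁ hK hQK hYK hbq hbK
  exact heq ▸ (le_nrm (signalizerInf_mem C.functor S.point.1 (C.point_ne_bot S.point)) hPT).trans hle

/-- Four primes: the cores of `M₁` are centralised by a line of the point. -/
theorem cond_four (S : Single p A θ q B d) (h4 : Four A θ) {w : ℕ} [Fact w.Prime] (hwq : w ≠ q)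
    (hne : Cor w M₁ ≠ ⊥) : ∃ g ∈ B, g ≠ 1 ∧ Cor w M₁ ≤ centralizer {g} := by
  have := C.fact
  set Y := Cor w M₁ with hY
  have hYm : Y ∈ signalizerFamily p A θ := C.cor_mem C.mx.mem w
  have hnY : ∀ N : Subgroup G, IsMx p A θ N → ∀ r : ℕ, r.Prime → Cor r N ≤ normalizer (Y : Set G) :=
    fun N hN r hr => C.mx.le_normalizer_cor (C.cor_le_M₁_four h4 hN hr) w
  by_cases hw2 : w = 2
  · exfalso
    subst hw2
    have hg2 : gam p A θ 2 = ⊥ := C.rule.resolve_left hwq.symm
    obtain ⟨u, hu, huq, hu2, -⟩ := h4 q 2 2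
    obtain ⟨v, hv, hvq, hv2, hvu⟩ := h4 q 2 u
    obtain ⟨hSm, hSD, hSp⟩ := C.gr_spec (π := {2}) ⟨u, hu, hu2⟩
    set S₂ := gr p A θ {2}
    have hS2 : IsPGroup 2 S₂ := IsPGroup.of_card (n := (Nat.card S₂).primeFactorsList.length)
      (Nat.eq_prime_pow_of_unique_prime_dvd Nat.card_pos.ne' fun hd hdd => hSp _ hd hdd)
    have hle : ∀ {N : Subgroup G}, IsMx p A θ N → Cor 2 N ≤ S₂ := fun hN =>
      le_gr (C.cor_mem hN.mem 2) (hN.dinv_cor 2) fun s hs hd => dvd_of_isPGroup hs (cor_isPGroup 2) hd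
    have hSY : S₂ ≤ normalizer (Y : Set G) :=
      C.mx.le_normalizer_cor (C.le_M₁ hSm (C.pmem_normalizes h4 hSm hSD hS2)) 2
    have hfix : Y ⊓ centralizer (S₂ : Set G) ≠ ⊥ := by
      intro h0
      have h1 := FixedPointFree.coprime_of_fixed Nat.prime_two hS2 hSY h0
      obtain ⟨m, hm⟩ := IsPGroup.iff_card.mp (cor_isPGroup 2 : IsPGroup 2 Y)
      have hm0 : m ≠ 0 := by
        rintro rfl
        exact hne (Subgroup.card_eq_one.mp (by rwa [pow_zero] at hm))
      exact Nat.not_coprime_of_dvd_of_dvd (by norm_num)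
        (((dvd_pow_self 2 hm0).trans (hm ▸ dvd_rfl)).trans (card_dvd_of_le (hle C.mx)))
        ((dvd_pow_self 2 hm0).trans (hm ▸ dvd_rfl)) h1
    have key : ∀ {x : ℕ}, x ∈ primes A θ → x ≠ q → x ≠ 2 →
        Y ⊓ centralizer (S₂ : Set G) ≤ Cor 2 (kmax p A θ x) := by
      intro x hx _ hx2
      have hxM := C.kmax_mx hx
      have hYx : Y ⊓ centralizer (S₂ : Set G) ≤ kmax p A θ x :=
        inf_le_left.trans (C.cor_le_kmax hx hx2 C.mx)
      refine le_cor_of_centralizes hxM.mem.1 ((cor_isPGroup 2).to_le inf_le_left) hYx fun r hr => ?_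
      have := Fact.mk hr
      rcases eq_or_ne r 2 with rfl | hr2
      · exact Subgroup.le_centralizer_iff.mp (inf_le_right.trans (centralizer_le (hle hxM)))
      · rw [← commutator_eq_bot_iff_le_centralizer, eq_bot_iff, ← Coprime.inf_eq_bot_of_coprime
          (coprime_of_isPGroup hr2 (cor_isPGroup r : IsPGroup r (Cor r (kmax p A θ x)))
            (cor_isPGroup 2 : IsPGroup 2 Y))]
        refine le_inf (commutator_le_of_le_normalizer (hxM.le_normalizer_cor hYx r)) ?_
        refine (commutator_mono le_rfl inf_le_left).trans ?_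
        rw [commutator_comm]
        exact commutator_le_of_le_normalizer (hnY _ hxM r hr)
    exact hfix (le_bot_iff.mp ((le_inf (key hu huq hu2) (key hv hvq hv2)).trans
      (C.pair_eq_bot hu hv hvu.symm hu2 hv2 hg2).le))
  by_cases hex : ∃ g ∈ B, g ≠ 1 ∧ ¬ IsLineOf p A θ q g ∧ Y ⊓ centralizer {g} ≠ ⊥
  · obtain ⟨g, hg, hg1, hng, hfx⟩ := hex
    obtain ⟨N, hN, hgN⟩ := C.exists_mx_theta (S.point.1 hg) hg1
    have hNw : Cor w N ≠ ⊥ := by
      intro hbot
      have hle : Y ⊓ centralizer {g} ≤ N := (inf_le_theta hYm (S.point.1 hg) hg1).trans hgN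
      refine hfx (le_bot_iff.mp (le_trans ?_ hbot.le))
      refine le_cor_of_centralizes hN.mem.1 ((cor_isPGroup w).to_le inf_le_left) hle fun r hr => ?_
      have := Fact.mk hr
      rcases eq_or_ne r w with rfl | hrw
      · rw [hbot]; exact bot_le
      rw [← commutator_eq_bot_iff_le_centralizer, eq_bot_iff, ← Coprime.inf_eq_bot_of_coprime
        (coprime_of_isPGroup hrw (cor_isPGroup r : IsPGroup r (Cor r N)) (cor_isPGroup w : IsPGroup w Y))]
      refine le_inf (commutator_le_of_le_normalizer (hN.le_normalizer_cor hle r)) ?_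
      refine (commutator_mono le_rfl inf_le_left).trans ?_
      rw [commutator_comm]
      exact commutator_le_of_le_normalizer (hnY N hN r hr)
    exact ⟨g, hg, hg1, C.centralizes_member hN (S.point.1 hg) hNw
      (C.cor_centralized (S.point.1 hg) hg1 hng hN hgN hw2) hYm (cor_isPGroup w) (hnY N hN)⟩
  · push Not at hex
    exact ⟨d, S.d_mem, S.d_ne, C.single_le_theta S hYm hex⟩

/-- `O₂` of the member avoiding `s` acts faithfully on `O_s` of the member avoiding `x`. -/
theorem two_faithful (hg2 : gam p A θ 2 = ⊥) {x s : ℕ} [Fact s.Prime] (hx : x ∈ primes A θ)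
    (hs : s ∈ primes A θ) (hxs : x ≠ s) (hx2 : x ≠ 2) (hs2 : s ≠ 2) :
    Cor 2 (kmax p A θ s) ⊓ centralizer (Cor s (kmax p A θ x) : Set G) = ⊥ := by
  set U := Cor 2 (kmax p A θ s)
  have hU : U ≤ kmax p A θ x := C.cor_le_kmax hx hx2 (C.kmax_mx hs)
  rw [← le_bot_iff]
  refine le_trans (le_inf inf_le_left ?_) (C.pair_eq_bot hs hx hxs.symm hs2 hx2 hg2).le
  refine le_cor_of_centralizes (C.kmax_mx hx).mem.1 ((cor_isPGroup 2).to_le inf_le_left)
    (inf_le_left.trans hU) fun r hr => ?_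
  have := Fact.mk hr
  by_cases hrs : r = s
  · subst hrs
    exact Subgroup.le_centralizer_iff.mp inf_le_right
  refine Subgroup.le_centralizer_iff.mp (inf_le_left.trans ?_)
  have hrx : Cor r (kmax p A θ x) ≤ kmax p A θ s := C.cor_le_kmax hs (Ne.symm hrs) (C.kmax_mx hx)
  by_cases hr2 : r = 2
  · subst hr2
    refine commutator_eq_bot_iff_le_centralizer.mp (le_bot_iff.mp (le_trans ?_
      (C.pair_eq_bot hs hx hxs.symm hs2 hx2 hg2).le))
    refine le_inf (commutator_le_of_le_normalizer ((C.kmax_mx hs).le_normalizer_cor hrx 2)) ?_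
    rw [commutator_comm]
    exact commutator_le_of_le_normalizer ((C.kmax_mx hx).le_normalizer_cor hU 2)
  · exact le_centralizer_of_mutual (Ne.symm hr2) (cor_isPGroup 2) (cor_isPGroup r)
      ((C.kmax_mx hx).le_normalizer_cor hU r) ((C.kmax_mx hs).le_normalizer_cor hrx 2)

/-- Three primes: not every line of the point outside `q` is pure of prime two. -/
theorem single_two_false (S : Single p A θ q B d) (hq2 : q ≠ 2) {s : ℕ} [Fact s.Prime]
    (hs : s ∈ primes A θ) (hsq : s ≠ q) (hs2 : s ≠ 2) (h3 : ∀ r ∈ primes A θ, r = q ∨ r = s ∨ r = 2)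
    (hall : ∀ g ∈ B, g ≠ 1 → ¬ IsLineOf p A θ q g → ∀ N, IsMx p A θ N → θ g ≤ N → Cor s N = ⊥) :
    False := by
  have := C.fact
  have hg2 : gam p A θ 2 = ⊥ := C.rule.resolve_left hq2
  have hdA := S.point.1 S.d_mem
  obtain ⟨f, f', hf, hf1, -, -, hfd, -⟩ := S.two
  have honly : ∀ g ∈ B, g ≠ 1 → ¬ IsLineOf p A θ q g → ∀ N, IsMx p A θ N → θ g ≤ N →
      ∀ r : ℕ, r.Prime → r ≠ 2 → Cor r N = ⊥ := by
    intro g hg hg1 hng N hN hgN r hr hr2
    by_contra hne
    rcases C.eq_of_cor_ne_bot hN.mem h3 hr hne with rfl | rfl | rfl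
    exacts [hne (C.cor_q_eq_bot hng hN hgN), hne (hall g hg hg1 hng N hN hgN), hr2 rfl]
  have hcen : ∀ {x t : ℕ}, x ∈ primes A θ → x ≠ 2 → t.Prime → t ≠ 2 →
      Cor t (kmax p A θ x) ≤ centralizer {d} := by
    intro x t hx hx2 ht ht2
    have := Fact.mk ht
    refine C.single_le_theta S (C.cor_mem (C.kmax_mx hx).mem t) fun g hg hg1 hng => ?_
    refine C.inf_centralizer_eq_bot (S.point.1 hg) hg1 hng (C.cor_mem (C.kmax_mx hx).mem t)
      (cor_isPGroup t) fun N hN hgN => ⟨honly g hg hg1 hng N hN hgN t ht ht2, fun r hr _ => ?_⟩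
    by_cases hr2 : r = 2
    · subst hr2
      exact (C.kmax_mx hx).le_normalizer_cor (C.cor_le_kmax hx hx2 hN) t
    · rw [honly g hg hg1 hng N hN hgN r hr hr2]; exact bot_le
  have h2d : Cor 2 (kmax p A θ s) ≤ centralizer {d} := by
    rw [le_centralizer_singleton_iff_commutator, ← le_bot_iff,
      ← C.two_faithful hg2 C.mem_primes hs hsq.symm hq2 hs2]
    refine le_inf (commutator_le_of_le_normalizer ((zpowers_le.mpr hdA : zpowers d ≤ A).trans
      (le_normalizer_of_mem (C.cor_mem (C.kmax_mx hs).mem 2)))) ?_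
    exact commutator_le_centralizer
      ((C.kmax_mx C.mem_primes).le_normalizer_cor (C.cor_le_kmax C.mem_primes hq2 (C.kmax_mx hs)) s)
      (hcen C.mem_primes hq2 Fact.out hs2)
  have hKs : kmax p A θ s = θ d := C.eq_theta_of_centralizes (C.kmax_mx hs) hdA S.d_ne fun r hr => by
    by_cases hr2 : r = 2
    · subst hr2; exact h2d
    · exact hcen hs hs2 hr hr2
  have hnf := S.only f hf hfd
  obtain ⟨N, hN, hfN⟩ := C.exists_mx_theta (S.point.1 hf) hf1
  refine C.single_false_of_theta S hnf hN hfN (C.eq_theta_of_centralizes hN hdA S.d_ne fun r hr => ?_)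
  by_cases hr2 : r = 2
  · subst hr2
    exact ((C.cor_le_kmax hs hs2 hN).trans hKs.le).trans (theta_le_centralizer C.functor hdA S.d_ne)
  · rw [honly f hf hf1 hnf N hN hfN r hr hr2]; exact bot_le

/-- Three primes, the last configuration. -/
theorem cond_three_aux (hq2 : q ≠ 2) {g : G} (hg : g ∈ A) {w : ℕ} [Fact w.Prime] (hw : w ∈ primes A θ)
    (hwq : w ≠ q) (hw2 : w ≠ 2) (h3 : ∀ r ∈ primes A θ, r = q ∨ r = w ∨ r = 2)
    (hAq : Cor q (kmax p A θ q) = ⊥) (hAw : Cor w (kmax p A θ q) ≤ centralizer {g}) :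
    Cor w M₁ ≤ centralizer {g} := by
  have := C.fact
  have hg2 : gam p A θ 2 = ⊥ := C.rule.resolve_left hq2
  have hKq := C.kmax_mx C.mem_primes
  have hKw := C.kmax_mx hw
  set Y := Cor w M₁ with hY
  set A₂ := Cor 2 (kmax p A θ q) with hA₂
  set Xw := Cor q (kmax p A θ w) with hXw
  have hYm : Y ∈ signalizerFamily p A θ := C.cor_mem C.mx.mem w
  have hA₂m : A₂ ∈ signalizerFamily p A θ := C.cor_mem hKq.mem 2
  have hXm : Xw ∈ signalizerFamily p A θ := C.cor_mem hKw.mem q
  have hYq : Y ≤ kmax p A θ q := C.cor_le_kmax C.mem_primes hwq.symm C.mx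
  have h1 : Y ≤ normalizer (A₂ : Set G) := hKq.le_normalizer_cor hYq 2
  have h2 : A₂ ≤ normalizer (Xw : Set G) := hKw.le_normalizer_cor (C.cor_le_kmax hw hw2 hKq) q
  have h3' : Xw ≤ normalizer (Y : Set G) :=
    C.mx.le_normalizer_cor (C.qmem_le_M₁ hXm (hKw.dinv_cor q) (cor_isPGroup q)) w
  have hfaith : A₂ ⊓ centralizer (Xw : Set G) = ⊥ := C.two_faithful hg2 hw C.mem_primes hwq hw2 hq2
  obtain ⟨K, hYK, hA₂K, hXK, hKs, hKc, hKn⟩ := exists_three (r := w) (s := 2) (t := q) (cor_isPGroup w)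
    (cor_isPGroup 2) (cor_isPGroup q) hw2 hwq hq2.symm h1 h2 h3'
  have hAK : A ≤ normalizer (K : Set G) := fun a ha => hKn a (le_normalizer_of_mem hYm ha)
    (le_normalizer_of_mem hA₂m ha) (le_normalizer_of_mem hXm ha)
  have hnK : ∀ r : ℕ, K ≤ normalizer (Cor r K : Set G) := fun r =>
    Subgroup.le_normalizer.trans (normalizer_le_cor r)
  have hm : ∀ {a b c : ℕ} {X Z W : Subgroup G} [Fact a.Prime] [Fact b.Prime] [Fact c.Prime],
      IsPGroup b Z → IsPGroup c W → a ≠ b → a ≠ c → ¬ a ∣ Nat.card Z * Nat.card W := by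
    intro a b c X Z W _ _ _ hZ hW hab hac
    exact (Fact.out : a.Prime).not_dvd_mul (fun hd => hab (dvd_of_isPGroup Fact.out hZ hd))
      (fun hd => hac (dvd_of_isPGroup Fact.out hW hd))
  have hw' : Cor w K ≤ Y := le_of_full_part (cor_isPGroup w) (cor_isPGroup w) hYK (cor_le w)
    (hYK.trans (hnK w)) (hKc.trans (dvd_of_eq (mul_assoc _ _ _)))
    (hm (X := Y) (cor_isPGroup 2) (cor_isPGroup q) hw2 hwq)
  have h2' : Cor 2 K ≤ A₂ := le_of_full_part (cor_isPGroup 2) (cor_isPGroup 2) hA₂K (cor_le 2)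
    (hA₂K.trans (hnK 2)) (hKc.trans (dvd_of_eq (by ring : _ = Nat.card A₂ * (Nat.card Y * Nat.card Xw))))
    (hm (X := Y) (cor_isPGroup w) (cor_isPGroup q) hw2.symm hq2.symm)
  have hq' : Cor q K ≤ Xw := le_of_full_part (cor_isPGroup q) (cor_isPGroup q) hXK (cor_le q)
    (hXK.trans (hnK q)) (hKc.trans (dvd_of_eq (by ring : _ = Nat.card Xw * (Nat.card Y * Nat.card A₂))))
    (hm (X := Y) (cor_isPGroup w) (cor_isPGroup 2) hwq.symm hq2)
  have h2bot : Cor 2 K = ⊥ := by
    rw [← le_bot_iff, ← hfaith]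
    exact le_inf h2' (le_centralizer_of_mutual hq2.symm (cor_isPGroup 2) (cor_isPGroup q)
      (h2'.trans h2) (hXK.trans (hnK 2)))
  have hUm : Cor w K ∈ signalizerFamily p A θ :=
    mem_of_le hYm hw' (hAK.trans (normalizer_le_cor w))
  have hUg : Cor w K ≤ centralizer {g} := by
    refine C.centralizes_of_commutator_le hUm hg (le_trans ?_ hAw)
    have hle : ⁅Cor w K, zpowers g⁆ ≤ Cor w K :=
      commutator_le_of_le_normalizer ((zpowers_le.mpr hg : zpowers g ≤ A).trans (le_normalizer_of_mem hUm))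
    refine le_cor_of_centralizes hKq.mem.1 ((cor_isPGroup w).to_le hle) ((hle.trans hw').trans hYq)
      fun r hr => ?_
    have := Fact.mk hr
    by_cases hne : Cor r (kmax p A θ q) = ⊥
    · rw [hne]; exact bot_le
    rcases C.eq_of_cor_ne_bot hKq.mem h3 hr hne with h | h | h
    · subst h
      exact absurd hAq hne
    · subst h
      exact Subgroup.le_centralizer_iff.mp
        (commutator_le_centralizer (hKq.le_normalizer_cor (hw'.trans hYq) _) hAw)
    · subst h
      exact (le_centralizer_of_mutual hw2.symm (cor_isPGroup 2) (cor_isPGroup w) (hA₂K.trans (hnK w))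
        (hw'.trans h1)).trans (centralizer_le hle)
  refine C.centralizes_of_commutator_le hYm hg (le_trans ?_ hUg)
  have hle : ⁅Y, zpowers g⁆ ≤ Y :=
    commutator_le_of_le_normalizer ((zpowers_le.mpr hg : zpowers g ≤ A).trans (le_normalizer_of_mem hYm))
  refine le_cor_of_centralizes hKs ((cor_isPGroup w).to_le hle) (hle.trans hYK) fun r hr => ?_
  have := Fact.mk hr
  by_cases hrw : r = w
  · subst hrw
    exact Subgroup.le_centralizer_iff.mp (commutator_le_centralizer (hYK.trans (hnK _)) hUg)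
  by_cases hr2 : r = 2
  · subst hr2
    rw [h2bot]; exact bot_le
  by_cases hrq : r = q
  · subst hrq
    exact (le_centralizer_of_mutual hwq.symm (cor_isPGroup _) (cor_isPGroup w) (hq'.trans h3')
      (hYK.trans (hnK _))).trans (centralizer_le hle)
  · have hbot : Cor r K = ⊥ := by
      obtain ⟨n, hn⟩ := IsPGroup.iff_card.mp (cor_isPGroup r : IsPGroup r (Cor r K))
      rcases Nat.eq_zero_or_pos n with rfl | hn0
      · exact Subgroup.card_eq_one.mp (by rwa [pow_zero] at hn)
      have hd := ((dvd_pow_self r hn0.ne').trans (hn ▸ card_dvd_of_le (cor_le r))).trans hKc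
      rcases hr.dvd_mul.mp hd with hd | hd
      · rcases hr.dvd_mul.mp hd with hd | hd
        exacts [absurd (dvd_of_isPGroup hr (cor_isPGroup w) hd) hrw,
          absurd (dvd_of_isPGroup hr (cor_isPGroup 2) hd) hr2]
      · exact absurd (dvd_of_isPGroup hr (cor_isPGroup q) hd) hrq
    rw [hbot]; exact bot_le

/-- Three primes: the cores of `M₁` are centralised by a line of the point. -/
theorem cond_three (S : Single p A θ q B d) (h4 : ¬ Four A θ) (hq2 : q ≠ 2) {w : ℕ} [Fact w.Prime]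
    (hwq : w ≠ q) (hne : Cor w M₁ ≠ ⊥) : ∃ g ∈ B, g ≠ 1 ∧ Cor w M₁ ≤ centralizer {g} := by
  have := C.fact
  have hg2 : gam p A θ 2 = ⊥ := C.rule.resolve_left hq2
  have hw := C.mem_primes_of_cor C.mx.mem hne
  obtain ⟨u, hu, huq, huw, h3⟩ := C.exists_third h4 hw hwq
  have := Fact.mk hu.1
  have hKq := C.kmax_mx C.mem_primes
  obtain ⟨f, f', hf, hf1, hf', hff, hfd, hf'd⟩ := S.two
  by_cases hw2 : w = 2
  · subst hw2
    obtain ⟨g, hg, hg1, hng, N, hN, hgN, hNu⟩ : ∃ g ∈ B, g ≠ 1 ∧ ¬ IsLineOf p A θ q g ∧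
        ∃ N, IsMx p A θ N ∧ θ g ≤ N ∧ Cor u N ≠ ⊥ := by
      by_contra hno
      refine C.single_two_false S hq2 hu huq huw (fun r hr => ?_) fun g hg hg1 hng N hN hgN => ?_
      · rcases h3 r hr with h | h | h
        exacts [Or.inl h, Or.inr (Or.inr h), Or.inr (Or.inl h)]
      · by_contra h
        exact hno ⟨g, hg, hg1, hng, N, hN, hgN, h⟩
    have hgA := S.point.1 hg
    have hNq := C.cor_q_eq_bot hng hN hgN
    have hAu : Cor u (kmax p A θ q) ≤ centralizer {g} :=
      C.centralizes_member hN hgA hNu (C.cor_centralized hgA hg1 hng hN hgN huw)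
        (C.cor_mem hKq.mem u) (cor_isPGroup u) fun r hr => by
          have := Fact.mk hr
          by_cases hrq : r = q
          · subst hrq; rw [hNq]; exact bot_le
          · exact hKq.le_normalizer_cor (C.cor_le_kmax C.mem_primes (Ne.symm hrq) hN) u
    have hKu := C.kmax_mx hu
    have hUg : Cor 2 (kmax p A θ u) ≤ centralizer {g} := by
      rw [le_centralizer_singleton_iff_commutator, ← le_bot_iff,
        ← C.two_faithful hg2 C.mem_primes hu huq.symm hq2 huw]
      refine le_inf (commutator_le_of_le_normalizer ((zpowers_le.mpr hgA : zpowers g ≤ A).trans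
        (le_normalizer_of_mem (C.cor_mem hKu.mem 2)))) ?_
      exact commutator_le_centralizer
        (hKq.le_normalizer_cor (C.cor_le_kmax C.mem_primes hq2 hKu) u) hAu
    have hQu : gam p A θ q ≤ kmax p A θ u := (C.gam_le hu huq).trans (cor_le q)
    refine ⟨g, hg, hg1, C.centralizes_of_pxq (C.prime_ne C.mx.mem hne) hgA (C.cor_mem C.mx.mem 2)
      (cor_isPGroup 2) (cor_isPGroup 2) hUg (C.mx.le_normalizer_cor (C.cor_le_M₁ hKu hQu Nat.prime_two) 2)
      (le_trans ?_ hUg)⟩
    have hYu : Cor 2 M₁ ≤ kmax p A θ u := C.cor_le_kmax hu huw C.mx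
    refine le_cor_of_centralizes hKu.mem.1 ((cor_isPGroup 2).to_le inf_le_left) (inf_le_left.trans hYu)
      fun r hr => ?_
    have := Fact.mk hr
    by_cases hr2 : r = 2
    · subst hr2
      exact Subgroup.le_centralizer_iff.mp inf_le_right
    · exact (le_centralizer_of_mutual hr2 (cor_isPGroup r) (cor_isPGroup 2)
        (C.mx.le_normalizer_cor (C.cor_le_M₁ hKu hQu hr) 2) (hKu.le_normalizer_cor hYu r)).trans
        (centralizer_le inf_le_left)
  obtain ⟨g, hg, hg1, hng, N, hN, hgN, hNw⟩ : ∃ g ∈ B, g ≠ 1 ∧ ¬ IsLineOf p A θ q g ∧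
      ∃ N, IsMx p A θ N ∧ θ g ≤ N ∧ Cor w N ≠ ⊥ := by
    by_contra hno
    have hw0 : ∀ g ∈ B, g ≠ 1 → ¬ IsLineOf p A θ q g → ∀ N, IsMx p A θ N → θ g ≤ N → Cor w N = ⊥ := by
      intro g hg hg1 hng N hN hgN
      by_contra h
      exact hno ⟨g, hg, hg1, hng, N, hN, hgN, h⟩
    by_cases hu2 : u = 2
    · subst hu2
      exact C.single_two_false S hq2 hw hwq hw2 h3 hw0
    have hiso : ∀ g ∈ B, g ≠ 1 → ¬ IsLineOf p A θ q g → IsMx p A θ (θ g) ∧
        ∀ r : ℕ, r.Prime → Cor r (θ g) ≠ ⊥ → r = u := by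
      intro g hg hg1 hng
      obtain ⟨N, hN, hgN⟩ := C.exists_mx_theta (S.point.1 hg) hg1
      have hor : ∀ r : ℕ, r.Prime → Cor r N ≠ ⊥ → r = u := fun r hr hne => by
        rcases C.eq_of_cor_ne_bot hN.mem h3 hr hne with h | h | h
        · exact absurd (h ▸ C.cor_q_eq_bot hng hN hgN) hne
        · exact absurd (h ▸ hw0 g hg hg1 hng N hN hgN) hne
        · exact h
      have h2 : Cor 2 N = ⊥ := by
        by_contra h
        exact hu2 (hor 2 Nat.prime_two h).symm
      have he := C.eq_theta (S.point.1 hg) hg1 hng hN hgN h2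
      exact ⟨he ▸ hN, he ▸ hor⟩
    have hf'1 : f' ≠ 1 := fun e => hff (e ▸ one_mem _)
    obtain ⟨hMf, hf_only⟩ := hiso f hf hf1 (S.only f hf hfd)
    obtain ⟨hMf', hf'_only⟩ := hiso f' hf' hf'1 (S.only f' hf' hf'd)
    refine C.false_of_nested (S.point.1 hf) hf1 (S.point.1 hf') hf'1 hff (S.only f hf hfd) hMf hMf'
      fun t ht hne => ?_
    obtain ⟨r, hr, hr0⟩ := C.exists_cor_ne_bot hMf'
    rwa [hf_only t ht hne, ← hf'_only r hr hr0]
  refine ⟨g, hg, hg1, ?_⟩
  have hgA := S.point.1 hg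
  have hNq := C.cor_q_eq_bot hng hN hgN
  have hwg := C.cor_centralized hgA hg1 hng hN hgN hw2 (t := w)
  by_cases hN2 : Cor 2 N = ⊥
  · have he := C.eq_theta hgA hg1 hng hN hgN hN2
    refine le_trans (le_gr (C.cor_mem C.mx.mem w) (C.mx.dinv_cor w) fun s hs hd => ?_)
      (C.centralizes_gr hgA hg1 (he ▸ hN) (he ▸ hNw) ⟨q, C.mem_primes, hwq.symm⟩)
    exact dvd_of_isPGroup hs (cor_isPGroup w) hd
  have hu2 : u = 2 := by
    rcases C.eq_of_cor_ne_bot hN.mem h3 Nat.prime_two hN2 with h | h | h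
    exacts [absurd h.symm hq2, absurd h.symm hw2, h.symm]
  subst hu2
  have hNK : ∀ {N' : Subgroup G}, IsMx p A θ N' → Cor q N' = ⊥ → ∀ r : ℕ, r.Prime →
      Cor r N' ≤ kmax p A θ q := by
    intro N' hN' hbot r hr
    have := Fact.mk hr
    by_cases hrq : r = q
    · subst hrq; rw [hbot]; exact bot_le
    · exact C.cor_le_kmax C.mem_primes (Ne.symm hrq) hN'
  by_cases hAq : Cor q (kmax p A θ q) = ⊥
  · have hKN : ∀ r : ℕ, r.Prime → Cor r (kmax p A θ q) ≤ N := by
      intro r hr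
      have := Fact.mk hr
      by_cases hne : Cor r (kmax p A θ q) = ⊥
      · rw [hne]; exact bot_le
      rcases C.eq_of_cor_ne_bot hKq.mem h3 hr hne with h | h | h
      · subst h; exact absurd hAq hne
      · subst h
        exact C.le_of_normalizes_two hN hw2 hNw hN2 (C.cor_mem hKq.mem _) (cor_isPGroup _)
          (hKq.le_normalizer_cor (hNK hN hNq _ hr) _) (hKq.le_normalizer_cor (hNK hN hNq 2 Nat.prime_two) _)
      · subst h
        exact C.le_of_normalizes_two hN (Ne.symm hw2) hN2 hNw (C.cor_mem hKq.mem _) (cor_isPGroup _)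
          (hKq.le_normalizer_cor (hNK hN hNq 2 Nat.prime_two) _) (hKq.le_normalizer_cor (hNK hN hNq w Fact.out) _)
    have heq : N = kmax p A θ q := C.eq_of_cores_le hN hKq (hNK hN hNq) hKN hw2 hNw hN2
    exact C.cond_three_aux hq2 hgA hw hwq hw2 h3 hAq (heq ▸ hwg)
  have hQK : gam p A θ q ≤ kmax p A θ q := (C.gam_le_cor hKq hAq).trans (cor_le q)
  by_cases hp : IsPure q (kmax p A θ q)
  · exfalso
    have hdA := S.point.1 S.d_mem
    have hXd : Cor q (kmax p A θ q) ≤ centralizer {d} := by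
      refine C.single_le_theta S (C.cor_mem hKq.mem q) fun g' hg' hg'1 hng' => ?_
      refine C.inf_centralizer_eq_bot (S.point.1 hg') hg'1 hng' (C.cor_mem hKq.mem q) (cor_isPGroup q)
        fun N' hN' hgN' => ⟨C.cor_q_eq_bot hng' hN' hgN', fun r hr _ => ?_⟩
      exact hKq.le_normalizer_cor (hNK hN' (C.cor_q_eq_bot hng' hN' hgN') r hr) q
    have hKd : kmax p A θ q = θ d := C.eq_theta_of_centralizes hKq hdA S.d_ne fun r hr => by
      by_cases hrq : r = q
      · subst hrq; exact hXd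
      · rw [hp r hr hrq]; exact bot_le
    exact C.single_false_of_theta S hng hN hgN (C.eq_theta_of_centralizes hN hdA S.d_ne fun r hr =>
      ((hNK hN hNq r hr).trans hKd.le).trans (theta_le_centralizer C.functor hdA S.d_ne))
  · simp only [IsPure, not_forall] at hp
    obtain ⟨b, hb, hbq, hbne⟩ := hp
    have := Fact.mk hb
    have heq := C.eq_M₁ hKq hQK (fun r hr hrq => by
      have := Fact.mk hr
      exact C.cor_le_kmax C.mem_primes (Ne.symm hrq) C.mx) hbq hbne
    exact C.centralizes_member hN hgA hNw hwg (C.cor_mem C.mx.mem w) (cor_isPGroup w) fun r hr =>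
      C.mx.le_normalizer_cor (heq ▸ hNK hN hNq r hr) w

theorem single_le (S : Single p A θ q B d) : signalizerInf B θ ≤ M₁ := by
  have := C.fact
  by_cases hbad : q = 2 ∧ ¬ Four A θ
  · exfalso
    obtain ⟨hq, h4⟩ := hbad
    obtain ⟨f, f', hf, hf1, hf', hff, hfd, hf'd⟩ := S.two
    have hp2 : p ≠ 2 := by
      rintro rfl
      obtain ⟨u, hu, huq, -⟩ := C.three q q
      exact C.prime_ne (q := q) (C.kmax_mx hu).mem
        (fun h => C.gam_ne (le_bot_iff.mp ((C.gam_le hu huq).trans h.le))) hq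
    have hfA := S.point.1 hf
    have hf'A := S.point.1 hf'
    have hf'1 : f' ≠ 1 := fun e => hff (e ▸ one_mem _)
    have hsq : f' ^ 2 ≠ 1 := by
      intro h
      have := orderOf_dvd_of_pow_eq_one h
      rw [ea_orderOf C.ea hf'A hf'1] at this
      exact hp2 ((Nat.prime_dvd_prime_iff_eq Fact.out Nat.prime_two).mp this)
    have key : ∀ e : G, e ∈ zpowers f' → e ≠ 1 → f * e ∈ zpowers d := by
      intro e he he1
      by_contra hn
      have hne : f * e ∉ zpowers f := fun hm => hff (by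
        have h1 : e ∈ zpowers f := ((zpowers f).mul_mem_cancel_left (mem_zpowers f)).mp hm
        exact zpowers_le.mpr h1 ((C.zpowers_eq_of_mem hf'A he he1).ge (mem_zpowers f')))
      have hne' : f * e ∉ zpowers f' := fun hm =>
        C.not_mem_zpowers_symm hfA hf1 hf'A hff (((zpowers f').mul_mem_cancel_right he).mp hm)
      have hmem : f * e ∈ B := B.mul_mem hf (zpowers_le.mpr hf' he)
      rcases C.dichotomy hq h4 hfA hf1 hf'A hff (S.only f hf hfd) (S.only f' hf' hf'd)
        (S.point.1 hmem) (fun h1 => hne (h1 ▸ one_mem _)) (S.only _ hmem hn) with h | h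
      exacts [hne h, hne' h]
    have h1 := key f' (mem_zpowers f') hf'1
    have h2 := key (f' ^ 2) (pow_mem (mem_zpowers f') 2) hsq
    refine hf'd ?_
    have := (zpowers d).mul_mem ((zpowers d).inv_mem h1) h2
    simpa [pow_two, mul_assoc] using this
  push Not at hbad
  by_cases hp1 : IsPure q M₁
  · exact C.single_pure S hp1 hbad
  refine C.single_mixed S hp1 fun w hw hwq hne => ?_
  have := Fact.mk hw
  by_cases h4 : Four A θ
  · exact C.cond_four S h4 hwq hne
  · exact C.cond_three S h4 (fun h => h4 (hbad h)) hwq hne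

theorem point_le {B : Subgroup G} (hB : IsPoint p A B) : signalizerInf B θ ≤ M₁ := by
  have := C.fact
  have hTm := signalizerInf_mem C.functor hB.1 (C.point_ne_bot hB)
  obtain ⟨d, hd, hd1, hdl⟩ := C.exists_line hB
  by_cases hone : ∃ f ∈ B, ∀ g ∈ B, g ∉ zpowers f → IsLineOf p A θ q g
  · obtain ⟨f, hf, hone⟩ := hone
    exact C.le_M₁ hTm (C.point_normalizes_of_one hB hf hone)
  push Not at hone
  obtain ⟨f, hf, hfd, hnf⟩ := hone d hd
  obtain ⟨f', hf', hff, hnf'⟩ := hone f hf
  have hf1 : f ≠ 1 := fun e => hfd (e ▸ one_mem _)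
  by_cases htwo : ∃ d' ∈ B, d' ∉ zpowers d ∧ IsLineOf p A θ q d'
  · obtain ⟨d', hd', hind, hd'l⟩ := htwo
    by_cases hq : q = 2
    · exact C.le_M₁ hTm
        (C.point_normalizes_of_two_even hq hB hf hf1 hnf hf' hff hnf' hd hd1 hdl hd' hind hd'l)
    · exact C.le_M₁ hTm (C.point_normalizes_of_two_odd hq hB hf hf1 hnf hd hd1 hdl hd' hind hd'l)
  push Not at htwo
  exact C.single_le ⟨hB, hd, hd1, hdl, htwo, f, f', hf, hf1, hf', hff, hfd, fun hm =>
    hnf' (C.isLineOf_zpowers (hB.1 hd) hm (fun e => hff (e ▸ one_mem _)) hdl)⟩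

theorem false : False := by
  refine C.not_complete ⟨M₁, C.mx.mem, fun a ha ha1 => ?_⟩
  exact C.le_of_points (theta_mem C.functor ha ha1) fun B hB =>
    (inf_centralizer_le_signalizerInf (theta_mem C.functor ha ha1) hB.1).trans (C.point_le hB)

end Ctx3Q

/-- No minimal counterexample has three primes. -/
theorem Ctx3.false (C : Ctx3 p A θ) : False := by
  obtain ⟨q, M₁, hC⟩ := C.exists_ctx3Q
  exact hC.false

end Cfsg.Agent.Signalizer
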