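import Cfsg.Agent.Signalizer.ThreeSetup

/-!
The solvable signalizer functor theorem with at least three primes: the points having two lines
in the chosen prime, or at most one outside it.
-/

set_option autoImplicit false
set_option linter.unusedSectionVars false

open Subgroup
open scoped Pointwise commutatorElement

namespace Cfsg.Agent.Signalizer

open Cfsg Cfsg.Agent.Coprime Cfsg.Agent.AbCentFpf

universe u

variable {G : Type u} [Group G] [Finite G] {p : ℕ} [Fact p.Prime] {A : Subgroup G} {θ : G → Subgroup G}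

namespace Ctx3Q

variable {q : ℕ} {M₁ : Subgroup G} (C : Ctx3Q p A θ q M₁)
include C

theorem point_le_theta {B : Subgroup G} {b : G} (hb : b ∈ B) (hb1 : b ≠ 1) :
    signalizerInf B θ ≤ θ b := signalizerInf_le hb hb1

theorem point_normalizes_cor {B : Subgroup G} {b : G} (hb : b ∈ B) (hb1 : b ≠ 1) {M : Subgroup G}
    (hM : IsMx p A θ M) (hbM : θ b ≤ M) :
    signalizerInf B θ ≤ normalizer (Cor q M : Set G) :=
  hM.le_normalizer_cor ((signalizerInf_le hb hb1).trans hbM) q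

theorem point_dinv {B : Subgroup G} (hB : IsPoint p A B) :
    signalizerInf A θ ≤ signalizerInf B θ :=
  le_signalizerInf fun _ hb hb1 => C.D_le_theta (hB.1 hb) hb1

theorem exists_line {B : Subgroup G} (hB : IsPoint p A B) : ∃ c ∈ B, c ≠ 1 ∧ IsLineOf p A θ q c := by
  have := C.fact
  obtain ⟨u, hu, huq, -⟩ := C.three q q
  obtain ⟨v, hv, hvq, hvu⟩ := C.three q u
  exact C.exists_line_of_pair hu hv hvu.symm huq hvq (fun h => C.gam_ne
    (le_bot_iff.mp ((le_inf (C.gam_le hu huq) (C.gam_le hv hvq)).trans h.le))) hB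

/-- The meet of the cores above some of the lines of a point. -/
theorem exists_meet {B : Subgroup G} (hB : IsPoint p A B) (S : Set G) (hS : ∃ g ∈ B, g ∈ S)
    (hS1 : ∀ g ∈ B, g ∈ S → g ≠ 1 ∧ IsLineOf p A θ q g) :
    ∃ P : Subgroup G, gam p A θ q ≤ P ∧ P ∈ signalizerFamily p A θ ∧ IsPGroup q P ∧
      signalizerInf A θ ≤ normalizer (P : Set G) ∧ signalizerInf B θ ≤ normalizer (P : Set G) ∧
      ∀ g ∈ B, g ∈ S → ∃ M ∈ signalizerFamily p A θ, θ g ≤ M ∧ P ≤ Cor q M := by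
  have := C.fact
  let I := {v : G × Subgroup G // v.1 ∈ B ∧ v.1 ∈ S ∧ IsMx p A θ v.2 ∧ θ v.1 ≤ v.2 ∧ Cor q v.2 ≠ ⊥}
  let P : Subgroup G := ⨅ i : I, Cor q i.1.2
  have hmem : ∀ g ∈ B, g ∈ S → ∃ i : I, i.1.1 = g := fun g hg hgS => by
    obtain ⟨M, hM, hgM, hX⟩ := (hS1 g hg hgS).2
    exact ⟨⟨(g, M), hg, hgS, hM, hgM, hX⟩, rfl⟩
  obtain ⟨g₀, hg₀, hg₀S⟩ := hS
  obtain ⟨i₀, -⟩ := hmem g₀ hg₀ hg₀S
  have hle : P ≤ Cor q i₀.1.2 := iInf_le (fun i : I => Cor q i.1.2) i₀
  have hnorm : ∀ V : Subgroup G, (∀ i : I, V ≤ normalizer (Cor q i.1.2 : Set G)) →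
      V ≤ normalizer (P : Set G) := by
    intro V hV g hg
    rw [mem_normalizer_iff]
    intro x
    simp only [P, mem_iInf]
    exact forall_congr' fun i => mem_normalizer_iff.mp (hV i hg) x
  have hT : signalizerInf B θ ≤ normalizer (P : Set G) := hnorm _ fun i =>
    C.point_normalizes_cor i.2.1 (hS1 _ i.2.1 i.2.2.1).1 i.2.2.2.1 i.2.2.2.2.1
  refine ⟨P, le_iInf fun i => C.gam_le_cor i.2.2.2.1 i.2.2.2.2.2,
    mem_of_le (C.cor_mem i₀.2.2.2.1.mem q) hle
      (hnorm _ fun i => le_normalizer_of_mem (C.cor_mem i.2.2.2.1.mem q)),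
    (cor_isPGroup q).to_le hle, hnorm _ fun i => i.2.2.2.1.dinv_cor q, hT, fun g hg hgS => ?_⟩
  obtain ⟨i, rfl⟩ := hmem g hg hgS
  exact ⟨i.1.2, i.2.2.2.1.mem, i.2.2.2.2.1, iInf_le (fun i : I => Cor q i.1.2) i⟩

theorem point_normalizes_of_all {B : Subgroup G} (hB : IsPoint p A B)
    (hall : ∀ g ∈ B, g ≠ 1 → IsLineOf p A θ q g) :
    signalizerInf B θ ≤ normalizer (gam p A θ q : Set G) := by
  have := C.fact
  obtain ⟨b, hb, hb1⟩ := (B.bot_or_exists_ne_one).resolve_left (C.point_ne_bot hB)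
  obtain ⟨P, hQP, hPm, hPq, hPD, hPT, hw⟩ :=
    C.exists_meet hB {g | g ≠ 1} ⟨b, hb, hb1⟩ fun g hg hg1 => ⟨hg1, hall g hg hg1⟩
  have hglob : Glob p A θ q P := ⟨hPm, hPq, fun B' hB' => by
    obtain ⟨c, hc, hc', hc1⟩ := C.exists_common hB hB'
    obtain ⟨M, hM, hcM, hPM⟩ := hw c hc hc1
    exact ⟨c, hc', hc1, M, hM, hcM, hPM⟩⟩
  rw [← le_antisymm (C.glob_le_gam hglob hPD) hQP]
  exact hPT

theorem point_normalizes_of_one {B : Subgroup G} (hB : IsPoint p A B) {f : G} (hf : f ∈ B)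
    (hone : ∀ g ∈ B, g ∉ zpowers f → IsLineOf p A θ q g) :
    signalizerInf B θ ≤ normalizer (gam p A θ q : Set G) := by
  have := C.fact
  by_cases hfl : f = 1 ∨ IsLineOf p A θ q f
  · refine C.point_normalizes_of_all hB fun g hg hg1 => ?_
    by_cases hgf : g ∈ zpowers f
    · rcases hfl with rfl | hfl
      · rw [zpowers_one_eq_bot, mem_bot] at hgf
        exact absurd hgf hg1
      · exact C.isLineOf_zpowers (hB.1 hf) hgf hg1 hfl
    · exact hone g hg hgf
  push Not at hfl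
  obtain ⟨hf1, hnot⟩ := hfl
  obtain ⟨g₀, hg₀, hg₀f, -⟩ := C.exists_mem_point_not_zpowers hB f
  obtain ⟨P, hQP, hPm, hPq, hPD, hPT, hw⟩ := C.exists_meet hB {g | g ∉ zpowers f} ⟨g₀, hg₀, hg₀f⟩
    fun g hg hgf => ⟨fun e => hgf (e ▸ one_mem _), hone g hg hgf⟩
  have hle : ⁅P, zpowers f⁆ ≤ gam p A θ q := C.le_gam fun u hu huq =>
    C.commutator_le_cor_lines (C.kmax_mx hu).mem (le_normalizer_of_mem hPm)
      (C.le_kmax_of_isPGroup hu huq hPm hPD hPq) hPq hB hf hw
  have heq : ⁅P, zpowers f⁆ = gam p A θ q := le_antisymm hle (by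
    conv_lhs => rw [← C.commutator_eq_self (C.gam_mem q) (hB.1 hf)
      (C.gam_inf_centralizer_eq_bot (hB.1 hf) hf1 hnot)]
    exact commutator_mono hQP le_rfl)
  rw [← heq]
  refine FixedPointFree.le_normalizer_commutator' hPT (le_trans ?_ (centralizer_le_normalizer _))
  exact (signalizerInf_le_centralizer C.functor hB.1).trans (centralizer_le (zpowers_le.mpr hf))

/-- Odd `q`: a line of the point gives the commutator of the meet with it. -/
theorem point_normalizes_commutator (hq2 : q ≠ 2) {B : Subgroup G} (hB : IsPoint p A B) {d : G}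
    (hd : d ∈ B) (hd1 : d ≠ 1) {M : Subgroup G} (hM : IsMx p A θ M) (hdM : θ d ≤ M)
    (hX : Cor q M ≠ ⊥) :
    ⁅Cor q M, zpowers d⁆ = ⁅gam p A θ q, zpowers d⁆ ∧
      signalizerInf B θ ≤ normalizer ((⁅gam p A θ q, zpowers d⁆ : Subgroup G) : Set G) := by
  have := C.fact
  have hle : ⁅Cor q M, zpowers d⁆ ≤ gam p A θ q :=
    C.commutator_le_of_glob hq2 (C.prime_ne hM.mem hX) (C.cor_mem hM.mem q) (hM.dinv_cor q)
      (cor_isPGroup q) (hB.1 hd) hd1 (hM.le_normalizer_cor hdM q) fun P hP hD => C.glob_le_gam hP hD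
  have heq : ⁅Cor q M, zpowers d⁆ = ⁅gam p A θ q, zpowers d⁆ := by
    refine le_antisymm ?_ (commutator_mono (C.gam_le_cor hM hX) le_rfl)
    rw [← C.commutator_commutator (C.cor_mem hM.mem q) (hB.1 hd)]
    exact commutator_mono hle le_rfl
  refine ⟨heq, heq ▸ FixedPointFree.le_normalizer_commutator' (C.point_normalizes_cor hd hd1 hM hdM) ?_⟩
  exact ((signalizerInf_le_centralizer C.functor hB.1).trans
    (centralizer_le (zpowers_le.mpr hd))).trans (centralizer_le_normalizer _)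

theorem point_normalizes_of_two_odd (hq2 : q ≠ 2) {B : Subgroup G} (hB : IsPoint p A B) {f d d' : G}
    (hf : f ∈ B) (hf1 : f ≠ 1) (hnot : ¬ IsLineOf p A θ q f) (hd : d ∈ B) (hd1 : d ≠ 1)
    (hdl : IsLineOf p A θ q d) (hd' : d' ∈ B) (hind : d' ∉ zpowers d) (hd'l : IsLineOf p A θ q d') :
    signalizerInf B θ ≤ normalizer (gam p A θ q : Set G) := by
  have := C.fact
  have hd'1 : d' ≠ 1 := fun e => hind (e ▸ one_mem _)
  obtain ⟨M, hM, hdM, hX⟩ := hdl
  obtain ⟨M', hM', hdM', hX'⟩ := hd'l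
  set Q := gam p A θ q with hQ
  have hA : Q ∈ signalizerFamily p A θ := C.gam_mem q
  have hQA := le_normalizer_of_mem hA
  have hleQ : ∀ {x : G}, x ∈ A → ⁅Q, zpowers x⁆ ≤ Q := fun hx =>
    commutator_le_of_le_normalizer ((zpowers_le.mpr hx).trans hQA)
  have heq : ⁅Q, zpowers d⁆ ⊔ ⁅Q, zpowers d'⁆ = Q := by
    refine le_antisymm (sup_le (hleQ (hB.1 hd)) (hleQ (hB.1 hd'))) ?_
    conv_lhs => rw [← commutator_sup_centralizer ((zpowers_le.mpr (hB.1 hd)).trans hQA)
      ((coprime_of_mem C.ea hA).coprime_dvd_left (card_dvd_of_le (zpowers_le.mpr (hB.1 hd))))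
      (Or.inl (isSolvable_of_le (zpowers_le.mpr (hB.1 hd)) (ea_isSolvable C.ea)))]
    refine sup_le le_sup_left (le_trans ?_ le_sup_right)
    set V := Q ⊓ centralizer (zpowers d : Set G)
    have hV : V ∈ signalizerFamily p A θ :=
      mem_of_le hA inf_le_left (C.inv_inf_centralizer hQA (zpowers_le.mpr (hB.1 hd)))
    rw [← C.commutator_eq_self hV (hB.1 hd') ?_]
    · exact commutator_mono inf_le_left le_rfl
    rw [← le_bot_iff, ← C.gam_inf_centralizer_eq_bot (hB.1 hf) hf1 hnot]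
    refine le_inf (inf_le_left.trans inf_le_left) ?_
    intro x hx
    have h1 : B ≤ centralizer {x} := by
      rw [C.point_eq hB hd hd1 hd' hind]
      refine sup_le ?_ (zpowers_le.mpr (mem_centralizer_singleton_iff.mpr
        (mem_centralizer_singleton_iff.mp hx.2).symm))
      intro y hy
      exact mem_centralizer_singleton_iff.mpr (mem_centralizer_iff.mp hx.1.2 y hy)
    exact mem_centralizer_singleton_iff.mpr (mem_centralizer_singleton_iff.mp (h1 hf)).symm
  rw [← heq]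
  exact fun x hx => normalizer_inf_normalizer_le_normalizer_sup _ _
    ⟨(C.point_normalizes_commutator hq2 hB hd hd1 hM hdM hX).2 hx,
      (C.point_normalizes_commutator hq2 hB hd' hd'1 hM' hdM' hX').2 hx⟩

/-! ### The prime `2` with three primes -/

theorem mx_theta (hq : q = 2) {f : G} (hf : f ∈ A) (hf1 : f ≠ 1) (hnot : ¬ IsLineOf p A θ q f) :
    IsMx p A θ (θ f) := by
  obtain ⟨M, hM, hfM⟩ := C.exists_mx_theta hf hf1
  rw [← C.eq_theta hf hf1 hnot hM hfM (hq ▸ C.cor_q_eq_bot hnot hM hfM)]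
  exact hM

theorem dichotomy (hq : q = 2) (h4 : ¬ Four A θ) {f f' g : G} (hf : f ∈ A) (hf1 : f ≠ 1) (hf' : f' ∈ A)
    (hind : f' ∉ zpowers f) (hnf : ¬ IsLineOf p A θ q f) (hnf' : ¬ IsLineOf p A θ q f')
    (hg : g ∈ A) (hg1 : g ≠ 1) (hng : ¬ IsLineOf p A θ q g) : g ∈ zpowers f ∨ g ∈ zpowers f' := by
  by_contra hno
  push Not at hno
  obtain ⟨hgf, hgf'⟩ := hno
  have hf'1 : f' ≠ 1 := fun e => hind (e ▸ one_mem _)
  have key : ∀ a b : G, a ∈ A → a ≠ 1 → ¬ IsLineOf p A θ q a → b ∈ A → b ≠ 1 → ¬ IsLineOf p A θ q b →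
      b ∉ zpowers a → ∃ t, t.Prime ∧ t ≠ q ∧ t ∈ primes A θ ∧ Cor t (θ a) ≠ ⊥ ∧ Cor t (θ b) = ⊥ := by
    intro a b ha ha1 hna hb hb1 hnb hab
    by_contra hall
    push Not at hall
    refine C.false_of_nested ha ha1 hb hb1 hab hna (C.mx_theta hq ha ha1 hna) (C.mx_theta hq hb hb1 hnb)
      fun t ht hne => ?_
    have := Fact.mk ht
    refine hall t ht (fun e => hne (e ▸ C.cor_q_eq_bot hna (C.mx_theta hq ha ha1 hna) le_rfl))
      (C.mem_primes_of_cor (theta_mem C.functor ha ha1) hne) hne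
  obtain ⟨t, ht, htq, htp, htf, htf'⟩ := key f f' hf hf1 hnf hf' hf'1 hnf' hind
  obtain ⟨s, hs, hsq, hsp, hsf', hsf⟩ :=
    key f' f hf' hf'1 hnf' hf hf1 hnf (C.not_mem_zpowers_symm hf hf1 hf' hind)
  have hst : s ≠ t := fun e => htf (e ▸ hsf)
  obtain ⟨u, -, -, -, h3⟩ := C.exists_third h4 htp htq
  have hsu : s = u := ((h3 s hsp).resolve_left hsq).resolve_left hst
  have hor : ∀ r ∈ primes A θ, r ≠ q → r = t ∨ r = s := fun r hr hrq => by
    rcases h3 r hr with h | h | h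
    exacts [absurd h hrq, Or.inl h, Or.inr (h.trans hsu.symm)]
  obtain ⟨r, -, hrq, hrp, hrg, hrf⟩ :=
    key g f hg hg1 hng hf hf1 hnf (C.not_mem_zpowers_symm hf hf1 hg hgf)
  obtain ⟨r', -, hr'q, hr'p, hr'g, hr'f'⟩ :=
    key g f' hg hg1 hng hf' hf'1 hnf' (C.not_mem_zpowers_symm hf' hf'1 hg hgf')
  rcases hor r' hr'p hr'q with rfl | rfl
  · obtain ⟨r'', -, hr''q, hr''p, hr''f, hr''g⟩ := key f g hf hf1 hnf hg hg1 hng hgf
    rcases hor r'' hr''p hr''q with rfl | rfl
    exacts [hr'g hr''g, hr''f hsf]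
  · exact hsf' hr'f'

theorem other_point_normalizes (hq : q = 2) (h4 : ¬ Four A θ) {B B' : Subgroup G} (hB : IsPoint p A B)
    (hB' : IsPoint p A B') (hne : B' ≠ B) {f f' : G} (hf : f ∈ B) (hf1 : f ≠ 1) (hf' : f' ∈ B)
    (hind : f' ∉ zpowers f) (hnf : ¬ IsLineOf p A θ q f) (hnf' : ¬ IsLineOf p A θ q f') :
    signalizerInf B' θ ≤ normalizer (gam p A θ q : Set G) := by
  have hf'1 : f' ≠ 1 := fun e => hind (e ▸ one_mem _)
  have hd : ∀ g ∈ B', g ≠ 1 → ¬ IsLineOf p A θ q g →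
      (g ∈ zpowers f ∧ f ∈ B') ∨ (g ∈ zpowers f' ∧ f' ∈ B') := by
    intro g hg hg1 hng
    rcases C.dichotomy hq h4 (hB.1 hf) hf1 (hB.1 hf') hind hnf hnf' (hB'.1 hg) hg1 hng with h | h
    · exact Or.inl ⟨h, zpowers_le.mpr hg ((C.zpowers_eq_of_mem (hB.1 hf) h hg1).ge (mem_zpowers f))⟩
    · exact Or.inr ⟨h, zpowers_le.mpr hg ((C.zpowers_eq_of_mem (hB.1 hf') h hg1).ge (mem_zpowers f'))⟩
  have hboth : ¬ (f ∈ B' ∧ f' ∈ B') := fun h => hne (C.point_unique hB' hB h.1 hf hf1 h.2 hf' hind)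
  by_cases hfB : f ∈ B'
  · refine C.point_normalizes_of_one hB' hfB fun g hg hgf => ?_
    by_contra hng
    rcases hd g hg (fun e => hgf (e ▸ one_mem _)) hng with h | h
    exacts [hgf h.1, hboth ⟨hfB, h.2⟩]
  by_cases hfB' : f' ∈ B'
  · refine C.point_normalizes_of_one hB' hfB' fun g hg hgf => ?_
    by_contra hng
    rcases hd g hg (fun e => hgf (e ▸ one_mem _)) hng with h | h
    exacts [hfB h.2, hgf h.1]
  · refine C.point_normalizes_of_all hB' fun g hg hg1 => ?_
    by_contra hng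
    rcases hd g hg hg1 hng with h | h
    exacts [hfB h.2, hfB' h.2]

theorem point_normalizes_of_two_even (hq : q = 2) {B : Subgroup G} (hB : IsPoint p A B) {f f' d d' : G}
    (hf : f ∈ B) (hf1 : f ≠ 1) (hnot : ¬ IsLineOf p A θ q f) (hf' : f' ∈ B) (hindf : f' ∉ zpowers f)
    (hnot' : ¬ IsLineOf p A θ q f') (hd : d ∈ B) (hd1 : d ≠ 1)
    (hdl : IsLineOf p A θ q d) (hd' : d' ∈ B) (hind : d' ∉ zpowers d) (hd'l : IsLineOf p A θ q d') :
    signalizerInf B θ ≤ normalizer (gam p A θ q : Set G) := by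
  have := C.fact
  set T := signalizerInf B θ with hT
  set Q := gam p A θ q with hQ
  set P := conjClosure Q T with hP
  have hQP : Q ≤ P := le_conjClosure Q T
  have hPX : ∀ c ∈ B, c ≠ 1 → ∀ M, IsMx p A θ M → θ c ≤ M → Cor q M ≠ ⊥ → P ≤ Cor q M :=
    fun c hc hc1 M hM hcM hX =>
      conjClosure_le (C.gam_le_cor hM hX) (C.point_normalizes_cor hc hc1 hM hcM)
  have hTA : A ≤ normalizer (T : Set G) := le_normalizer_signalizerInf C.functor hB.1
  have hPT : T ≤ normalizer (P : Set G) := le_normalizer_conjClosure_self Q T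
  have hPA : A ≤ normalizer (P : Set G) :=
    le_normalizer_conjClosure' (le_normalizer_of_mem (C.gam_mem q)) hTA
  obtain ⟨M, hM, hdM, hX⟩ := hdl
  have hPm : P ∈ signalizerFamily p A θ := mem_of_le (C.cor_mem hM.mem q) (hPX d hd hd1 M hM hdM hX) hPA
  have hPq : IsPGroup q P := (cor_isPGroup q).to_le (hPX d hd hd1 M hM hdM hX)
  have hstar : ∀ g ∈ B, g ≠ 1 → ¬ IsLineOf p A θ q g → ∀ N : Subgroup G, IsMx p A θ N → θ g ≤ N →
      ∀ t : ℕ, t.Prime → Cor t N ≤ normalizer (P : Set G) := by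
    intro g hg hg1 hng N hN hgN t ht
    have := Fact.mk ht
    have hTR : T ≤ normalizer (Cor t N : Set G) := hN.le_normalizer_cor ((signalizerInf_le hg hg1).trans hgN) t
    by_cases h4 : Four A θ
    · exact le_normalizer_conjClosure (C.pmem_normalizes h4 (C.cor_mem hN.mem t) (hN.dinv_cor t)
        (cor_isPGroup t)) hTR
    by_cases htq : t = q
    · subst htq
      rw [C.cor_q_eq_bot hng hN hgN]; exact bot_le
    set R := Cor t N
    have hRg : R ≤ centralizer {g} := C.cor_centralized (hB.1 hg) hg1 hng hN hgN (hq ▸ htq)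
    have hRm : R ∈ signalizerFamily p A θ := C.cor_mem hN.mem t
    have hgd : d ∉ zpowers g := fun hm => hng (C.isLineOf_zpowers (hB.1 hd)
      ((C.zpowers_eq_of_mem (hB.1 hg) hm hd1).ge (mem_zpowers g)) hg1 ⟨M, hM, hdM, hX⟩)
    have hU : ⁅R, zpowers d⁆ ≤ normalizer (Q : Set G) := by
      refine C.commutator_le_of_parts hRm (cor_isPGroup t) (hB.1 hd) fun B' hB' => ?_
      by_cases he : B' = B
      · subst he
        refine le_trans (le_of_eq ?_) bot_le
        refine commutator_eq_bot_iff_le_centralizer.mpr (inf_le_right.trans ?_)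
        exact centralizer_le (zpowers_le.mpr hd)
      · refine (commutator_mono (?_ : _ ≤ normalizer (Q : Set G))
          ((zpowers_le.mpr (hB.1 hd) : zpowers d ≤ A).trans (le_normalizer_of_mem (C.gam_mem q)))).trans
          (commutator_le_self _)
        exact le_trans (inf_centralizer_le_signalizerInf
          (mem_of_le hRm (commutator_le_of_le_normalizer ((zpowers_le.mpr (hB.1 hd) : zpowers d ≤ A).trans
            (le_normalizer_of_mem hRm))) (C.inv_commutator (le_normalizer_of_mem hRm) (hB.1 hd))) hB'.1)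
          (C.other_point_normalizes hq h4 hB hB' he hf hf1 hf' hindf hnot hnot')
    rw [← commutator_sup_centralizer ((zpowers_le.mpr (hB.1 hd) : zpowers d ≤ A).trans
      (le_normalizer_of_mem hRm)) ((coprime_of_mem C.ea hRm).coprime_dvd_left
        (card_dvd_of_le (zpowers_le.mpr (hB.1 hd))))
      (Or.inl (isSolvable_of_le (zpowers_le.mpr (hB.1 hd)) (ea_isSolvable C.ea)))]
    refine sup_le (le_normalizer_conjClosure hU ?_) (le_trans ?_ hPT)
    · exact FixedPointFree.le_normalizer_commutator' hTR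
        (((signalizerInf_le_centralizer C.functor hB.1).trans
          (centralizer_le (zpowers_le.mpr hd))).trans (centralizer_le_normalizer _))
    · refine le_trans (le_inf inf_le_left ?_) (inf_centralizer_le_signalizerInf hRm hB.1)
      rw [Subgroup.le_centralizer_iff, C.point_eq hB hg hg1 hd hgd]
      refine sup_le ?_ (Subgroup.le_centralizer_iff.mp inf_le_right)
      exact zpowers_le.mpr (le_centralizer_singleton_comm.mp (inf_le_left.trans hRg))
  have hfix : ∀ g ∈ B, g ≠ 1 → ¬ IsLineOf p A θ q g → P ⊓ centralizer {g} = ⊥ := by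
    intro g hg hg1 hng
    obtain ⟨N, hN, hgN⟩ := C.exists_mx_theta (hB.1 hg) hg1
    have hle : P ⊓ centralizer {g} ≤ N := (inf_le_theta hPm (hB.1 hg) hg1).trans hgN
    rw [← le_bot_iff, ← C.cor_q_eq_bot hng hN hgN]
    refine le_cor_of_centralizes hN.mem.1 (hPq.to_le inf_le_left) hle fun r hr => ?_
    have := Fact.mk hr
    rcases eq_or_ne r q with rfl | hrq
    · rw [C.cor_q_eq_bot hng hN hgN]; exact bot_le
    refine le_centralizer_of_mutual hrq (cor_isPGroup r) (hPq.to_le inf_le_left) ?_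
      (hN.le_normalizer_cor hle r)
    refine le_normalizer_inf (hstar g hg hg1 hng N hN hgN r hr) ?_
    by_cases hr2 : r = 2
    · exact absurd (hr2.trans hq.symm) hrq
    · exact (C.cor_centralized (hB.1 hg) hg1 hng hN hgN hr2).trans Subgroup.le_normalizer
  have hPQ : P ≤ Q := by
    refine C.le_of_points hPm fun B' hB' => ?_
    by_cases he : B' = B
    · subst he
      refine le_trans (le_trans (inf_le_inf_left _ (centralizer_le (Set.singleton_subset_iff.mpr hf)))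
        (hfix f hf hf1 hnot).le) bot_le
    have hd'1 : d' ≠ 1 := fun e => hind (e ▸ one_mem _)
    obtain ⟨c, hc, hc1, ⟨Mc, hMc, hcM, hXc⟩, hcB⟩ : ∃ c ∈ B, c ≠ 1 ∧ IsLineOf p A θ q c ∧ c ∉ B' := by
      by_cases hdB : d ∈ B'
      · exact ⟨d', hd', hd'1, hd'l, fun h => he (C.point_unique hB' hB hdB hd hd1 h hd' hind)⟩
      · exact ⟨d, hd, hd1, ⟨M, hM, hdM, hX⟩, hdB⟩
    set E := P ⊓ centralizer (B' : Set G)
    have hEA : A ≤ normalizer (E : Set G) := C.inv_inf_centralizer hPA hB'.1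
    have hEfix : E ⊓ centralizer {c} = ⊥ := by
      rw [← le_bot_iff, ← hfix f hf hf1 hnot]
      refine le_inf (inf_le_left.trans inf_le_left) ?_
      rw [le_centralizer_singleton_comm]
      have h1 : B' ⊔ zpowers c ≤ centralizer ((E ⊓ centralizer {c} : Subgroup G) : Set G) := by
        refine sup_le (Subgroup.le_centralizer_iff.mp (inf_le_left.trans inf_le_right)) ?_
        exact zpowers_le.mpr (le_centralizer_singleton_comm.mp inf_le_right)
      rw [C.sup_zpowers_eq hB' (hB.1 hc) hcB] at h1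
      exact h1 (hB.1 hf)
    refine C.glob_le_gam (C.glob_of_point (mem_of_le hPm inf_le_left hEA) (hPq.to_le inf_le_left) hB'
      fun b hb hb1 => C.part_le_cor (C.cor_mem hMc.mem q) (cor_isPGroup q) (hB.1 hc) hc1
        (hMc.le_normalizer_cor hcM q) hB' (inf_le_inf_right _ (hPX c hc hc1 Mc hMc hcM hXc)) hEA hEfix
        hb hb1 (theta_mem C.functor (hB'.1 hb) hb1) le_rfl) ?_
    refine C.dinv_inf_centralizer ?_ hB'.1
    exact (C.point_dinv hB).trans hPT
  rwa [le_antisymm hPQ hQP] at hPT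

end Ctx3Q

end Cfsg.Agent.Signalizer
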