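import Cfsg.Agent.Signalizer.ThreeCores

/-!
The solvable signalizer functor theorem with at least three primes: the chosen prime and the
lines of the functor.
-/

set_option autoImplicit false
set_option linter.unusedSectionVars false

open Subgroup
open scoped Pointwise commutatorElement

namespace Cfsg.Agent.Signalizer

open Cfsg Cfsg.Agent.Coprime Cfsg.Agent.AbCentFpf

universe u

variable {G : Type u} [Group G] [Finite G] {p : ℕ} [Fact p.Prime] {A : Subgroup G} {θ : G → Subgroup G}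

/-- The chosen prime `q` and a maximal member above the normaliser of its meet. -/
structure Ctx3Q (p : ℕ) (A : Subgroup G) (θ : G → Subgroup G) (q : ℕ) (M₁ : Subgroup G) : Prop
    extends Ctx3 p A θ where
  prime : q.Prime
  gam_ne : gam p A θ q ≠ ⊥
  rule : q = 2 ∨ gam p A θ 2 = ⊥
  mx : IsMx p A θ M₁
  nrm_le : nrm p A θ (gam p A θ q) ≤ M₁

/-- The functor has at least four primes. -/
def Four (A : Subgroup G) (θ : G → Subgroup G) : Prop :=
  ∀ a b c : ℕ, ∃ u ∈ primes A θ, u ≠ a ∧ u ≠ b ∧ u ≠ c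

theorem Ctx3.exists_ctx3Q (C : Ctx3 p A θ) : ∃ q M₁, Ctx3Q p A θ q M₁ := by
  obtain ⟨q, hq, hne, hrule⟩ : ∃ q, q.Prime ∧ gam p A θ q ≠ ⊥ ∧ (q = 2 ∨ gam p A θ 2 = ⊥) := by
    by_cases h : gam p A θ 2 = ⊥
    · obtain ⟨q, hq, hne⟩ := C.exists_gam_ne_bot
      exact ⟨q, hq, hne, Or.inr h⟩
    · exact ⟨2, Nat.prime_two, h, Or.inl rfl⟩
  obtain ⟨hn, -⟩ := C.nrm_spec (C.gam_mem q) hne
  have hD : signalizerInf A θ ≤ nrm p A θ (gam p A θ q) := le_nrm C.D_mem (C.gam_dinv q)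
  obtain ⟨M₁, hM₁, hle⟩ := C.exists_mx_ge hn (hD.trans Subgroup.le_normalizer)
  exact ⟨q, M₁, C, hq, hne, hrule, hM₁, hle⟩

namespace Ctx3Q

variable {q : ℕ} {M₁ : Subgroup G} (C : Ctx3Q p A θ q M₁)
include C

theorem fact : Fact q.Prime := ⟨C.prime⟩

theorem mem_primes : q ∈ primes A θ := by
  have := C.fact
  obtain ⟨u, hu, huq, -⟩ := C.three q q
  exact C.mem_primes_of_cor (C.kmax_mx hu).mem fun h =>
    C.gam_ne (le_bot_iff.mp ((C.gam_le hu huq).trans h.le))

theorem le_M₁ {V : Subgroup G} (hV : V ∈ signalizerFamily p A θ)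
    (hn : V ≤ normalizer (gam p A θ q : Set G)) : V ≤ M₁ := (le_nrm hV hn).trans C.nrm_le

theorem gam_le_M₁ : gam p A θ q ≤ M₁ := C.le_M₁ (C.gam_mem q) Subgroup.le_normalizer

theorem qmem_le_M₁ {V : Subgroup G} (hV : V ∈ signalizerFamily p A θ)
    (hD : signalizerInf A θ ≤ normalizer (V : Set G)) (hq : IsPGroup q V) : V ≤ M₁ :=
  haveI := C.fact
  C.le_M₁ hV (C.qmem_normalizes_gam hV hD hq)

theorem gam_le_cor_of_le {K : Subgroup G} (hK : K ∈ signalizerFamily p A θ)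
    (hle : gam p A θ q ≤ K) : gam p A θ q ≤ Cor q K :=
  haveI := C.fact
  C.glob_le_cor (C.gam_glob C.gam_ne) hK hle

theorem cor_ne_bot_of_le {K : Subgroup G} (hK : K ∈ signalizerFamily p A θ)
    (hle : gam p A θ q ≤ K) : Cor q K ≠ ⊥ := fun h =>
  C.gam_ne (le_bot_iff.mp ((C.gam_le_cor_of_le hK hle).trans h.le))

/-- The cores of a maximal member containing the meet lie in `M₁`. -/
theorem cor_le_M₁ {K : Subgroup G} (hK : IsMx p A θ K) (hle : gam p A θ q ≤ K) {r : ℕ} (hr : r.Prime) :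
    Cor r K ≤ M₁ := by
  have := C.fact
  have := Fact.mk hr
  rcases eq_or_ne r q with rfl | hrq
  · exact C.qmem_le_M₁ (C.cor_mem hK.mem r) (hK.dinv_cor r) (cor_isPGroup r)
  · refine C.le_M₁ (C.cor_mem hK.mem r) (le_trans (fun x hx => ?_) (centralizer_le_normalizer _))
    exact mem_centralizer_iff.mpr fun y hy =>
      (cor_commute hrq x hx y (C.gam_le_cor_of_le hK.mem hle hy)).eq.symm

/-- A mixed maximal member containing the meet and the cores of `M₁` away from `q` is `M₁`. -/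
theorem eq_M₁ {K : Subgroup G} (hK : IsMx p A θ K) (hle : gam p A θ q ≤ K)
    (hM₁ : ∀ r : ℕ, r.Prime → r ≠ q → Cor r M₁ ≤ K) {b : ℕ} [Fact b.Prime] (hbq : b ≠ q)
    (hb : Cor b K ≠ ⊥) : K = M₁ := by
  have := C.fact
  have hK₁ : ∀ r : ℕ, r.Prime → Cor r M₁ ≤ K := by
    intro r hr
    rcases eq_or_ne r q with rfl | hrq
    · exact C.le_of_normalizes_two hK hbq.symm (C.cor_ne_bot_of_le hK.mem hle) hb (C.cor_mem C.mx.mem r)
        (cor_isPGroup r) (C.mx.le_normalizer_cor (C.cor_le_M₁ hK hle hr) r)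
        (C.mx.le_normalizer_cor (C.cor_le_M₁ hK hle Fact.out) r)
    · exact hM₁ r hr hrq
  exact C.eq_of_cores_le hK C.mx (fun r hr => C.cor_le_M₁ hK hle hr) hK₁ hbq.symm
    (C.cor_ne_bot_of_le hK.mem hle) hb

theorem isPure_of_pure (hp1 : IsPure q M₁) {K : Subgroup G} (hK : IsMx p A θ K) (hX : Cor q K ≠ ⊥) :
    IsPure q K := by
  have := C.fact
  intro r hr hrq
  by_contra hne
  have := Fact.mk hr
  have heq := C.eq_M₁ hK ((C.gam_le_cor hK hX).trans (cor_le q))
    (fun s hs hsq => by rw [hp1 s hs hsq]; exact bot_le) hrq hne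
  exact hne (heq ▸ hp1 r hr hrq)

theorem gam_inf_centralizer_eq_bot {f : G} (hf : f ∈ A) (hf1 : f ≠ 1) (hnot : ¬ IsLineOf p A θ q f) :
    gam p A θ q ⊓ centralizer {f} = ⊥ := by
  have := C.fact
  obtain ⟨u, hu, huq, -⟩ := C.three q q
  obtain ⟨v, hv, hvq, hvu⟩ := C.three q u
  rw [← le_bot_iff, ← C.pair_inf_centralizer_eq_bot hu hv hvu.symm huq hvq hf hf1 hnot]
  exact inf_le_inf_right _ (le_inf (C.gam_le hu huq) (C.gam_le hv hvq))

theorem cor_q_eq_bot {f : G} (hnot : ¬ IsLineOf p A θ q f) {M : Subgroup G} (hM : IsMx p A θ M)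
    (hfM : θ f ≤ M) : Cor q M = ⊥ := by
  by_contra h
  exact hnot ⟨M, hM, hfM, h⟩

/-- Outside the `q`-lines the odd cores are centralised. -/
theorem cor_centralized {f : G} (hf : f ∈ A) (hf1 : f ≠ 1) (hnot : ¬ IsLineOf p A θ q f)
    {M : Subgroup G} (hM : IsMx p A θ M) (hfM : θ f ≤ M) {t : ℕ} [Fact t.Prime] (ht2 : t ≠ 2) :
    Cor t M ≤ centralizer {f} := by
  have := C.fact
  rcases eq_or_ne t q with rfl | htq
  · rw [C.cor_q_eq_bot hnot hM hfM]; exact bot_le
  by_cases htp : Cor t M = ⊥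
  · rw [htp]; exact bot_le
  have hle : ⁅Cor t M, zpowers f⁆ ≤ gam p A θ t :=
    C.commutator_le_of_glob ht2 (C.prime_ne hM.mem htp) (C.cor_mem hM.mem t) (hM.dinv_cor t)
      (cor_isPGroup t) hf hf1 (hM.le_normalizer_cor hfM t) fun P hP hD => C.glob_le_gam hP hD
  set U := ⁅Cor t M, zpowers f⁆ with hU
  by_contra hnc
  have hU1 : U ≠ ⊥ := fun h => hnc (le_centralizer_singleton_iff_commutator.mpr h)
  have hUm : U ∈ signalizerFamily p A θ := mem_of_le (C.cor_mem hM.mem t)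
    (commutator_le_of_le_normalizer ((zpowers_le.mpr hf : zpowers f ≤ A).trans
      (le_normalizer_of_mem (C.cor_mem hM.mem t))))
    (C.inv_commutator (le_normalizer_of_mem (C.cor_mem hM.mem t)) hf)
  have hθU : θ f ≤ normalizer (U : Set G) :=
    FixedPointFree.le_normalizer_commutator' (hM.le_normalizer_cor hfM t) (by
      refine le_trans ?_ (centralizer_le_normalizer _)
      rw [FixedPointFree.centralizer_zpowers]
      exact theta_le_centralizer C.functor hf hf1)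
  have hQU : gam p A θ q ≤ normalizer (U : Set G) :=
    ((C.gam_commute htq.symm).trans (centralizer_le hle)).trans (centralizer_le_normalizer _)
  obtain ⟨hN, -⟩ := C.nrm_spec hUm hU1
  obtain ⟨M', hM', hle'⟩ := C.exists_mx_ge hN
    ((le_nrm C.D_mem ((C.D_le_theta hf hf1).trans hθU)).trans Subgroup.le_normalizer)
  exact hnot ⟨M', hM', (le_nrm (theta_mem C.functor hf hf1) hθU).trans hle',
    C.cor_ne_bot_of_le hM'.mem ((le_nrm (C.gam_mem q) hQU).trans hle')⟩

/-- Outside the `q`-lines, with `2` absent, the member is `θ f`. -/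
theorem eq_theta {f : G} (hf : f ∈ A) (hf1 : f ≠ 1) (hnot : ¬ IsLineOf p A θ q f)
    {M : Subgroup G} (hM : IsMx p A θ M) (hfM : θ f ≤ M) (h2 : Cor 2 M = ⊥) : M = θ f :=
  C.eq_theta_of_centralizes hM hf hf1 fun r hr => by
    have := Fact.mk hr
    rcases eq_or_ne r 2 with rfl | hr2
    · rw [h2]; exact bot_le
    · exact C.cor_centralized hf hf1 hnot hM hfM hr2

/-- Two isolated lines outside the `q`-lines cannot have nested cores in a point with a `q`-line. -/
theorem false_of_nested {f f' : G} (hf : f ∈ A) (hf1 : f ≠ 1) (hf' : f' ∈ A) (hf'1 : f' ≠ 1)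
    (hind : f' ∉ zpowers f) (hnot : ¬ IsLineOf p A θ q f) (hM : IsMx p A θ (θ f))
    (hM' : IsMx p A θ (θ f'))
    (hsub : ∀ t : ℕ, t.Prime → Cor t (θ f) ≠ ⊥ → Cor t (θ f') ≠ ⊥) : False := by
  have := C.fact
  have hcen : ∀ t : ℕ, t.Prime → Cor t (θ f) ≤ centralizer {f'} := by
    intro t ht
    have := Fact.mk ht
    by_cases hbot : Cor t (θ f) = ⊥
    · rw [hbot]; exact bot_le
    refine le_trans (le_gr (C.cor_mem hM.mem t) (hM.dinv_cor t) fun s hs hd => ?_)
      (C.centralizes_gr hf' hf'1 hM' (hsub t ht hbot) ?_)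
    · exact dvd_of_isPGroup hs (cor_isPGroup t) hd
    · obtain ⟨u, hu, hut, -⟩ := C.three t t
      exact ⟨u, hu, hut⟩
  have hcf' : θ f ≤ centralizer {f'} := by
    rw [C.eq_theta_of_centralizes hM hf' hf'1 hcen]
    exact theta_le_centralizer C.functor hf' hf'1
  have hB := C.isPoint_zpowers_sup hf hf1 hf' hind
  obtain ⟨u, hu, huq, -⟩ := C.three q q
  obtain ⟨v, hv, hvq, hvu⟩ := C.three q u
  obtain ⟨c, hc, hc1, M, hMc, hcM, hX⟩ := C.exists_line_of_pair hu hv hvu.symm huq hvq (fun h => C.gam_ne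
    (le_bot_iff.mp ((le_inf (C.gam_le hu huq) (C.gam_le hv hvq)).trans h.le))) hB
  have hcen' : θ f ≤ centralizer {c} := by
    have h1 : zpowers f ⊔ zpowers f' ≤ centralizer (θ f : Set G) := sup_le
      (zpowers_le.mpr (le_centralizer_singleton_comm.mp (theta_le_centralizer C.functor hf hf1)))
      (zpowers_le.mpr (le_centralizer_singleton_comm.mp hcf'))
    exact le_centralizer_singleton_comm.mpr (h1 hc)
  have heq : M = θ f :=
    hM.max M hMc.mem ((C.le_theta_of_centralizes hM.mem (hB.1 hc) hc1 hcen').trans hcM)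
  exact hnot ⟨θ f, hM, le_rfl, heq ▸ hX⟩

/-! ### Four primes -/

theorem pmem_normalizes (h4 : Four A θ) {t : ℕ} [Fact t.Prime] {V : Subgroup G}
    (hV : V ∈ signalizerFamily p A θ) (hD : signalizerInf A θ ≤ normalizer (V : Set G))
    (ht : IsPGroup t V) : V ≤ normalizer (gam p A θ q : Set G) := by
  have := C.fact
  obtain ⟨u, hu, huq, hut, -⟩ := h4 q t t
  obtain ⟨v, hv, hvq, hvt, hvu⟩ := h4 q t u
  have heq : gam p A θ q = Cor q (kmax p A θ u) ⊓ Cor q (kmax p A θ v) :=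
    le_antisymm (le_inf (C.gam_le hu huq) (C.gam_le hv hvq)) (C.pair_le_gam hu hv hvu.symm huq hvq)
  rw [heq]
  exact le_normalizer_inf ((C.kmax_mx hu).le_normalizer_cor (C.le_kmax_of_isPGroup hu hut hV hD ht) q)
    ((C.kmax_mx hv).le_normalizer_cor (C.le_kmax_of_isPGroup hv hvt hV hD ht) q)

theorem cor_le_M₁_four (h4 : Four A θ) {M : Subgroup G} (hM : IsMx p A θ M) {r : ℕ} (hr : r.Prime) :
    Cor r M ≤ M₁ :=
  haveI := Fact.mk hr
  C.le_M₁ (C.cor_mem hM.mem r) (C.pmem_normalizes h4 (C.cor_mem hM.mem r) (hM.dinv_cor r) (cor_isPGroup r))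

/-! ### Three primes -/

theorem exists_third (h4 : ¬ Four A θ) {w : ℕ} (hw : w ∈ primes A θ) (hwq : w ≠ q) :
    ∃ u ∈ primes A θ, u ≠ q ∧ u ≠ w ∧ ∀ r ∈ primes A θ, r = q ∨ r = w ∨ r = u := by
  obtain ⟨u, hu, huq, huw⟩ := C.three q w
  refine ⟨u, hu, huq, huw, fun r hr => ?_⟩
  simp only [Four, not_forall, not_exists, not_and_or, not_not] at h4
  obtain ⟨a, b, c, habc⟩ := h4
  have h := fun x hx => (habc x).resolve_left (fun h => h hx)
  have hq := h q C.mem_primes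
  have hw' := h w hw
  have hu' := h u hu
  have hr' := h r hr
  omega

theorem eq_of_cor_ne_bot {M : Subgroup G} (hM : M ∈ signalizerFamily p A θ)
    {w u : ℕ} (h : ∀ r ∈ primes A θ, r = q ∨ r = w ∨ r = u) {r : ℕ} (hr : r.Prime)
    (hne : Cor r M ≠ ⊥) : r = q ∨ r = w ∨ r = u :=
  haveI := Fact.mk hr
  h r (C.mem_primes_of_cor hM hne)

end Ctx3Q

end Cfsg.Agent.Signalizer
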