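import Cfsg.Agent.Signalizer.Context

/-!
Tools for a minimal counterexample: global parts of invariant `q`-members, Bender's comparison of
maximal members, and the operators centralising invariant members.
-/

set_option autoImplicit false
set_option linter.unusedSectionVars false

open Subgroup
open scoped Pointwise commutatorElement

namespace Cfsg.Agent.Signalizer

open Cfsg Cfsg.Agent.Coprime Cfsg.Agent.AbCentFpf

universe u

variable {G : Type u} [Group G] [Finite G]

theorem coprime_of_isPGroup {q r : ℕ} [Fact q.Prime] [Fact r.Prime] (hqr : q ≠ r) {X Y : Subgroup G}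
    (hX : IsPGroup q X) (hY : IsPGroup r Y) : (Nat.card X).Coprime (Nat.card Y) := by
  obtain ⟨i, hi⟩ := IsPGroup.iff_card.mp hX
  obtain ⟨j, hj⟩ := IsPGroup.iff_card.mp hY
  rw [hi, hj]
  exact ((Nat.coprime_primes Fact.out Fact.out).mpr hqr).pow i j

theorem isSolvable_of_isPGroup {q : ℕ} [Fact q.Prime] {X : Subgroup G} (hX : IsPGroup q X) :
    Group.IsSolvable X := by
  have := hX.isNilpotent
  infer_instance

theorem isPGroup_eq_bot {q r : ℕ} [Fact q.Prime] [Fact r.Prime] (hqr : q ≠ r) {X : Subgroup G}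
    (hX : IsPGroup q X) (hX' : IsPGroup r X) : X = ⊥ := by
  have h := coprime_of_isPGroup hqr hX hX'
  rw [Nat.coprime_self] at h
  exact Subgroup.card_eq_one.mp h

/-- Subgroups of different prime power orders normalising one another commute. -/
theorem le_centralizer_of_mutual {q r : ℕ} [Fact q.Prime] [Fact r.Prime] (hqr : q ≠ r)
    {X Y : Subgroup G} (hX : IsPGroup q X) (hY : IsPGroup r Y) (hXY : X ≤ normalizer (Y : Set G))
    (hYX : Y ≤ normalizer (X : Set G)) : X ≤ centralizer (Y : Set G) := by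
  rw [← commutator_eq_bot_iff_le_centralizer, eq_bot_iff,
    ← Coprime.inf_eq_bot_of_coprime (coprime_of_isPGroup hqr hX hY)]
  refine le_inf (commutator_le_of_le_normalizer hYX) ?_
  rw [commutator_comm]
  exact commutator_le_of_le_normalizer hXY

theorem le_centralizer_singleton_comm {X : Subgroup G} {f : G} :
    X ≤ centralizer {f} ↔ f ∈ centralizer (X : Set G) := by
  rw [← FixedPointFree.centralizer_zpowers, Subgroup.le_centralizer_iff, zpowers_le]

theorem le_centralizer_singleton_iff_commutator {X : Subgroup G} {f : G} :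
    X ≤ centralizer {f} ↔ ⁅X, zpowers f⁆ = ⊥ := by
  rw [commutator_eq_bot_iff_le_centralizer, FixedPointFree.centralizer_zpowers]

/-- Three subgroups of distinct prime power orders, each normalised by the previous one, lie in a
solvable group in which each of them is a Sylow subgroup. -/
theorem exists_three {r s t : ℕ} [Fact r.Prime] [Fact s.Prime] [Fact t.Prime] {X Y Z : Subgroup G}
    (hX : IsPGroup r X) (hY : IsPGroup s Y) (hZ : IsPGroup t Z) (hrs : r ≠ s) (hrt : r ≠ t) (hst : s ≠ t)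
    (hXY : X ≤ normalizer (Y : Set G)) (hYZ : Y ≤ normalizer (Z : Set G))
    (hZX : Z ≤ normalizer (X : Set G)) :
    ∃ K : Subgroup G, X ≤ K ∧ Y ≤ K ∧ Z ≤ K ∧ Group.IsSolvable K ∧
      Nat.card K ∣ Nat.card X * Nat.card Y * Nat.card Z ∧
      ∀ g, g ∈ normalizer (X : Set G) → g ∈ normalizer (Y : Set G) → g ∈ normalizer (Z : Set G) →
        g ∈ normalizer (K : Set G) := by
  have hYZ' : ∀ g ∈ Z ⊔ Y, ∃ z ∈ Z, ∃ y ∈ Y, z * y = g := fun g hg =>
    (mem_sup_of_le_normalizer hYZ).mp hg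
  have hmul : ∀ {z y x : G}, z ∈ Z → y ∈ Y → x ∈ X → ∃ x' ∈ X, ∃ w ∈ Z ⊔ Y, x * (z * y) = w * x' := by
    intro z y x hz hy hx
    refine ⟨z⁻¹ * x * z, ?_, z * ((z⁻¹ * x * z) * y * (z⁻¹ * x * z)⁻¹), ?_, by group⟩
    · have := (mem_normalizer_iff.mp ((normalizer (X : Set G)).inv_mem (hZX hz)) x).mp hx
      simpa using this
    · refine mul_mem_sup hz ?_
      have hx' : z⁻¹ * x * z ∈ X := by
        have := (mem_normalizer_iff.mp ((normalizer (X : Set G)).inv_mem (hZX hz)) x).mp hx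
        simpa using this
      exact (mem_normalizer_iff.mp (hXY hx') y).mp hy
  let K : Subgroup G :=
    { carrier := {g | ∃ w ∈ Z ⊔ Y, ∃ x ∈ X, w * x = g}
      one_mem' := ⟨1, one_mem _, 1, one_mem _, one_mul 1⟩
      mul_mem' := by
        rintro _ _ ⟨w₁, hw₁, x₁, hx₁, rfl⟩ ⟨w₂, hw₂, x₂, hx₂, rfl⟩
        obtain ⟨z, hz, y, hy, rfl⟩ := hYZ' w₂ hw₂
        obtain ⟨x', hx', w, hw, e⟩ := hmul hz hy hx₁
        refine ⟨w₁ * w, mul_mem hw₁ hw, x' * x₂, X.mul_mem hx' hx₂, ?_⟩
        calc w₁ * w * (x' * x₂) = w₁ * (w * x') * x₂ := by group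
          _ = _ := by rw [← e]; group
      inv_mem' := by
        rintro _ ⟨w₁, hw₁, x₁, hx₁, rfl⟩
        obtain ⟨z, hz, y, hy, e'⟩ := hYZ' w₁⁻¹ (inv_mem hw₁)
        obtain ⟨x', hx', w, hw, e⟩ := hmul hz hy (X.inv_mem hx₁)
        exact ⟨w, hw, x', hx', by rw [← e, e', mul_inv_rev]⟩ }
  have hXK : X ≤ K := fun x hx => ⟨1, one_mem _, x, hx, one_mul x⟩
  have hWK : Z ⊔ Y ≤ K := fun w hw => ⟨w, hw, 1, one_mem _, mul_one w⟩
  have hcard : Nat.card K ∣ Nat.card X * Nat.card Y * Nat.card Z := by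
    have hd : Z ⊓ Y = ⊥ := Coprime.inf_eq_bot_of_coprime (coprime_of_isPGroup hst.symm hZ hY)
    have hW := Coprime.card_sup_eq_mul hYZ hd
    have hd' : (Z ⊔ Y) ⊓ X = ⊥ := by
      refine Coprime.inf_eq_bot_of_coprime ?_
      rw [hW]
      exact (coprime_of_isPGroup hrt.symm hZ hX).mul_left (coprime_of_isPGroup hrs.symm hY hX)
    have : Nat.card K = Nat.card (Z ⊔ Y : Subgroup G) * Nat.card X := by
      rw [← Nat.card_prod]
      refine (Nat.card_congr (Equiv.ofBijective
        (fun v : (Z ⊔ Y : Subgroup G) × X => (⟨(v.1 : G) * v.2, v.1, v.1.2, v.2, v.2.2, rfl⟩ : K))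
        ⟨fun v v' h => Subgroup.mul_injective_of_disjoint (disjoint_iff.mpr hd') (congrArg Subtype.val h),
          ?_⟩)).symm
      rintro ⟨g, w, hw, x, hx, rfl⟩
      exact ⟨(⟨w, hw⟩, ⟨x, hx⟩), rfl⟩
    rw [this, hW]
    exact dvd_of_eq (by ring)
  refine ⟨K, hXK, le_sup_right.trans hWK, le_sup_left.trans hWK, ?_, hcard, fun g hgX hgY hgZ => ?_⟩
  · -- the normal closure of `Z` lies in the solvable group `X ⊔ Z`
    have hWs : Group.IsSolvable (X ⊔ Z : Subgroup G) := by
      set L := X ⊔ Z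
      have hn : (X.subgroupOf L).Normal :=
        normal_subgroupOf_of_le_normalizer (sup_le le_normalizer hZX)
      have h2 : Group.IsSolvable (L ⧸ X.subgroupOf L) := by
        have := isSolvable_of_isPGroup hZ
        refine Group.isSolvable_of_surjective (f := (QuotientGroup.mk' (X.subgroupOf L)).comp
          (inclusion (le_sup_right : Z ≤ L))) ?_
        intro v
        obtain ⟨⟨g, hg⟩, rfl⟩ := QuotientGroup.mk_surjective v
        obtain ⟨x, hx, z, hz, rfl⟩ := (mem_sup_of_le_normalizer hZX).mp hg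
        refine ⟨⟨z, hz⟩, (QuotientGroup.eq).mpr ?_⟩
        rw [mem_subgroupOf]
        have := (mem_normalizer_iff.mp ((normalizer (X : Set G)).inv_mem (hZX hz)) x).mp hx
        simpa [mul_assoc] using this
      have h1 := isSolvable_subgroupOf L (isSolvable_of_isPGroup hX)
      exact Group.isSolvable_of_ker_le_range (X.subgroupOf L).subtype
        (QuotientGroup.mk' (X.subgroupOf L)) (by simp)
    set N := Subgroup.normalClosure ((Z.subgroupOf K : Subgroup K) : Set K) with hN
    have hNle : N.map K.subtype ≤ X ⊔ Z := by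
      rw [map_le_iff_le_comap, hN, Subgroup.normalClosure, closure_le]
      intro v hv
      obtain ⟨z₀, hz₀, hv⟩ := Group.mem_conjugatesOfSet_iff.mp hv
      obtain ⟨⟨g, hg⟩, rfl⟩ := isConj_iff.mp hv
      obtain ⟨w, hw, x, hx, e⟩ := K.inv_mem hg
      obtain ⟨z, hz, y, hy, rfl⟩ := hYZ' w hw
      have hg' : g = x⁻¹ * y⁻¹ * z⁻¹ := by rw [← inv_inv g, ← e]; group
      rw [SetLike.mem_coe, mem_comap]
      show g * (z₀ : G) * g⁻¹ ∈ X ⊔ Z
      subst hg'
      have h1 : y⁻¹ * (z⁻¹ * z₀ * z) * y ∈ Z := by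
        have := (mem_normalizer_iff.mp (hYZ (Y.inv_mem hy)) _).mp
          (Z.mul_mem (Z.mul_mem (Z.inv_mem hz) hz₀) hz)
        simpa using this
      have h2 : x⁻¹ * (y⁻¹ * (z⁻¹ * z₀ * z) * y) * x ∈ X ⊔ Z :=
        Subgroup.mul_mem _ (Subgroup.mul_mem _ (mem_sup_left (X.inv_mem hx)) (mem_sup_right h1))
          (mem_sup_left hx)
      simpa [mul_assoc] using h2
    have hNs : Group.IsSolvable N := by
      refine Group.isSolvable_of_isSolvable_injective (f := (inclusion hNle).comp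
        (N.equivMapOfInjective K.subtype K.subtype_injective).toMonoidHom) ?_
      exact (inclusion_injective hNle).comp (MulEquiv.injective _)
    -- and the quotient is the image of `X ⊔ Y`
    have hXYs : Group.IsSolvable (Y ⊔ X : Subgroup G) := by
      set L := Y ⊔ X
      have hn : (Y.subgroupOf L).Normal :=
        normal_subgroupOf_of_le_normalizer (sup_le le_normalizer hXY)
      have h2 : Group.IsSolvable (L ⧸ Y.subgroupOf L) := by
        have := isSolvable_of_isPGroup hX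
        refine Group.isSolvable_of_surjective (f := (QuotientGroup.mk' (Y.subgroupOf L)).comp
          (inclusion (le_sup_right : X ≤ L))) ?_
        intro v
        obtain ⟨⟨g, hg⟩, rfl⟩ := QuotientGroup.mk_surjective v
        obtain ⟨y, hy, x, hx, rfl⟩ := (mem_sup_of_le_normalizer hXY).mp hg
        refine ⟨⟨x, hx⟩, (QuotientGroup.eq).mpr ?_⟩
        rw [mem_subgroupOf]
        have := (mem_normalizer_iff.mp ((normalizer (Y : Set G)).inv_mem (hXY hx)) y).mp hy
        simpa [mul_assoc] using this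
      have h1 := isSolvable_subgroupOf L (isSolvable_of_isPGroup hY)
      exact Group.isSolvable_of_ker_le_range (Y.subgroupOf L).subtype
        (QuotientGroup.mk' (Y.subgroupOf L)) (by simp)
    have hQs : Group.IsSolvable (K ⧸ N) := by
      refine Group.isSolvable_of_surjective (f := (QuotientGroup.mk' N).comp
        (inclusion (sup_le (le_sup_right.trans hWK) hXK : Y ⊔ X ≤ K))) ?_
      intro v
      obtain ⟨⟨g, w, hw, x, hx, rfl⟩, rfl⟩ := QuotientGroup.mk_surjective v
      obtain ⟨z, hz, y, hy, rfl⟩ := hYZ' w hw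
      refine ⟨⟨y * x, mul_mem_sup hy hx⟩, (QuotientGroup.eq).mpr ?_⟩
      have h3 : (y * x)⁻¹ * z * (y * x) = (y * x)⁻¹ * (z * y * x) := by group
      have h4 : (⟨z, hWK (mem_sup_left hz)⟩ : K) ∈ N := subset_normalClosure hz
      have h5 := (normalClosure_normal (s := ((Z.subgroupOf K : Subgroup K) : Set K))).conj_mem _ h4
        (⟨y * x, sup_le (le_sup_right.trans hWK) hXK (mul_mem_sup hy hx)⟩ : K)⁻¹
      convert h5 using 1
      exact Subtype.ext (by simp [mul_assoc])
    exact Group.isSolvable_of_ker_le_range N.subtype (QuotientGroup.mk' N) (by simp)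
  · have hgW : g ∈ normalizer ((Z ⊔ Y : Subgroup G) : Set G) :=
      normalizer_inf_normalizer_le_normalizer_sup Z Y ⟨hgZ, hgY⟩
    have key : ∀ a, a ∈ normalizer ((Z ⊔ Y : Subgroup G) : Set G) → a ∈ normalizer (X : Set G) →
        ∀ v ∈ K, a * v * a⁻¹ ∈ K := by
      rintro a haW haX _ ⟨w, hw, x, hx, rfl⟩
      exact ⟨a * w * a⁻¹, (mem_normalizer_iff.mp haW w).mp hw, a * x * a⁻¹,
        (mem_normalizer_iff.mp haX x).mp hx, by group⟩
    rw [mem_normalizer_iff]
    refine fun v => ⟨key g hgW hgX v, fun hv => ?_⟩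
    have := key g⁻¹ (inv_mem hgW) (inv_mem hgX) _ hv
    simpa [mul_assoc] using this

/-- A `q`-subgroup of `K` normalised by `X` lies in `X` when `X` has the full `q`-part. -/
theorem le_of_full_part {q : ℕ} [Fact q.Prime] {X U K : Subgroup G} {m : ℕ} (hX : IsPGroup q X)
    (hU : IsPGroup q U) (hXK : X ≤ K) (hUK : U ≤ K) (hn : X ≤ normalizer (U : Set G))
    (hcard : Nat.card K ∣ Nat.card X * m) (hm : ¬ q ∣ m) : U ≤ X := by
  have hS : IsPGroup q (X ⊔ U : Subgroup G) := hX.to_sup_of_normal_right' hU hn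
  obtain ⟨n, hn'⟩ := IsPGroup.iff_card.mp hS
  have h1 : Nat.card (X ⊔ U : Subgroup G) ∣ Nat.card X := by
    refine (Nat.Coprime.dvd_of_dvd_mul_right ?_ ((card_dvd_of_le (sup_le hXK hUK)).trans hcard))
    rw [hn']
    exact ((Nat.Prime.coprime_iff_not_dvd Fact.out).mpr hm).pow_left n
  exact le_sup_right.trans (eq_of_le_of_card_ge le_sup_left (Nat.le_of_dvd Nat.card_pos h1)).ge

/-- A `q`-group `P` normalised by the `q`-group `X`, with `N_P(X) ≤ X`, lies in `X`. -/
theorem le_of_normalizer_inf_le {q : ℕ} [Fact q.Prime] {P X : Subgroup G} (hP : IsPGroup q P)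
    (hX : IsPGroup q X) (hn : X ≤ normalizer (P : Set G))
    (h : P ⊓ normalizer (X : Set G) ≤ X) : P ≤ X := by
  set S := X ⊔ P
  have hS : IsPGroup q S := hX.to_sup_of_normal_right' hP hn
  have := hS.isNilpotent
  by_contra hPX
  have hlt : X.subgroupOf S < ⊤ :=
    lt_top_iff_ne_top.mpr fun ht => hPX (le_sup_right.trans (subgroupOf_eq_top.mp ht))
  obtain ⟨g, hg, hgX⟩ := SetLike.exists_of_lt (Group.normalizerCondition_of_isNilpotent _ hlt)
  refine hgX ?_
  have hg' : (g : G) ∈ normalizer (X : Set G) := by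
    rw [mem_normalizer_iff]
    intro v
    constructor
    · exact fun hv => (mem_normalizer_iff.mp hg ⟨v, mem_sup_left hv⟩).mp hv
    · intro hv
      have hvS : v ∈ S := by
        have := S.mul_mem (S.mul_mem (S.inv_mem g.2) (mem_sup_left hv)) g.2
        simpa [mul_assoc] using this
      exact (mem_normalizer_iff.mp hg ⟨v, hvS⟩).mpr hv
  have hgm : (g : G) ∈ P ⊔ X := sup_comm X P ▸ g.2
  obtain ⟨y, hy, x, hx, e⟩ := (mem_sup_of_le_normalizer hn).mp hgm
  have hyn : y ∈ normalizer (X : Set G) := by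
    rw [← e] at hg'
    exact (Subgroup.mul_mem_cancel_right _ (Subgroup.le_normalizer hx)).mp hg'
  show (g : G) ∈ X
  rw [← e]
  exact X.mul_mem (h ⟨hy, hyn⟩) hx

/-- A `w`-subgroup of a solvable group centralising every core lies in the `w`-core. -/
theorem le_cor_of_centralizes {w : ℕ} [Fact w.Prime] {M V : Subgroup G} (hM : Group.IsSolvable M)
    (hV : IsPGroup w V) (hVM : V ≤ M) (h : ∀ r : ℕ, r.Prime → Cor r M ≤ centralizer (V : Set G)) :
    V ≤ Cor w M :=
  le_cor_of_le_ftg hV fun x hx => centralizer_ftg_le hM (hVM hx) fun _ hy =>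
    (mem_centralizer_iff.mp (ftg_le_of_cor (K := M) h hy) x hx).symm

/-- Commutators with an element centralising a normalised subgroup centralise it. -/
theorem commutator_le_centralizer {X U : Subgroup G} {f : G} (hXU : X ≤ normalizer (U : Set G))
    (hfU : U ≤ centralizer {f}) : ⁅X, zpowers f⁆ ≤ centralizer (U : Set G) := by
  rw [commutator_le]
  intro m hm b hb
  have hb' : b ∈ centralizer (U : Set G) := zpowers_le.mpr (le_centralizer_singleton_comm.mp hfU) hb
  have hmn := Coprime.le_normalizer_centralizer hXU hm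
  rw [commutatorElement_def]
  exact Subgroup.mul_mem _ ((mem_normalizer_iff.mp hmn _).mp hb') (inv_mem hb')

/-- The subgroup generated by the conjugates of `Q` under `T`. -/
def conjClosure (Q T : Subgroup G) : Subgroup G := ⨆ t : T, MulAut.conj (t : G) • Q

theorem le_conjClosure (Q T : Subgroup G) : Q ≤ conjClosure Q T :=
  le_iSup_of_le (1 : T) (by simp)

theorem conjClosure_le {Q T X : Subgroup G} (hQ : Q ≤ X) (hT : T ≤ normalizer (X : Set G)) :
    conjClosure Q T ≤ X :=
  iSup_le fun t => conj_smul_le_self (hT t.2) hQ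

theorem le_normalizer_conjClosure {Q T R : Subgroup G} (hRQ : R ≤ normalizer (Q : Set G))
    (hTR : T ≤ normalizer (R : Set G)) : R ≤ normalizer (conjClosure Q T : Set G) := by
  intro x hx
  apply mem_normalizer_of_conj_smul_eq
  rw [conjClosure, conj_smul_eq_map, Subgroup.map_iSup]
  refine iSup_congr fun t => ?_
  rw [← conj_smul_eq_map, ← conj_mul_smul]
  have h1 : (t : G)⁻¹ * x * t ∈ R := by
    have := (mem_normalizer_iff.mp ((normalizer (R : Set G)).inv_mem (hTR t.2)) x).mp hx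
    simpa using this
  rw [show x * (t : G) = t * ((t : G)⁻¹ * x * t) by group, conj_mul_smul,
    conj_smul_eq_self_of_mem_normalizer (hRQ h1)]

theorem le_normalizer_conjClosure' {Q T R : Subgroup G} (hRQ : R ≤ normalizer (Q : Set G))
    (hRT : R ≤ normalizer (T : Set G)) : R ≤ normalizer (conjClosure Q T : Set G) := by
  intro x hx
  apply mem_normalizer_of_conj_smul_eq
  have key : ∀ y ∈ R, MulAut.conj y • conjClosure Q T ≤ conjClosure Q T := by
    intro y hy
    rw [conjClosure, conj_smul_eq_map, Subgroup.map_iSup]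
    refine iSup_le fun t => le_iSup_of_le ⟨_, (mem_normalizer_iff.mp (hRT hy) _).mp t.2⟩ ?_
    rw [← conj_smul_eq_map, ← conj_mul_smul]
    conv_lhs => rw [show y * (t : G) = y * t * y⁻¹ * y by group, conj_mul_smul,
      conj_smul_eq_self_of_mem_normalizer (hRQ hy)]
  refine le_antisymm (key x hx) ?_
  have h2 := Subgroup.pointwise_smul_le_pointwise_smul_iff (a := MulAut.conj x) |>.mpr
    (key x⁻¹ (R.inv_mem hx))
  rwa [← conj_mul_smul, mul_inv_cancel, map_one, one_smul] at h2

theorem le_normalizer_conjClosure_self (Q T : Subgroup G) :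
    T ≤ normalizer (conjClosure Q T : Set G) := by
  intro x hx
  apply mem_normalizer_of_conj_smul_eq
  rw [conjClosure, conj_smul_eq_map, Subgroup.map_iSup]
  refine le_antisymm (iSup_le fun t => ?_) (iSup_le fun t => ?_)
  · refine le_iSup_of_le (⟨x, hx⟩ * t : T) ?_
    rw [← conj_smul_eq_map, ← conj_mul_smul, Subgroup.coe_mul]
  · refine le_iSup_of_le (⟨x, hx⟩⁻¹ * t : T) ?_
    rw [← conj_smul_eq_map, ← conj_mul_smul, Subgroup.coe_mul, Subgroup.coe_inv, mul_inv_cancel_left]

variable {p : ℕ} [Fact p.Prime] {A : Subgroup G} {θ : G → Subgroup G}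

/-- The lines above which some maximal member has nontrivial `q`-core. -/
def IsLineOf (p : ℕ) (A : Subgroup G) (θ : G → Subgroup G) (q : ℕ) (c : G) : Prop :=
  ∃ M, IsMx p A θ M ∧ θ c ≤ M ∧ Cor q M ≠ ⊥

/-- A member all of whose nontrivial cores are `q`-cores. -/
def IsPure (q : ℕ) (M : Subgroup G) : Prop := ∀ r : ℕ, r.Prime → r ≠ q → Cor r M = ⊥

namespace Hyp

variable (h : Hyp p A θ)
include h

theorem le_normalizer_centralizer_A {S : Set G} (hS : S ⊆ A) :
    A ≤ normalizer (centralizer S : Set G) :=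
  (show A ≤ centralizer S from fun _ ha => mem_centralizer_iff.mpr fun _ hs =>
    ea_comm h.ea (hS hs) ha).trans Subgroup.le_normalizer

theorem D_le_centralizer {S : Set G} (hS : S ⊆ A) : signalizerInf A θ ≤ centralizer S :=
  (signalizerInf_A_le_centralizer h.functor).trans (centralizer_le hS)

theorem inv_inf_centralizer {X : Subgroup G} (hX : A ≤ normalizer (X : Set G)) {S : Set G}
    (hS : S ⊆ A) : A ≤ normalizer ((X ⊓ centralizer S : Subgroup G) : Set G) :=
  le_normalizer_inf hX (h.le_normalizer_centralizer_A hS)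

theorem dinv_inf_centralizer {X : Subgroup G} (hX : signalizerInf A θ ≤ normalizer (X : Set G))
    {S : Set G} (hS : S ⊆ A) :
    signalizerInf A θ ≤ normalizer ((X ⊓ centralizer S : Subgroup G) : Set G) :=
  le_normalizer_inf hX ((h.D_le_centralizer hS).trans Subgroup.le_normalizer)

theorem inv_commutator {X : Subgroup G} (hX : A ≤ normalizer (X : Set G)) {f : G} (hf : f ∈ A) :
    A ≤ normalizer ((⁅X, zpowers f⁆ : Subgroup G) : Set G) := by
  refine FixedPointFree.le_normalizer_commutator' hX ?_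
  intro a ha
  refine centralizer_le_normalizer _ (mem_centralizer_iff.mpr fun y hy => ?_)
  exact ea_comm h.ea (zpowers_le.mpr hf hy) ha

theorem dinv_commutator {X : Subgroup G} (hX : signalizerInf A θ ≤ normalizer (X : Set G)) {f : G}
    (hf : f ∈ A) : signalizerInf A θ ≤ normalizer ((⁅X, zpowers f⁆ : Subgroup G) : Set G) :=
  FixedPointFree.le_normalizer_commutator' hX
    ((h.D_le_centralizer (zpowers_le.mpr hf)).trans (centralizer_le_normalizer _))

theorem commutator_commutator {X : Subgroup G} (hX : X ∈ signalizerFamily p A θ) {f : G} (hf : f ∈ A) :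
    ⁅⁅X, zpowers f⁆, zpowers f⁆ = ⁅X, zpowers f⁆ :=
  commutator_commutator_eq ((zpowers_le.mpr hf : zpowers f ≤ A).trans (le_normalizer_of_mem hX))
    ((coprime_of_mem h.ea hX).coprime_dvd_left (card_dvd_of_le (zpowers_le.mpr hf)))
    (Or.inl (isSolvable_of_le (zpowers_le.mpr hf) (ea_isSolvable h.ea)))

theorem commutator_eq_self {X : Subgroup G} (hX : X ∈ signalizerFamily p A θ) {f : G} (hf : f ∈ A)
    (hfix : X ⊓ centralizer {f} = ⊥) : ⁅X, zpowers f⁆ = X := by
  have h1 := commutator_sup_centralizer ((zpowers_le.mpr hf : zpowers f ≤ A).trans (le_normalizer_of_mem hX))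
    ((coprime_of_mem h.ea hX).coprime_dvd_left (card_dvd_of_le (zpowers_le.mpr hf)))
    (Or.inl (isSolvable_of_le (zpowers_le.mpr hf) (ea_isSolvable h.ea)))
  rwa [FixedPointFree.centralizer_zpowers, hfix, sup_bot_eq] at h1

theorem centralizes_of_commutator_le {X : Subgroup G} (hX : X ∈ signalizerFamily p A θ) {f : G}
    (hf : f ∈ A) (hle : ⁅X, zpowers f⁆ ≤ centralizer {f}) : X ≤ centralizer {f} := by
  rw [le_centralizer_singleton_iff_commutator, ← h.commutator_commutator hX hf]
  exact le_centralizer_singleton_iff_commutator.mp hle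

theorem le_theta_of_centralizes {X : Subgroup G} (hX : X ∈ signalizerFamily p A θ) {f : G}
    (hf : f ∈ A) (hf1 : f ≠ 1) (hle : X ≤ centralizer {f}) : X ≤ θ f :=
  (le_inf le_rfl hle).trans (inf_le_theta hX hf hf1)

theorem zpowers_eq_of_mem {a b : G} (ha : a ∈ A) (hb : b ∈ zpowers a) (hb1 : b ≠ 1) :
    zpowers b = zpowers a := by
  have ha1 : a ≠ 1 := by
    rintro rfl
    rw [zpowers_one_eq_bot, mem_bot] at hb
    exact hb1 hb
  refine eq_of_le_of_card_ge (zpowers_le.mpr hb) ?_
  rw [Nat.card_zpowers, Nat.card_zpowers, ea_orderOf h.ea ha ha1,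
    ea_orderOf h.ea (zpowers_le.mpr ha hb) hb1]

theorem not_mem_zpowers_symm {a b : G} (ha : a ∈ A) (ha1 : a ≠ 1) (hb : b ∈ A) (hab : b ∉ zpowers a) :
    a ∉ zpowers b := fun hm =>
  hab ((h.zpowers_eq_of_mem hb hm ha1).ge (mem_zpowers b))

theorem point_eq {B : Subgroup G} (hB : IsPoint p A B) {a b : G} (ha : a ∈ B) (ha1 : a ≠ 1) (hb : b ∈ B)
    (hab : b ∉ zpowers a) : B = zpowers a ⊔ zpowers b :=
  (eq_of_le_of_card_ge (sup_le (zpowers_le.mpr ha) (zpowers_le.mpr hb))
    (by rw [hB.2, (h.isPoint_zpowers_sup (hB.1 ha) ha1 (hB.1 hb) hab).2])).symm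

theorem point_unique {B B' : Subgroup G} (hB : IsPoint p A B) (hB' : IsPoint p A B') {a b : G}
    (ha : a ∈ B) (ha' : a ∈ B') (ha1 : a ≠ 1) (hb : b ∈ B) (hb' : b ∈ B') (hab : b ∉ zpowers a) :
    B = B' := (h.point_eq hB ha ha1 hb hab).trans (h.point_eq hB' ha' ha1 hb' hab).symm

theorem sup_zpowers_eq {B : Subgroup G} (hB : IsPoint p A B) {c : G} (hc : c ∈ A) (hcB : c ∉ B) :
    B ⊔ zpowers c = A := by
  refine eq_of_le_of_card_ge (sup_le hB.1 (zpowers_le.mpr hc)) ?_
  by_contra hlt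
  have hd : Nat.card (B ⊔ zpowers c : Subgroup G) ∣ p ^ 3 :=
    h.card ▸ card_dvd_of_le (sup_le hB.1 (zpowers_le.mpr hc))
  obtain ⟨k, hk3, hk⟩ := (Nat.dvd_prime_pow Fact.out).mp hd
  rw [h.card, hk, not_le] at hlt
  have hk' : k < 3 := (Nat.pow_lt_pow_iff_right (Fact.out : p.Prime).one_lt).mp hlt
  refine hcB ((eq_of_le_of_card_ge (le_sup_left : B ≤ B ⊔ zpowers c) ?_).ge
    (mem_sup_right (mem_zpowers c)))
  rw [hB.2, hk]
  exact Nat.pow_le_pow_right (Fact.out : p.Prime).pos (by omega)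

theorem isLineOf_zpowers {q : ℕ} {c c' : G} (hc : c ∈ A) (hc' : c' ∈ zpowers c) (hc'1 : c' ≠ 1)
    (hl : IsLineOf p A θ q c) : IsLineOf p A θ q c' := by
  have hc1 : c ≠ 1 := by
    rintro rfl
    rw [zpowers_one_eq_bot, mem_bot] at hc'
    exact hc'1 hc'
  obtain ⟨M, hM, hcM, hX⟩ := hl
  exact ⟨M, hM, (h.theta_eq_of_zpowers hc hc1 hc' hc'1).le.trans hcM, hX⟩

theorem coprime_card {K : Subgroup G} (hK : K ∈ signalizerFamily p A θ) : p.Coprime (Nat.card K) :=
  (Fact.out : p.Prime).coprime_iff_not_dvd.mpr hK.2.1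

/-- A part of an invariant `q`-member without fixed points for a normalising line is global. -/
theorem part_le_cor {q : ℕ} [Fact q.Prime] {X B : Subgroup G} {c : G}
    (hX : X ∈ signalizerFamily p A θ) (hXq : IsPGroup q X) (hc : c ∈ A) (hc1 : c ≠ 1)
    (hcX : θ c ≤ normalizer (X : Set G)) (hB : IsPoint p A B) {E : Subgroup G}
    (hE : E ≤ X ⊓ centralizer (B : Set G)) (hEA : A ≤ normalizer (E : Set G))
    (hfix : E ⊓ centralizer {c} = ⊥) {b : G} (hb : b ∈ B) (hb1 : b ≠ 1) {K : Subgroup G}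
    (hK : K ∈ signalizerFamily p A θ) (hbK : θ b ≤ K) : E ≤ Cor q K := by
  have hEb : E ≤ θ b := hE.trans ((inf_le_inf_left _
    (centralizer_le (Set.singleton_subset_iff.mpr hb))).trans (inf_le_theta hX (hB.1 hb) hb1))
  refine le_cor_of_fpf hK.1 (h.coprime_card hK) (h.ea.2 c hc) (le_normalizer_of_mem hK hc)
    (inf_le_right : X ⊓ K ≤ K) (hXq.to_le inf_le_left) ?_ (le_inf (hE.trans inf_le_left) (hEb.trans hbK))
    (hEA hc) hfix
  exact le_normalizer_inf ((inf_le_theta hK hc hc1).trans hcX) (inf_le_left.trans Subgroup.le_normalizer)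

/-- For odd `q` the commutators with a normalising line of the parts of an invariant `q`-member
are global. -/
theorem commutator_part_le_cor {q : ℕ} [Fact q.Prime] (hq2 : q ≠ 2) (hqp : q ≠ p) {X B : Subgroup G}
    {c : G} (hX : X ∈ signalizerFamily p A θ) (hXq : IsPGroup q X) (hc : c ∈ A) (hc1 : c ≠ 1)
    (hcX : θ c ≤ normalizer (X : Set G)) (hB : IsPoint p A B) {b : G} (hb : b ∈ B) (hb1 : b ≠ 1)
    {K : Subgroup G} (hK : K ∈ signalizerFamily p A θ) (hbK : θ b ≤ K) :
    ⁅X ⊓ centralizer (B : Set G), zpowers c⁆ ≤ Cor q K := by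
  have hXb : X ⊓ centralizer (B : Set G) ≤ θ b := (inf_le_inf_left _
    (centralizer_le (Set.singleton_subset_iff.mpr hb))).trans (inf_le_theta hX (hB.1 hb) hb1)
  refine (commutator_mono (le_inf inf_le_left (hXb.trans hbK)) le_rfl).trans
    (commutator_le_cor_of_odd hK.1 (h.coprime_card hK) hq2 hqp (h.ea.2 c hc) (le_normalizer_of_mem hK hc)
      (inf_le_right : X ⊓ K ≤ K) (hXq.to_le inf_le_left)
      (le_normalizer_inf (le_normalizer_of_mem hX) (le_normalizer_of_mem hK) hc) ?_)
  exact le_normalizer_inf ((inf_le_theta hK hc hc1).trans hcX) (inf_le_left.trans Subgroup.le_normalizer)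

theorem glob_of_point {q : ℕ} {E B : Subgroup G} (hE : E ∈ signalizerFamily p A θ) (hEq : IsPGroup q E)
    (hB : IsPoint p A B) (hw : ∀ b ∈ B, b ≠ 1 → E ≤ Cor q (θ b)) : Glob p A θ q E :=
  ⟨hE, hEq, fun B' hB' => by
    obtain ⟨b, hb, hb', hb1⟩ := h.exists_common hB hB'
    exact ⟨b, hb', hb1, θ b, theta_mem h.functor (hB.1 hb) hb1, le_rfl, hw b hb hb1⟩⟩

theorem glob_part {q : ℕ} [Fact q.Prime] {X B : Subgroup G} {c : G}
    (hX : X ∈ signalizerFamily p A θ) (hXq : IsPGroup q X) (hc : c ∈ A) (hc1 : c ≠ 1)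
    (hcX : θ c ≤ normalizer (X : Set G)) (hB : IsPoint p A B)
    (hfix : X ⊓ centralizer (B : Set G) ⊓ centralizer {c} = ⊥) :
    Glob p A θ q (X ⊓ centralizer (B : Set G)) :=
  h.glob_of_point (mem_of_le hX inf_le_left (h.inv_inf_centralizer (le_normalizer_of_mem hX) hB.1))
    (hXq.to_le inf_le_left) hB fun b hb hb1 => h.part_le_cor hX hXq hc hc1 hcX hB le_rfl
      (h.inv_inf_centralizer (le_normalizer_of_mem hX) hB.1) hfix hb hb1
      (theta_mem h.functor (hB.1 hb) hb1) le_rfl

/-- `[X, c]` is generated by the commutators of its parts. -/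
theorem commutator_le_of_parts {q : ℕ} [Fact q.Prime] {X W : Subgroup G}
    (hX : X ∈ signalizerFamily p A θ) (hXq : IsPGroup q X) {c : G} (hc : c ∈ A)
    (hW : ∀ B, IsPoint p A B → ⁅⁅X, zpowers c⁆ ⊓ centralizer (B : Set G), zpowers c⁆ ≤ W) :
    ⁅X, zpowers c⁆ ≤ W := by
  set U := ⁅X, zpowers c⁆ with hU
  have hcA : zpowers c ≤ A := zpowers_le.mpr hc
  have hUX : U ≤ X := commutator_le_of_le_normalizer (hcA.trans (le_normalizer_of_mem hX))
  have hUA : A ≤ normalizer (U : Set G) := h.inv_commutator (le_normalizer_of_mem hX) hc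
  have hUm := mem_of_le hX hUX hUA
  have hUU : ⁅U, zpowers c⁆ = U := h.commutator_commutator hX hc
  set Φ := (frattini U).map U.subtype
  have := (hXq.to_le hUX).isNilpotent
  have hcomm : ⁅U, U⁆ ≤ Φ := by
    rw [← map_subtype_commutator]
    exact map_mono Core.commutator_le_frattini
  set W₁ := (W ⊓ U) ⊔ Φ with hW₁
  have hW₁U : W₁ ≤ U := sup_le inf_le_right (map_subtype_le _)
  have hn : U ≤ normalizer (W₁ : Set G) := by
    rw [le_normalizer_iff_commutator_le_left]
    exact ((commutator_mono hW₁U le_rfl).trans hcomm).trans le_sup_right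
  let T : Subgroup G :=
    { carrier := {x | x ∈ U ∧ ∀ b ∈ zpowers c, ⁅x, b⁆ ∈ W₁}
      one_mem' := ⟨one_mem _, fun b _ => by simp [commutatorElement_def]⟩
      mul_mem' := by
        rintro x y ⟨hx, hx'⟩ ⟨hy, hy'⟩
        refine ⟨U.mul_mem hx hy, fun b hb => ?_⟩
        have : ⁅x * y, b⁆ = x * ⁅y, b⁆ * x⁻¹ * ⁅x, b⁆ := by
          simp only [commutatorElement_def]; group
        rw [this]
        exact W₁.mul_mem ((mem_normalizer_iff.mp (hn hx) _).mp (hy' b hb)) (hx' b hb)
      inv_mem' := by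
        rintro x ⟨hx, hx'⟩
        refine ⟨U.inv_mem hx, fun b hb => ?_⟩
        have : ⁅x⁻¹, b⁆ = x⁻¹ * ⁅x, b⁆⁻¹ * x⁻¹⁻¹ := by
          simp only [commutatorElement_def]; group
        rw [this]
        exact (mem_normalizer_iff.mp (hn (U.inv_mem hx)) _).mp (W₁.inv_mem (hx' b hb)) }
  have hUT : U ≤ T := h.le_of_points hUm fun B hB x hx => ⟨hx.1, fun b hb => by
    have h1 : ⁅x, b⁆ ∈ ⁅U ⊓ centralizer (B : Set G), zpowers c⁆ := commutator_mem_commutator hx hb
    refine mem_sup_left ⟨hW B hB h1, ?_⟩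
    exact (commutator_mono inf_le_left le_rfl).trans hUU.le h1⟩
  have hUW : U ≤ W₁ := by
    conv_lhs => rw [← hUU]
    rw [commutator_le]
    exact fun x hx b hb => (hUT hx).2 b hb
  have htop : (W ⊓ U).subgroupOf U ⊔ frattini U = ⊤ := by
    apply map_injective U.subtype_injective
    rw [Subgroup.map_sup, map_subgroupOf_eq_of_le inf_le_right, ← MonoidHom.range_eq_map, range_subtype]
    exact le_antisymm hW₁U hUW
  exact (subgroupOf_eq_top.mp (frattini_nongenerating htop)).trans inf_le_left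

/-- For odd `q`, `[X, c]` lies below every bound for invariant global members. -/
theorem commutator_le_of_glob {q : ℕ} [Fact q.Prime] (hq2 : q ≠ 2) (hqp : q ≠ p) {X W : Subgroup G}
    (hX : X ∈ signalizerFamily p A θ) (hXD : signalizerInf A θ ≤ normalizer (X : Set G))
    (hXq : IsPGroup q X) {c : G} (hc : c ∈ A) (hc1 : c ≠ 1) (hcX : θ c ≤ normalizer (X : Set G))
    (hW : ∀ P, Glob p A θ q P → signalizerInf A θ ≤ normalizer (P : Set G) → P ≤ W) :
    ⁅X, zpowers c⁆ ≤ W := by
  refine h.commutator_le_of_parts hX hXq hc fun B hB => ?_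
  have hUX : ⁅X, zpowers c⁆ ≤ X :=
    commutator_le_of_le_normalizer ((zpowers_le.mpr hc : zpowers c ≤ A).trans (le_normalizer_of_mem hX))
  have hle : ⁅⁅X, zpowers c⁆ ⊓ centralizer (B : Set G), zpowers c⁆ ≤
      ⁅X ⊓ centralizer (B : Set G), zpowers c⁆ := commutator_mono (inf_le_inf_right _ hUX) le_rfl
  refine hle.trans (hW _ ?_ (h.dinv_commutator (h.dinv_inf_centralizer hXD hB.1) hc))
  have hA := h.inv_commutator (h.inv_inf_centralizer (le_normalizer_of_mem hX) hB.1) hc
  have hleX : ⁅X ⊓ centralizer (B : Set G), zpowers c⁆ ≤ X :=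
    (commutator_mono inf_le_left le_rfl).trans hUX
  exact h.glob_of_point (mem_of_le hX hleX hA) (hXq.to_le hleX) hB fun b hb hb1 =>
    h.commutator_part_le_cor hq2 hqp hX hXq hc hc1 hcX hB hb hb1 (theta_mem h.functor (hB.1 hb) hb1) le_rfl

/-- The line criterion for members. -/
theorem commutator_le_cor_lines {q : ℕ} [Fact q.Prime] {K P B : Subgroup G} {f : G}
    (hK : K ∈ signalizerFamily p A θ) (hPA : A ≤ normalizer (P : Set G)) (hPK : P ≤ K)
    (hP : IsPGroup q P) (hB : IsPoint p A B) (hf : f ∈ B)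
    (hw : ∀ g ∈ B, g ∉ zpowers f → ∃ M ∈ signalizerFamily p A θ, θ g ≤ M ∧ P ≤ Cor q M) :
    ⁅P, zpowers f⁆ ≤ Cor q K := by
  obtain ⟨g₀, hg₀, hg₀f, -⟩ := h.exists_mem_point_not_zpowers hB f
  refine commutator_le_cor_of_point hK.1 (h.coprime_card hK) (ea_mono h.ea hB.1)
    (hB.1.trans (le_normalizer_of_mem hK)) hf hg₀ hg₀f hPK hP (hPA (hB.1 hf)) fun g hg hgf => ?_
  have hg1 : g ≠ 1 := fun e => hgf (e ▸ one_mem _)
  obtain ⟨M, hM, hgM, hPM⟩ := hw g hg hgf
  refine ⟨K ⊓ Cor q M, le_inf hPK hPM, inf_le_left, (cor_isPGroup q).to_le inf_le_right, ?_⟩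
  exact le_normalizer_inf (inf_le_left.trans Subgroup.le_normalizer)
    (((inf_le_theta hK (hB.1 hg) hg1).trans hgM).trans (Subgroup.le_normalizer.trans (normalizer_le_cor q)))

/-- `⟨f⟩ × P` acting on a member of the same prime as `P`. -/
theorem centralizes_of_pxq {q : ℕ} [Fact q.Prime] (hqp : q ≠ p) {P S : Subgroup G} {f : G} (hf : f ∈ A)
    (hS : S ∈ signalizerFamily p A θ) (hSq : IsPGroup q S) (hPq : IsPGroup q P)
    (hPf : P ≤ centralizer {f}) (hPS : P ≤ normalizer (S : Set G))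
    (hfix : S ⊓ centralizer (P : Set G) ≤ centralizer {f}) : S ≤ centralizer {f} := by
  have hc : (Nat.card (zpowers f)).Coprime q := by
    rw [Nat.card_zpowers]
    exact ((Nat.coprime_primes Fact.out Fact.out).mpr hqp.symm).coprime_dvd_left
      (orderOf_dvd_of_pow_eq_one (h.ea.2 f hf))
  have := thompson_pxq hPq hc hSq (by rwa [FixedPointFree.centralizer_zpowers]) hPS
    ((zpowers_le.mpr hf : zpowers f ≤ A).trans (le_normalizer_of_mem hS))
    (by rwa [FixedPointFree.centralizer_zpowers])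
  rw [Subgroup.le_centralizer_iff, FixedPointFree.centralizer_zpowers] at this
  exact this

end Hyp

namespace IsMx

variable {M : Subgroup G}

theorem A_le (hM : IsMx p A θ M) : A ≤ normalizer (M : Set G) := le_normalizer_of_mem hM.mem

theorem le_normalizer_cor (hM : IsMx p A θ M) {V : Subgroup G} (hV : V ≤ M) (q : ℕ) :
    V ≤ normalizer (Cor q M : Set G) :=
  hV.trans (Subgroup.le_normalizer.trans (normalizer_le_cor q))

theorem dinv_cor (hM : IsMx p A θ M) (q : ℕ) :
    signalizerInf A θ ≤ normalizer (Cor q M : Set G) := hM.le_normalizer_cor hM.D_le q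

end IsMx

namespace Ctx

variable (C : Ctx p A θ)
include C

theorem le_cor_of_qr {K Y : Subgroup G} (hK : IsMx p A θ K) {q : ℕ} [Fact q.Prime] (hYK : Y ≤ K)
    (hY : IsPGroup q Y)
    (h : ∀ r : ℕ, r.Prime → r ≠ q → ∀ W ∈ signalizerFamily p A θ, W ≤ K →
      signalizerInf A θ ≤ normalizer (W : Set G) →
      (∀ s : ℕ, s.Prime → s ∣ Nat.card W → s = q ∨ s = r) →
        ∃ Q : Subgroup G, IsPGroup q Q ∧ ⁅Y, W⁆ ≤ Q) : Y ≤ Cor q K := by
  set N := normalizer (K : Set G)
  refine le_cor_of_layers hK.mem.1 hYK hY fun L y hy => ?_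
  set W := (L.V.comap L.f).map N.subtype
  have hWK : W ≤ K := by
    rintro _ ⟨x, hx, rfl⟩
    exact L.le x hx
  have hn : (⊤ : Subgroup N) ≤ normalizer (L.V.comap L.f : Set N) := by
    intro x _
    rw [mem_normalizer_iff]
    intro z
    simp only [mem_comap, map_mul, map_inv]
    exact mem_normalizer_iff.mp (L.normal x) _
  have hWn : N ≤ normalizer (W : Set G) := by
    refine le_trans ?_ (le_normalizer_map N.subtype)
    rw [top_le_iff.mp hn, ← MonoidHom.range_eq_map, range_subtype]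
  obtain ⟨Q, hQ, hle⟩ := h L.r L.prime L.ne W (mem_of_le hK.mem hWK ((le_normalizer_of_mem hK.mem).trans hWn))
    hWK (hK.D_le.trans (Subgroup.le_normalizer.trans hWn))
    (fun s hs hd => L.qr s hs (by rwa [card_map_of_injective N.subtype_injective] at hd))
  rw [mem_centralizer_iff]
  intro v hv
  obtain ⟨w, rfl⟩ := L.range hv
  symm
  rw [← commutatorElement_eq_one_iff_mul_comm, ← map_commutatorElement, ← mem_bot,
    ← Coprime.inf_eq_bot_of_coprime (L.coprime_img hQ)]
  refine ⟨mem_map_of_mem _ (show (⁅y, w⁆ : N) ∈ Q.subgroupOf N from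
    hle (commutator_mem_commutator hy (mem_map_of_mem N.subtype (show w ∈ L.V.comap L.f from hv)))), ?_⟩
  rw [map_commutatorElement, commutatorElement_def]
  exact L.V.mul_mem ((mem_normalizer_iff.mp (L.normal y) _).mp hv) (L.V.inv_mem hv)

theorem prime_ne {q : ℕ} [Fact q.Prime] {M : Subgroup G} (hM : M ∈ signalizerFamily p A θ)
    (hne : Cor q M ≠ ⊥) : q ≠ p := by
  rintro rfl
  obtain ⟨n, hn⟩ := IsPGroup.iff_card.mp (cor_isPGroup q : IsPGroup q (Cor q M))
  rcases Nat.eq_zero_or_pos n with rfl | hn0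
  · exact hne (Subgroup.card_eq_one.mp (by rwa [pow_zero] at hn))
  · exact hM.2.1 ((dvd_pow_self q hn0.ne').trans (hn ▸ card_dvd_of_le (cor_le q)))

theorem mem_primes_of_cor {q : ℕ} [Fact q.Prime] {M : Subgroup G} (hM : M ∈ signalizerFamily p A θ)
    (hne : Cor q M ≠ ⊥) : q ∈ primes A θ := by
  obtain ⟨n, hn⟩ := IsPGroup.iff_card.mp (cor_isPGroup q : IsPGroup q (Cor q M))
  rcases Nat.eq_zero_or_pos n with rfl | hn0
  · exact absurd (Subgroup.card_eq_one.mp (by rwa [pow_zero] at hn)) hne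
  · exact C.primes_of_member hM Fact.out ((dvd_pow_self q hn0.ne').trans (hn ▸ card_dvd_of_le (cor_le q)))

theorem le_of_centralizes_cor {M : Subgroup G} (hM : IsMx p A θ M) {q : ℕ} (hne : Cor q M ≠ ⊥)
    {V : Subgroup G} (hV : V ∈ signalizerFamily p A θ) (hn : V ≤ centralizer (Cor q M : Set G)) :
    V ≤ M :=
  C.le_of_normalizes_cor hM hne hV (hn.trans (centralizer_le_normalizer _))

/-- `C_V(O_q(M))` lies in `M`. -/
theorem inf_centralizer_cor_le {M : Subgroup G} (hM : IsMx p A θ M) {q : ℕ} (hne : Cor q M ≠ ⊥)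
    {V : Subgroup G} (hV : V ∈ signalizerFamily p A θ) :
    V ⊓ centralizer (Cor q M : Set G) ≤ M :=
  C.le_of_centralizes_cor hM hne (mem_of_le hV inf_le_left (le_normalizer_inf (le_normalizer_of_mem hV)
    (Coprime.le_normalizer_centralizer (hM.A_le.trans (normalizer_le_cor q))))) inf_le_right

/-- Two primes: a member of one of them normalised by both cores lies in the maximal member. -/
theorem cor_centralizes_of_normalizes {M : Subgroup G} (hM : IsMx p A θ M) {a b : ℕ} [Fact a.Prime]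
    [Fact b.Prime] (hab : a ≠ b) (ha : Cor a M ≠ ⊥) {P : Subgroup G} (hP : P ∈ signalizerFamily p A θ)
    (hPa : IsPGroup a P) (hna : Cor a M ≤ normalizer (P : Set G))
    (hnb : Cor b M ≤ normalizer (P : Set G)) : Cor b M ≤ centralizer (P : Set G) := by
  refine thompson_pxq (cor_isPGroup a) ?_ hPa ?_ hna hnb ?_
  · obtain ⟨n, hn⟩ := IsPGroup.iff_card.mp (cor_isPGroup b : IsPGroup b (Cor b M))
    rw [hn]
    exact ((Nat.coprime_primes Fact.out Fact.out).mpr hab.symm).pow_left n
  · intro x hx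
    exact mem_centralizer_iff.mpr fun y hy => (cor_commute hab x hx y hy).eq.symm
  · refine le_centralizer_of_mutual hab (hPa.to_le inf_le_left) (cor_isPGroup b)
      (hM.le_normalizer_cor (C.inf_centralizer_cor_le hM ha hP) b) ?_
    refine le_normalizer_inf hnb (le_trans ?_ Subgroup.le_normalizer)
    intro x hx
    exact mem_centralizer_iff.mpr fun y hy => (cor_commute hab y hy x hx).eq

theorem le_of_normalizes_two {M : Subgroup G} (hM : IsMx p A θ M) {a b : ℕ} [Fact a.Prime]
    [Fact b.Prime] (hab : a ≠ b) (ha : Cor a M ≠ ⊥) (hb : Cor b M ≠ ⊥) {P : Subgroup G}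
    (hP : P ∈ signalizerFamily p A θ) (hPa : IsPGroup a P) (hna : Cor a M ≤ normalizer (P : Set G))
    (hnb : Cor b M ≤ normalizer (P : Set G)) : P ≤ M :=
  C.le_of_centralizes_cor hM hb hP
    (Subgroup.le_centralizer_iff.mp (C.cor_centralizes_of_normalizes hM hab ha hP hPa hna hnb))

/-- An operator centralising the Fitting subgroup. -/
theorem eq_theta_of_centralizes {M : Subgroup G} (hM : IsMx p A θ M) {f : G} (hf : f ∈ A) (hf1 : f ≠ 1)
    (h : ∀ r : ℕ, r.Prime → Cor r M ≤ centralizer {f}) : M = θ f := by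
  have hF : Ftg M ≤ centralizer {f} := ftg_le_of_cor h
  have hfM : f ∈ normalizer (M : Set G) := hM.A_le hf
  have hcen : ⁅M, zpowers f⁆ ≤ Ftg M := by
    have hle : ⁅M, zpowers f⁆ ≤ M := commutator_le_of_le_normalizer (zpowers_le.mpr hfM)
    intro x hx
    refine centralizer_ftg_le hM.mem.1 (hle hx) fun y hy => ?_
    have h1 : ⁅M, zpowers f⁆ ≤ centralizer (Ftg M : Set G) := by
      rw [commutator_le]
      intro m hm b hb
      have hb' : b ∈ centralizer (Ftg M : Set G) :=
        zpowers_le.mpr (le_centralizer_singleton_comm.mp hF) hb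
      have hmn : m ∈ normalizer (centralizer (Ftg M : Set G) : Set G) :=
        Coprime.le_normalizer_centralizer (Subgroup.le_normalizer.trans normalizer_le_ftg) hm
      rw [commutatorElement_def]
      exact Subgroup.mul_mem _ ((mem_normalizer_iff.mp hmn _).mp hb') (inv_mem hb')
    exact mem_centralizer_iff.mp (h1 hx) y hy
  have hMf : M ≤ centralizer {f} :=
    C.centralizes_of_commutator_le hM.mem hf (hcen.trans hF)
  exact (hM.max _ (theta_mem C.functor hf hf1) (C.le_theta_of_centralizes hM.mem hf hf1 hMf)).symm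

/-- An operator on `M` centralising `O_w(M)` centralises the `w`-members normalised by `F(M)`. -/
theorem centralizes_member {M : Subgroup G} (hM : IsMx p A θ M) {f : G} (hf : f ∈ A) {w : ℕ}
    [Fact w.Prime] (hw : Cor w M ≠ ⊥) (hwf : Cor w M ≤ centralizer {f}) {Y : Subgroup G}
    (hY : Y ∈ signalizerFamily p A θ) (hYw : IsPGroup w Y)
    (hn : ∀ r : ℕ, r.Prime → Cor r M ≤ normalizer (Y : Set G)) : Y ≤ centralizer {f} := by
  refine C.centralizes_of_pxq (C.prime_ne hM.mem hw) hf hY hYw (cor_isPGroup w) hwf (hn w Fact.out) ?_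
  set Y₀ := Y ⊓ centralizer (Cor w M : Set G)
  have hY₀A : A ≤ normalizer (Y₀ : Set G) := le_normalizer_inf (le_normalizer_of_mem hY)
    (Coprime.le_normalizer_centralizer (hM.A_le.trans (normalizer_le_cor w)))
  have hY₀ := mem_of_le hY inf_le_left hY₀A
  have hY₀M : Y₀ ≤ M := C.inf_centralizer_cor_le hM hw hY
  refine C.centralizes_of_commutator_le hY₀ hf ?_
  have hle : ⁅Y₀, zpowers f⁆ ≤ Y₀ := commutator_le_of_le_normalizer
    ((zpowers_le.mpr hf : zpowers f ≤ A).trans hY₀A)
  refine le_trans (le_trans ?_ (le_refl (Cor w M))) hwf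
  refine le_cor_of_le_ftg (hYw.to_le (hle.trans inf_le_left)) fun x hx => ?_
  refine centralizer_ftg_le hM.mem.1 (hY₀M (hle hx)) ?_
  have h1 : Ftg M ≤ centralizer (Y₀ : Set G) := ftg_le_of_cor fun r hr => by
    have := Fact.mk hr
    rcases eq_or_ne r w with rfl | hrw
    · exact Subgroup.le_centralizer_iff.mp inf_le_right
    · refine le_centralizer_of_mutual hrw (cor_isPGroup r) (hYw.to_le inf_le_left) ?_
        (hM.le_normalizer_cor hY₀M r)
      refine le_normalizer_inf (hn r hr) (le_trans ?_ Subgroup.le_normalizer)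
      intro z hz
      exact mem_centralizer_iff.mpr fun y hy => (cor_commute hrw z hz y hy).eq.symm
  intro y hy
  exact (mem_centralizer_iff.mp (h1 hy) x (hle hx)).symm

/-- An isolated operator centralises the whole greatest member of each of its primes. -/
theorem centralizes_gr {f : G} (hf : f ∈ A) (hf1 : f ≠ 1) (hM : IsMx p A θ (θ f)) {t : ℕ}
    [Fact t.Prime] (ht : Cor t (θ f) ≠ ⊥) (h2 : ∃ r ∈ primes A θ, r ≠ t) :
    gr p A θ {t} ≤ centralizer {f} := by
  obtain ⟨r, hr, hrt⟩ := h2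
  obtain ⟨hS, -, hSt⟩ := C.gr_spec (π := {t}) ⟨r, hr, hrt⟩
  have hSp : IsPGroup t (gr p A θ {t}) := IsPGroup.of_card
    (n := (Nat.card (gr p A θ {t})).primeFactorsList.length)
    (Nat.eq_prime_pow_of_unique_prime_dvd Nat.card_pos.ne' fun hd hdd => hSt _ hd hdd)
  have hle : Cor t (θ f) ≤ gr p A θ {t} := by
    refine le_gr (C.cor_mem hM.mem t) (hM.dinv_cor t) fun s hs hd => ?_
    obtain ⟨n, hn⟩ := IsPGroup.iff_card.mp (cor_isPGroup t : IsPGroup t (Cor t (θ f)))
    rw [hn] at hd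
    exact (Nat.prime_dvd_prime_iff_eq hs Fact.out).mp (hs.dvd_of_dvd_pow hd)
  exact C.centralizes_of_pxq (C.prime_ne hM.mem ht) hf hS hSp (cor_isPGroup t)
    ((cor_le t).trans (theta_le_centralizer C.functor hf hf1)) (hle.trans Subgroup.le_normalizer)
    ((C.inf_centralizer_cor_le hM ht hS).trans (theta_le_centralizer C.functor hf hf1))

/-- Bender's comparison of two maximal members. -/
theorem eq_of_cores_le {M L : Subgroup G} (hM : IsMx p A θ M) (hL : IsMx p A θ L)
    (hML : ∀ r : ℕ, r.Prime → Cor r M ≤ L) (hLM : ∀ r : ℕ, r.Prime → Cor r L ≤ M)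
    {a b : ℕ} [Fact a.Prime] [Fact b.Prime] (hab : a ≠ b) (ha : Cor a M ≠ ⊥) (hb : Cor b M ≠ ⊥) :
    M = L := by
  have step2 : ∀ {M L : Subgroup G}, IsMx p A θ M → IsMx p A θ L →
      (∀ r : ℕ, r.Prime → Cor r M ≤ L) → (∀ r : ℕ, r.Prime → Cor r L ≤ M) →
      ∀ c : ℕ, c.Prime → Cor c L ≠ ⊥ → Cor c M ≠ ⊥ := by
    intro M L hM hL hML hLM c hc hne hbot
    have := Fact.mk hc
    refine hne (le_bot_iff.mp (le_trans (le_cor_of_le_ftg (cor_isPGroup c) fun x hx => ?_) hbot.le))
    refine centralizer_ftg_le hM.mem.1 (hLM c hc hx) ?_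
    have h1 : Ftg M ≤ centralizer (Cor c L : Set G) := ftg_le_of_cor fun r hr => by
      have := Fact.mk hr
      rcases eq_or_ne r c with rfl | hrc
      · rw [hbot]; exact bot_le
      · exact le_centralizer_of_mutual hrc (cor_isPGroup r) (cor_isPGroup c)
          (hL.le_normalizer_cor (hML r hr) c) (hM.le_normalizer_cor (hLM c hc) r)
    exact fun y hy => (mem_centralizer_iff.mp (h1 hy) x hx).symm
  have main : ∀ {M L : Subgroup G}, IsMx p A θ M → IsMx p A θ L →
      (∀ r : ℕ, r.Prime → Cor r M ≤ L) → (∀ r : ℕ, r.Prime → Cor r L ≤ M) →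
      ∀ a b : ℕ, a.Prime → b.Prime → a ≠ b → Cor b L ≠ ⊥ → Cor a L ≤ Cor a M := by
    intro M L hM hL hML hLM a b ha hb hab hbL
    have := Fact.mk ha
    have := Fact.mk hb
    let H : ℕ → Subgroup G := fun a => (⨅ c : {c : Nat.Primes // (c : ℕ) ≠ a ∧ Cor (c : ℕ) M ≠ ⊥},
      Cfsg.pPrimeCore (c : ℕ) M).map M.subtype
    have hHM : ∀ a, H a ≤ M := fun a => map_subtype_le _
    have hHn : ∀ a, M ≤ normalizer (H a : Set G) := fun a => by
      have : (⨅ c : {c : Nat.Primes // (c : ℕ) ≠ a ∧ Cor (c : ℕ) M ≠ ⊥},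
          Cfsg.pPrimeCore (c : ℕ) M).Normal := Subgroup.normal_iInf_normal fun c => inferInstance
      refine le_trans ?_ (le_normalizer_map M.subtype)
      rw [normalizer_eq_top_iff.mpr this, ← MonoidHom.range_eq_map, range_subtype]
    have hHA : ∀ a, A ≤ normalizer (H a : Set G) := fun a => by
      refine le_normalizer_iff_conj.mpr ?_
      rintro g hg _ ⟨x, hx, rfl⟩
      refine ⟨M.normalizerMonoidHom ⟨g, hM.A_le hg⟩ x, mem_iInf.mpr fun c => ?_, rfl⟩
      exact Core.map_pPrimeCore_le _ (mem_map_of_mem _ (mem_iInf.mp hx c))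
    have hle : ∀ a, a.Prime → Cor a L ≤ H a := fun a ha x hx => by
      have := Fact.mk ha
      refine ⟨⟨x, hLM a ha hx⟩, mem_iInf.mpr fun c => ?_, rfl⟩
      have := Fact.mk c.1.2
      have hcL : Cor (c : ℕ) L ≠ ⊥ := step2 hL hM hLM hML _ c.1.2 c.2.2
      have h1 := le_pPrimeCore_of_centralizes (c := (c : ℕ)) hM.mem.1 (hLM _ c.1.2) (cor_isPGroup _)
        (hLM a ha) ?_ (fun y hy => mem_centralizer_iff.mpr fun z hz => (cor_commute c.2.1 z hz y hy).eq)
        (hL.le_normalizer_cor (C.inf_centralizer_cor_le hL hcL hM.mem) a)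
      · obtain ⟨y, hy, e⟩ := h1 hx
        exact (Subtype.ext e : y = ⟨x, hLM a ha hx⟩) ▸ hy
      · obtain ⟨n, hn⟩ := IsPGroup.iff_card.mp (cor_isPGroup a : IsPGroup a (Cor a L))
        rw [hn]
        exact ((Nat.coprime_primes ha c.1.2).mpr (Ne.symm c.2.1)).pow_left n
    have hinf : H a ⊓ H b = ⊥ := by
      by_contra hne
      obtain ⟨e, he, X, hXle, hX1, hXe, hXn⟩ := exists_normal_pSubgroup_le
        (le_normalizer_inf (hHn a) (hHn b))
        (isSolvable_of_le (inf_le_left.trans (hHM a)) hM.mem.1) hne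
      have := Fact.mk he
      have hXc : X ≤ Cor e M := le_cor (hXle.trans (inf_le_left.trans (hHM a)))
        (le_sup_right.trans hXn) hXe
      have hecor : Cor e M ≠ ⊥ := fun h0 => hX1 (le_bot_iff.mp (hXc.trans h0.le))
      obtain ⟨d, hXd, hed⟩ : ∃ d, X ≤ H d ∧ e ≠ d := by
        rcases eq_or_ne e a with rfl | h1
        · exact ⟨b, hXle.trans inf_le_right, hab⟩
        · exact ⟨a, hXle.trans inf_le_left, h1⟩
      have h2 : X ≤ (Cfsg.pPrimeCore e M).map M.subtype := hXd.trans (map_mono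
        (iInf_le (fun c : {c : Nat.Primes // (c : ℕ) ≠ d ∧ Cor (c : ℕ) M ≠ ⊥} =>
          Cfsg.pPrimeCore (c : ℕ) M) ⟨⟨e, he⟩, hed, hecor⟩))
      obtain ⟨n, hn⟩ := IsPGroup.iff_card.mp hXe
      rcases Nat.eq_zero_or_pos n with rfl | hn0
      · exact hX1 (Subgroup.card_eq_one.mp (by rwa [pow_zero] at hn))
      · refine Core.not_dvd_card_pPrimeCore (p := e) (G := M) ?_
        refine (dvd_pow_self e hn0.ne').trans (hn ▸ ?_)
        exact (card_dvd_of_le h2).trans (card_map_of_injective M.subtype_injective).dvd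
    have hcomm : H a ≤ centralizer (H b : Set G) := by
      rw [← commutator_eq_bot_iff_le_centralizer, eq_bot_iff, ← hinf]
      refine le_inf (commutator_le_of_le_normalizer ((hHM b).trans (hHn a))) ?_
      rw [commutator_comm]
      exact commutator_le_of_le_normalizer ((hHM a).trans (hHn b))
    have hHL : H a ≤ L := C.le_of_centralizes_cor hL hbL (mem_of_le hM.mem (hHM a) (hHA a))
      (hcomm.trans (centralizer_le (hle b hb)))
    have h1 : Cor a L ≤ Cor a (H a) := le_cor (hle a ha) (hL.le_normalizer_cor hHL a) (cor_isPGroup a)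
    exact h1.trans (le_cor ((cor_le a).trans (hHM a)) ((hHn a).trans (normalizer_le_cor a)) (cor_isPGroup a))
  obtain ⟨d, hd, hda, hdM⟩ : ∃ d : ℕ, d.Prime ∧ d ≠ a ∧ Cor d M ≠ ⊥ := ⟨b, Fact.out, hab.symm, hb⟩
  have hdL := step2 hL hM hLM hML d hd hdM
  have heq : Cor a M = Cor a L := le_antisymm (main hL hM hLM hML a d Fact.out hd hda.symm hdM)
    (main hM hL hML hLM a d Fact.out hd hda.symm hdL)
  have haL := step2 hL hM hLM hML a Fact.out ha
  have h1 : M ≤ L := C.le_of_normalizes_cor hL haL hM.mem (heq ▸ hM.le_normalizer_cor le_rfl a)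
  exact (hM.max L hL.mem h1).symm

end Ctx

end Cfsg.Agent.Signalizer
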