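import Cfsg.Agent.Signalizer.ThreeCores

/-!
The solvable signalizer functor theorem with two primes: a mixed maximal member.
-/

set_option autoImplicit false
set_option linter.unusedSectionVars false

open Subgroup
open scoped Pointwise commutatorElement

namespace Cfsg.Agent.Signalizer

open Cfsg Cfsg.Agent.Coprime Cfsg.Agent.AbCentFpf

universe u

variable {G : Type u} [Group G] [Finite G] {p : ℕ} [Fact p.Prime] {A : Subgroup G} {θ : G → Subgroup G}

/-- A minimal counterexample with two primes. -/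
structure Ctx2 (p : ℕ) (A : Subgroup G) (θ : G → Subgroup G) (q r : ℕ) : Prop extends Ctx p A θ where
  mem_q : q ∈ primes A θ
  mem_r : r ∈ primes A θ
  ne : q ≠ r
  only : ∀ s ∈ primes A θ, s = q ∨ s = r

/-- A point all of whose part lies in `M`. -/
def GoodPoint (θ : G → Subgroup G) (M B : Subgroup G) : Prop := signalizerInf B θ ≤ M

/-- A maximal member with two nontrivial cores. -/
structure Ctx2M (p : ℕ) (A : Subgroup G) (θ : G → Subgroup G) (q r : ℕ) (M : Subgroup G) : Prop
    extends Ctx2 p A θ q r where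
  mx : IsMx p A θ M
  hX : Cor q M ≠ ⊥
  hY : Cor r M ≠ ⊥

/-- Some part of `O_q(M)` is global. -/
def HasGlobalPart (p : ℕ) (A : Subgroup G) (θ : G → Subgroup G) (q : ℕ) (M : Subgroup G) : Prop :=
  ∃ B c, IsPoint p A B ∧ Cor q M ⊓ centralizer (B : Set G) ≠ ⊥ ∧ c ∈ A ∧ c ∉ B ∧ θ c ≤ M

/-- The point has a line centralising `O_q(M)`. -/
def HasCentralLine (q : ℕ) (M B : Subgroup G) : Prop :=
  ∃ x ∈ B, x ≠ 1 ∧ Cor q M ≤ centralizer {x}

theorem not_centralizer_eq_bot {q : ℕ} [Fact q.Prime] {S Y : Subgroup G} (hS : IsPGroup q S)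
    (hY : IsPGroup q Y) (hne : Y ≠ ⊥) (hn : S ≤ normalizer (Y : Set G)) :
    Y ⊓ centralizer (S : Set G) ≠ ⊥ := by
  intro h
  have hc := FixedPointFree.coprime_of_fixed Fact.out hS hn h
  obtain ⟨i, hi⟩ := IsPGroup.iff_card.mp hS
  obtain ⟨j, hj⟩ := IsPGroup.iff_card.mp hY
  have hj0 : j ≠ 0 := by
    rintro rfl
    exact hne (Subgroup.card_eq_one.mp (by rwa [pow_zero] at hj))
  rcases Nat.eq_zero_or_pos i with rfl | hi0
  · rw [pow_zero] at hi
    rw [Subgroup.card_eq_one.mp hi] at h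
    refine hne (le_bot_iff.mp (le_trans (le_inf le_rfl fun y _ => ?_) h.le))
    rw [mem_centralizer_iff]
    intro z hz
    rw [mem_bot.mp hz, one_mul, mul_one]
  · rw [hi, hj] at hc
    exact Nat.not_coprime_of_dvd_of_dvd (Fact.out : q.Prime).one_lt (dvd_pow_self q hi0.ne')
      (dvd_pow_self q hj0) hc

namespace Ctx2

variable {q r : ℕ} (C : Ctx2 p A θ q r)
include C

theorem symm : Ctx2 p A θ r q :=
  ⟨C.toCtx, C.mem_r, C.mem_q, C.ne.symm, fun s hs => (C.only s hs).symm⟩

theorem fact_q : Fact q.Prime := ⟨C.mem_q.1⟩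

theorem fact_r : Fact r.Prime := ⟨C.mem_r.1⟩

theorem eq_or_eq {M : Subgroup G} (hM : M ∈ signalizerFamily p A θ) {s : ℕ} (hs : s.Prime)
    (hne : Cor s M ≠ ⊥) : s = q ∨ s = r :=
  haveI := Fact.mk hs
  C.only s (C.mem_primes_of_cor hM hne)

theorem cor_le_of (P : Subgroup G) {M : Subgroup G} (hM : M ∈ signalizerFamily p A θ)
    (hq : Cor q M ≤ P) (hr : Cor r M ≤ P) {s : ℕ} (hs : s.Prime) : Cor s M ≤ P := by
  by_cases hne : Cor s M = ⊥
  · rw [hne]; exact bot_le
  rcases C.eq_or_eq hM hs hne with rfl | rfl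
  exacts [hq, hr]

/-- With two primes, a `q`-group centralising an `r`-group with invariance lies in the `q`-core. -/
theorem le_cor_of_centralizes_other {K R Y : Subgroup G} (hK : K ∈ signalizerFamily p A θ) (hRK : R ≤ K)
    (hR : IsPGroup r R) (hYK : Y ≤ K) (hY : IsPGroup q Y) (hYR : Y ≤ centralizer (R : Set G))
    (hn : K ⊓ centralizer (R : Set G) ≤ normalizer (Y : Set G)) : Y ≤ Cor q K := by
  have := C.fact_q
  have := C.fact_r
  have hc : (Nat.card Y).Coprime r := by
    obtain ⟨i, hi⟩ := IsPGroup.iff_card.mp hY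
    rw [hi]
    exact ((Nat.coprime_primes Fact.out Fact.out).mpr C.ne).pow_left i
  refine (le_pPrimeCore_of_centralizes hK.1 hRK hR hYK hc hYR hn).trans (map_mono (Core.le_pCore ?_))
  refine IsPGroup.of_card (n := (Nat.card (Cfsg.pPrimeCore r K)).primeFactorsList.length)
    (Nat.eq_prime_pow_of_unique_prime_dvd Nat.card_pos.ne' fun {s} hs hd => ?_)
  refine (C.only s (C.primes_of_member hK hs (hd.trans (card_subgroup_dvd_card _)))).resolve_right ?_
  rintro rfl
  exact Core.not_dvd_card_pPrimeCore hd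

end Ctx2

namespace Ctx2M

variable {q r : ℕ} {M : Subgroup G} (C : Ctx2M p A θ q r M)
include C

theorem symm : Ctx2M p A θ r q M := ⟨C.toCtx2.symm, C.mx, C.hY, C.hX⟩

theorem cor_commute' : Cor q M ≤ centralizer (Cor r M : Set G) := by
  have := C.fact_q
  have := C.fact_r
  exact fun x hx => mem_centralizer_iff.mpr fun y hy => (cor_commute C.ne x hx y hy).eq.symm

/-- A maximal member meeting both cores in a bigger part controls smaller ones. -/
theorem meet_aux (n : ℕ) : ∀ U ∈ signalizerFamily p A θ, U ⊓ Cor q M ≠ ⊥ → U ⊓ Cor r M ≠ ⊥ →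
    Nat.card G * Nat.card G - Nat.card (U ⊓ Cor q M : Subgroup G) * Nat.card (U ⊓ Cor r M : Subgroup G) = n →
    U ≤ M := by
  have := C.fact_q
  have := C.fact_r
  induction n using Nat.strong_induction_on with
  | _ n ih =>
  intro U₀ hU₀ hq₀ hr₀ hn
  obtain ⟨U, ⟨hU, hle₀⟩, hmax⟩ := wellFounded_gt.has_min
    {V : Subgroup G | V ∈ signalizerFamily p A θ ∧ U₀ ≤ V} ⟨U₀, hU₀, le_rfl⟩
  have hUmax : ∀ V ∈ signalizerFamily p A θ, U ≤ V → V = U := fun V hV hle =>
    (eq_of_le_of_not_lt hle fun hlt => hmax V ⟨hV, hle₀.trans hle⟩ hlt).symm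
  refine hle₀.trans ?_
  set X := Cor q M
  set Y := Cor r M
  set Q₀ := U ⊓ X with hQ₀
  set R₀ := U ⊓ Y with hR₀
  have hXm : X ∈ signalizerFamily p A θ := C.cor_mem C.mx.mem q
  have hYm : Y ∈ signalizerFamily p A θ := C.cor_mem C.mx.mem r
  have hQm : Q₀ ∈ signalizerFamily p A θ :=
    mem_of_le hU inf_le_left (le_normalizer_inf (le_normalizer_of_mem hU) (le_normalizer_of_mem hXm))
  have hRm : R₀ ∈ signalizerFamily p A θ :=
    mem_of_le hU inf_le_left (le_normalizer_inf (le_normalizer_of_mem hU) (le_normalizer_of_mem hYm))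
  have hQ1 : Q₀ ≠ ⊥ := fun h => hq₀ (le_bot_iff.mp ((inf_le_inf_right _ hle₀).trans h.le))
  have hR1 : R₀ ≠ ⊥ := fun h => hr₀ (le_bot_iff.mp ((inf_le_inf_right _ hle₀).trans h.le))
  have hXY : X ≤ centralizer (Y : Set G) := C.cor_commute'
  have hbig : Nat.card (U₀ ⊓ X : Subgroup G) * Nat.card (U₀ ⊓ Y : Subgroup G) ≤
      Nat.card Q₀ * Nat.card R₀ := Nat.mul_le_mul (card_le_of_le (inf_le_inf_right _ hle₀))
    (card_le_of_le (inf_le_inf_right _ hle₀))
  have hbound : ∀ V : Subgroup G,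
      Nat.card (V ⊓ X : Subgroup G) * Nat.card (V ⊓ Y : Subgroup G) ≤ Nat.card G * Nat.card G := fun V =>
    Nat.mul_le_mul (Subgroup.card_le_card_group _) (Subgroup.card_le_card_group _)
  -- both normalisers lie in `M`
  have hNQ : ∀ V ∈ signalizerFamily p A θ, V ≤ normalizer (Q₀ : Set G) → V ≤ M := by
    intro V hV hVn
    by_cases hXQ : Q₀ = X
    · exact C.le_of_normalizes_cor C.mx C.hX hV (by rwa [hXQ] at hVn)
    refine (le_nrm hV hVn).trans ?_
    obtain ⟨hN, -⟩ := C.nrm_spec hQm hQ1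
    set N := nrm p A θ Q₀
    have hYN : Y ≤ N := le_nrm hYm ((Subgroup.le_centralizer_iff.mp hXY).trans
      ((centralizer_le (inf_le_right : Q₀ ≤ X)).trans (centralizer_le_normalizer _)))
    have hXN : X ⊓ normalizer (Q₀ : Set G) ≤ N := le_nrm (mem_of_le hXm inf_le_left
      (le_normalizer_inf (le_normalizer_of_mem hXm) ((le_normalizer_of_mem hQm).trans Subgroup.le_normalizer)))
      inf_le_right
    have hQX : Q₀ < N ⊓ X := by
      refine lt_of_le_of_ne (le_inf ((le_inf inf_le_right Subgroup.le_normalizer).trans hXN) inf_le_right) ?_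
      intro he
      have hXQ' : X ≤ Q₀ := le_of_normalizer_inf_le (cor_isPGroup q) ((cor_isPGroup q).to_le inf_le_right)
        ((inf_le_right : Q₀ ≤ X).trans Subgroup.le_normalizer)
        ((le_inf hXN inf_le_left).trans he.ge)
      exact hXQ (le_antisymm inf_le_right hXQ')
    have hlt : Nat.card Q₀ < Nat.card (N ⊓ X : Subgroup G) :=
      SetLike.coe_sort_coe Q₀ ▸ Set.Finite.card_lt_card (Set.toFinite _) (SetLike.coe_ssubset_coe.mpr hQX)
    have hNY : Nat.card R₀ ≤ Nat.card (N ⊓ Y : Subgroup G) :=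
      card_le_of_le (le_inf (inf_le_right.trans hYN) inf_le_right)
    have hgt : Nat.card Q₀ * Nat.card R₀ < Nat.card (N ⊓ X : Subgroup G) * Nat.card (N ⊓ Y : Subgroup G) :=
      Nat.mul_lt_mul_of_lt_of_le hlt hNY Nat.card_pos
    refine ih _ ?_ N hN (fun h => ?_) (fun h => C.hY (le_bot_iff.mp ((le_inf hYN le_rfl).trans h.le))) rfl
    · rw [← hn]
      have := hbound N
      omega
    · rw [h] at hQX
      exact not_lt_bot hQX
  have hNR : ∀ V ∈ signalizerFamily p A θ, V ≤ normalizer (R₀ : Set G) → V ≤ M := by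
    intro V hV hVn
    by_cases hYR : R₀ = Y
    · exact C.le_of_normalizes_cor C.mx C.hY hV (by rwa [hYR] at hVn)
    refine (le_nrm hV hVn).trans ?_
    obtain ⟨hN, -⟩ := C.nrm_spec hRm hR1
    set N := nrm p A θ R₀
    have hXN : X ≤ N := le_nrm hXm
      (hXY.trans ((centralizer_le (inf_le_right : R₀ ≤ Y)).trans (centralizer_le_normalizer _)))
    have hYN : Y ⊓ normalizer (R₀ : Set G) ≤ N := le_nrm (mem_of_le hYm inf_le_left
      (le_normalizer_inf (le_normalizer_of_mem hYm) ((le_normalizer_of_mem hRm).trans Subgroup.le_normalizer)))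
      inf_le_right
    have hRY : R₀ < N ⊓ Y := by
      refine lt_of_le_of_ne (le_inf ((le_inf inf_le_right Subgroup.le_normalizer).trans hYN) inf_le_right) ?_
      intro he
      have hYR' : Y ≤ R₀ := le_of_normalizer_inf_le (cor_isPGroup r) ((cor_isPGroup r).to_le inf_le_right)
        ((inf_le_right : R₀ ≤ Y).trans Subgroup.le_normalizer)
        ((le_inf hYN inf_le_left).trans he.ge)
      exact hYR (le_antisymm inf_le_right hYR')
    have hlt : Nat.card R₀ < Nat.card (N ⊓ Y : Subgroup G) :=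
      SetLike.coe_sort_coe R₀ ▸ Set.Finite.card_lt_card (Set.toFinite _) (SetLike.coe_ssubset_coe.mpr hRY)
    have hNX : Nat.card Q₀ ≤ Nat.card (N ⊓ X : Subgroup G) :=
      card_le_of_le (le_inf (inf_le_right.trans hXN) inf_le_right)
    have hgt : Nat.card Q₀ * Nat.card R₀ < Nat.card (N ⊓ X : Subgroup G) * Nat.card (N ⊓ Y : Subgroup G) :=
      Nat.mul_lt_mul_of_le_of_lt hNX hlt Nat.card_pos
    refine ih _ ?_ N hN (fun h => C.hX (le_bot_iff.mp ((le_inf hXN le_rfl).trans h.le))) (fun h => ?_) rfl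
    · rw [← hn]
      have := hbound N
      omega
    · rw [h] at hRY
      exact not_lt_bot hRY
  have hQU : Q₀ ≤ Cor q U := C.le_cor_of_centralizes_other hU inf_le_left
    ((cor_isPGroup r).to_le inf_le_right) inf_le_left ((cor_isPGroup q).to_le inf_le_right)
    ((inf_le_right : Q₀ ≤ X).trans (hXY.trans (centralizer_le (inf_le_right : R₀ ≤ Y)))) (by
      refine le_normalizer_inf (inf_le_left.trans Subgroup.le_normalizer) (C.mx.le_normalizer_cor ?_ q)
      exact hNR _ (mem_of_le hU inf_le_left (le_normalizer_inf (le_normalizer_of_mem hU)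
        (Coprime.le_normalizer_centralizer (le_normalizer_of_mem hRm))))
        (inf_le_right.trans (centralizer_le_normalizer _)))
  have hRU : R₀ ≤ Cor r U := C.toCtx2.symm.le_cor_of_centralizes_other hU inf_le_left
    ((cor_isPGroup q).to_le inf_le_right) inf_le_left ((cor_isPGroup r).to_le inf_le_right)
    ((inf_le_right : R₀ ≤ Y).trans ((Subgroup.le_centralizer_iff.mp hXY).trans
      (centralizer_le (inf_le_right : Q₀ ≤ X)))) (by
      refine le_normalizer_inf (inf_le_left.trans Subgroup.le_normalizer) (C.mx.le_normalizer_cor ?_ r)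
      exact hNQ _ (mem_of_le hU inf_le_left (le_normalizer_inf (le_normalizer_of_mem hU)
        (Coprime.le_normalizer_centralizer (le_normalizer_of_mem hQm))))
        (inf_le_right.trans (centralizer_le_normalizer _)))
  have hqU : Cor q U ≤ M := hNR _ (C.cor_mem hU q) (le_trans (fun x hx => mem_centralizer_iff.mpr
    fun y hy => (cor_commute C.ne x hx y (hRU hy)).eq.symm) (centralizer_le_normalizer _))
  have hrU : Cor r U ≤ M := hNQ _ (C.cor_mem hU r) (le_trans (fun x hx => mem_centralizer_iff.mpr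
    fun y hy => (cor_commute C.ne.symm x hx y (hQU hy)).eq.symm) (centralizer_le_normalizer _))
  have hnU : ∀ {s : ℕ}, Cor s U ≠ ⊥ → ∀ V ∈ signalizerFamily p A θ,
      V ≤ normalizer (Cor s U : Set G) → V ≤ U := fun {s} hne V hV hVn =>
    (le_nrm hV hVn).trans (hUmax _ (C.nrm_mem (C.cor_mem hU s) hne)
      (le_nrm hU (Subgroup.le_normalizer.trans (normalizer_le_cor s)))).le
  have hUr1 : Cor r U ≠ ⊥ := fun h => hR1 (le_bot_iff.mp (hRU.trans h.le))
  -- `O_q(U) = X`
  have hCr : M ⊓ centralizer (Cor r U : Set G) ≤ U :=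
    hnU hUr1 _ (mem_of_le C.mx.mem inf_le_left (le_normalizer_inf C.mx.A_le
      (Coprime.le_normalizer_centralizer ((le_normalizer_of_mem hU).trans (normalizer_le_cor r)))))
      (inf_le_right.trans (centralizer_le_normalizer _))
  have h1 : Cor q U ≤ X := C.le_cor_of_centralizes_other C.mx.mem hrU (cor_isPGroup r) hqU (cor_isPGroup q)
    (fun x hx => mem_centralizer_iff.mpr fun y hy => (cor_commute C.ne x hx y hy).eq.symm)
    (hCr.trans (Subgroup.le_normalizer.trans (normalizer_le_cor q)))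
  have h2 : X ≤ Cor q U := by
    have hXU : X ≤ U := by
      refine hnU hUr1 X hXm (le_trans ?_ (centralizer_le_normalizer _))
      rw [Subgroup.le_centralizer_iff]
      refine thompson_pxq (cor_isPGroup q : IsPGroup q (Cor q U)) ?_ (cor_isPGroup q)
        (fun x hx => mem_centralizer_iff.mpr fun y hy => (cor_commute C.ne x hx y hy).eq.symm)
        (C.mx.le_normalizer_cor hqU q) (C.mx.le_normalizer_cor hrU q) ?_
      · obtain ⟨n, hn⟩ := IsPGroup.iff_card.mp (cor_isPGroup r : IsPGroup r (Cor r U))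
        rw [hn]
        exact ((Nat.coprime_primes Fact.out Fact.out).mpr C.ne.symm).pow_left n
      · have hUq1 : Cor q U ≠ ⊥ := fun h => hQ1 (le_bot_iff.mp (hQU.trans h.le))
        have hle : X ⊓ centralizer (Cor q U : Set G) ≤ U := hnU hUq1 _
          (mem_of_le hXm inf_le_left (le_normalizer_inf (le_normalizer_of_mem hXm)
            (Coprime.le_normalizer_centralizer ((le_normalizer_of_mem hU).trans (normalizer_le_cor q)))))
          (inf_le_right.trans (centralizer_le_normalizer _))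
        exact ((le_inf hle inf_le_left).trans hQU).trans fun x hx =>
          mem_centralizer_iff.mpr fun y hy => (cor_commute C.ne x hx y hy).eq.symm
    exact (le_inf hXU le_rfl).trans hQU
  have heq : Cor q U = X := le_antisymm h1 h2
  have hn' : U ≤ normalizer (Cor q U : Set G) := Subgroup.le_normalizer.trans (normalizer_le_cor q)
  exact C.le_of_normalizes_cor C.mx C.hX hU (by rwa [heq] at hn')

/-- A member meeting both cores lies in `M`. -/
theorem le_of_meets {U : Subgroup G} (hU : U ∈ signalizerFamily p A θ) (hq : U ⊓ Cor q M ≠ ⊥)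
    (hr : U ⊓ Cor r M ≠ ⊥) : U ≤ M :=
  C.meet_aux _ U hU hq hr rfl

theorem theta_le_of_meets {b : G} (hb : b ∈ A) (hb1 : b ≠ 1)
    (hq : Cor q M ⊓ centralizer {b} ≠ ⊥) (hr : Cor r M ⊓ centralizer {b} ≠ ⊥) : θ b ≤ M := by
  refine C.le_of_meets (theta_mem C.functor hb hb1) (fun h => hq (le_bot_iff.mp ?_))
    (fun h => hr (le_bot_iff.mp ?_))
  · exact (le_inf (inf_le_theta (C.cor_mem C.mx.mem q) hb hb1) inf_le_left).trans h.le
  · exact (le_inf (inf_le_theta (C.cor_mem C.mx.mem r) hb hb1) inf_le_left).trans h.le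

theorem exists_support : ∃ B, IsPoint p A B ∧ Cor q M ⊓ centralizer (B : Set G) ≠ ⊥ := by
  by_contra hno
  push Not at hno
  exact C.hX (le_bot_iff.mp (C.le_of_points (C.cor_mem C.mx.mem q) fun B hB => (hno B hB).le))

theorem exists_line_meeting {B : Subgroup G} (hB : IsPoint p A B) :
    ∃ b ∈ B, b ≠ 1 ∧ Cor q M ⊓ centralizer {b} ≠ ⊥ := by
  by_contra hno
  push Not at hno
  refine C.hX (le_bot_iff.mp (C.le_of_lines hB (C.cor_mem C.mx.mem q) fun b hb hb1 => ?_))
  exact (inf_le_inf_left _ (theta_le_centralizer C.functor (hB.1 hb) hb1)).trans (hno b hb hb1).le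

theorem good_of_line {B : Subgroup G} {b : G} (hb : b ∈ B) (hb1 : b ≠ 1) (hle : θ b ≤ M) :
    GoodPoint θ M B := (signalizerInf_le hb hb1).trans hle

theorem exists_bad : ∃ B, IsPoint p A B ∧ ¬ GoodPoint θ M B := by
  by_contra hno
  push Not at hno
  exact C.not_complete ⟨M, C.mx.mem, fun a ha ha1 => C.le_of_points (theta_mem C.functor ha ha1)
    fun B hB => (inf_centralizer_le_signalizerInf (theta_mem C.functor ha ha1) hB.1).trans (hno B hB)⟩

theorem D_inf_eq_bot : Cor q M ⊓ centralizer (A : Set G) = ⊥ := by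
  by_contra hne
  obtain ⟨B, hB, hbad⟩ := C.exists_bad
  obtain ⟨b, hb, hb1, hY⟩ := C.symm.exists_line_meeting hB
  refine hbad (C.good_of_line hb hb1 (C.theta_le_of_meets (hB.1 hb) hb1 (fun h => hne ?_) hY))
  exact le_bot_iff.mp ((inf_le_inf_left _
    (centralizer_le (Set.singleton_subset_iff.mpr (hB.1 hb)))).trans h.le)

/-- No line centralises both cores. -/
theorem false_of_central {c : G} (hc : c ∈ A) (hc1 : c ≠ 1) (hX : Cor q M ≤ centralizer {c})
    (hY : Cor r M ≤ centralizer {c}) : False := by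
  have := C.fact_q
  have := C.fact_r
  have hMc : M = θ c :=
    C.eq_theta_of_centralizes C.mx hc hc1 fun s hs => C.cor_le_of _ C.mx.mem hX hY hs
  have hgq := C.centralizes_gr hc hc1 (hMc ▸ C.mx) (hMc ▸ C.hX) ⟨r, C.mem_r, C.ne.symm⟩
  have hgr := C.centralizes_gr hc hc1 (hMc ▸ C.mx) (hMc ▸ C.hY) ⟨q, C.mem_q, C.ne⟩
  have hsp : ∀ {N : Subgroup G}, IsMx p A θ N → ∀ {t : ℕ} [Fact t.Prime], Cor t N ≤ gr p A θ {t} :=
    fun hN t _ => le_gr (C.cor_mem hN.mem t) (hN.dinv_cor t) fun s hs hd =>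
      dvd_of_isPGroup hs (cor_isPGroup t) hd
  refine C.not_complete ⟨M, C.mx.mem, fun a ha ha1 => ?_⟩
  obtain ⟨N, hN, haN⟩ := C.exists_mx_theta ha ha1
  rw [hMc, ← C.eq_theta_of_centralizes hN hc hc1 fun s hs =>
    C.cor_le_of _ hN.mem ((hsp hN).trans hgq) ((hsp hN).trans hgr) hs]
  exact haN

theorem support_good {B : Subgroup G} (hB : IsPoint p A B) (hs : Cor q M ⊓ centralizer (B : Set G) ≠ ⊥) :
    GoodPoint θ M B := by
  obtain ⟨b, hb, hb1, hY⟩ := C.symm.exists_line_meeting hB
  exact C.good_of_line hb hb1 (C.theta_le_of_meets (hB.1 hb) hb1 (fun h => hs (le_bot_iff.mp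
    ((inf_le_inf_left _ (centralizer_le (Set.singleton_subset_iff.mpr hb))).trans h.le))) hY)

theorem central_line_of_no_global (h : ¬ HasGlobalPart p A θ q M) :
    ∃ Bx, IsPoint p A Bx ∧ Cor q M ≤ centralizer (Bx : Set G) := by
  obtain ⟨Bx, hBx, hsx⟩ := C.exists_support
  have hin : ∀ B, IsPoint p A B → Cor q M ⊓ centralizer (B : Set G) ≠ ⊥ →
      ∀ c ∈ A, θ c ≤ M → c ∈ B := fun B hB hs c hc hle => by
    by_contra hcB
    exact h ⟨B, c, hB, hs, hc, hcB, hle⟩
  by_cases huniq : ∀ B, IsPoint p A B → Cor q M ⊓ centralizer (B : Set G) ≠ ⊥ → B = Bx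
  · refine ⟨Bx, hBx, C.le_of_points (C.cor_mem C.mx.mem q) fun B hB => ?_⟩
    by_cases hs : Cor q M ⊓ centralizer (B : Set G) = ⊥
    · rw [hs]; exact bot_le
    · rw [huniq B hB hs]; exact inf_le_right
  exfalso
  push Not at huniq
  obtain ⟨Bx', hBx', hsx', hne⟩ := huniq
  obtain ⟨By, hBy, hsy⟩ := C.symm.exists_support
  have hline : ∀ {B B' : Subgroup G}, IsPoint p A B → Cor q M ⊓ centralizer (B : Set G) ≠ ⊥ →
      IsPoint p A B' → Cor r M ⊓ centralizer (B' : Set G) ≠ ⊥ → ∃ c ∈ B, c ∈ B' ∧ c ≠ 1 ∧ θ c ≤ M := by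
    intro B B' hB hs hB' hs'
    obtain ⟨c, hc, hc', hc1⟩ := C.exists_common hB hB'
    refine ⟨c, hc, hc', hc1, C.theta_le_of_meets (hB.1 hc) hc1 (fun h => hs ?_) (fun h => hs' ?_)⟩
    · exact le_bot_iff.mp ((inf_le_inf_left _ (centralizer_le (Set.singleton_subset_iff.mpr hc))).trans h.le)
    · exact le_bot_iff.mp ((inf_le_inf_left _ (centralizer_le (Set.singleton_subset_iff.mpr hc'))).trans h.le)
  obtain ⟨z, hz, -, hz1, hzM⟩ := hline hBx hsx hBy hsy
  have hzA := hBx.1 hz
  have hall : ∀ c ∈ A, c ≠ 1 → θ c ≤ M → c ∈ zpowers z := fun c hc hc1 hle => by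
    by_contra hcz
    exact hne (C.point_unique hBx' hBx (hin Bx' hBx' hsx' z hzA hzM) hz hz1
      (hin Bx' hBx' hsx' c hc hle) (hin Bx hBx hsx c hc hle) hcz)
  refine C.false_of_central hzA hz1 (C.le_of_points (C.cor_mem C.mx.mem q) fun B hB => ?_)
    (C.le_of_points (C.cor_mem C.mx.mem r) fun B hB => ?_)
  · by_cases hs : Cor q M ⊓ centralizer (B : Set G) = ⊥
    · rw [hs]; exact bot_le
    · exact inf_le_right.trans (centralizer_le (Set.singleton_subset_iff.mpr (hin B hB hs z hzA hzM)))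
  · by_cases hs : Cor r M ⊓ centralizer (B : Set G) = ⊥
    · rw [hs]; exact bot_le
    · obtain ⟨c, hcx, hcy, hc1, hcM⟩ := hline hBx hsx hB hs
      have hz' : z ∈ zpowers c :=
        (C.zpowers_eq_of_mem hzA (hall c (hBx.1 hcx) hc1 hcM) hc1).ge (mem_zpowers z)
      exact inf_le_right.trans (centralizer_le (Set.singleton_subset_iff.mpr (zpowers_le.mpr hcy hz')))

theorem hasCentralLine_of_no_global (h : ¬ HasGlobalPart p A θ q M) {B : Subgroup G}
    (hB : IsPoint p A B) : HasCentralLine q M B := by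
  obtain ⟨Bx, hBx, hle⟩ := C.central_line_of_no_global h
  obtain ⟨x, hx, hx', hx1⟩ := C.exists_common hB hBx
  exact ⟨x, hx, hx1, hle.trans (centralizer_le (Set.singleton_subset_iff.mpr hx'))⟩

/-- The climb along a global part. -/
theorem good_of_climb {Bx : Subgroup G} {c : G} (hBx : IsPoint p A Bx)
    (hsx : Cor q M ⊓ centralizer (Bx : Set G) ≠ ⊥) (hc : c ∈ A) (hcB : c ∉ Bx) (hcM : θ c ≤ M)
    {x : G} (hx : x ∈ Bx) (hx1 : x ≠ 1)
    (hg : ∀ B, IsPoint p A B → x ∈ B → ¬ GoodPoint θ M B → ∃ g ∈ B, g ∉ zpowers x ∧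
      ∀ P ∈ signalizerFamily p A θ, IsPGroup q P → P ≤ M → ⁅P, zpowers g⁆ ≤ centralizer (Cor r M : Set G))
    {B : Subgroup G} (hB : IsPoint p A B) (hxB : x ∈ B) : GoodPoint θ M B := by
  have := C.fact_q
  by_contra hbad
  set E := Cor q M ⊓ centralizer (Bx : Set G) with hE
  have hxA := hBx.1 hx
  have hXm : Cor q M ∈ signalizerFamily p A θ := C.cor_mem C.mx.mem q
  have hEA : A ≤ normalizer (E : Set G) := C.inv_inf_centralizer (le_normalizer_of_mem hXm) hBx.1
  have hEm := mem_of_le hXm inf_le_left hEA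
  have hfixA : ∀ g ∈ A, g ∉ Bx → E ⊓ centralizer {g} = ⊥ := by
    intro g hgA hgB
    rw [← le_bot_iff, ← C.D_inf_eq_bot]
    refine le_inf (inf_le_left.trans inf_le_left) ?_
    rw [Subgroup.le_centralizer_iff]
    calc A = Bx ⊔ zpowers g := (C.sup_zpowers_eq hBx hgA hgB).symm
      _ ≤ _ := sup_le (Subgroup.le_centralizer_iff.mp (inf_le_left.trans inf_le_right))
        (zpowers_le.mpr (le_centralizer_singleton_comm.mp inf_le_right))
  have hc1 : c ≠ 1 := fun e => hcB (e ▸ one_mem _)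
  set O := Cor q (θ x) with hO
  have hθx : θ x ∈ signalizerFamily p A θ := theta_mem C.functor hxA hx1
  have hOm : O ∈ signalizerFamily p A θ := C.cor_mem hθx q
  have hEO : E ≤ O := C.part_le_cor hXm (cor_isPGroup q) hc hc1 (C.mx.le_normalizer_cor hcM q) hBx le_rfl
    hEA (hfixA c hc hcB) hx hx1 hθx le_rfl
  have hgB : ∀ B', IsPoint p A B' → x ∈ B' → ¬ GoodPoint θ M B' → ∀ g ∈ B', g ∉ zpowers x → g ∉ Bx := by
    intro B' hB' hxB' hbad' g hg hgx hgBx
    exact hbad' (C.point_unique hBx hB' hx hxB' hx1 hgBx hg hgx ▸ C.support_good hBx hsx)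
  obtain ⟨K, ⟨hKO, hKA, hKx, hKM⟩, hmax⟩ := wellFounded_gt.has_min
    {K : Subgroup G | K ≤ O ∧ A ≤ normalizer (K : Set G) ∧ θ x ≤ normalizer (K : Set G) ∧ K ≤ M}
    ⟨⊥, bot_le, fun a _ => by rw [normalizer_eq_top]; exact mem_top a,
      fun a _ => by rw [normalizer_eq_top]; exact mem_top a, bot_le⟩
  have hKm : K ∈ signalizerFamily p A θ := mem_of_le hOm hKO hKA
  have hKp : IsPGroup q K := (cor_isPGroup q).to_le hKO
  have hKg : ∀ B', IsPoint p A B' → x ∈ B' → ¬ GoodPoint θ M B' →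
      ∃ g ∈ B', g ∉ zpowers x ∧ K ≤ centralizer {g} := by
    intro B' hB' hxB' hbad'
    obtain ⟨g, hg', hgx, hP⟩ := hg B' hB' hxB' hbad'
    refine ⟨g, hg', hgx, ?_⟩
    rw [le_centralizer_singleton_iff_commutator]
    by_contra hne
    set W := ⁅K, zpowers g⁆
    have hWK : W ≤ K := commutator_le_of_le_normalizer ((zpowers_le.mpr (hB'.1 hg') : zpowers g ≤ A).trans hKA)
    have hWm : W ∈ signalizerFamily p A θ := mem_of_le hKm hWK (C.inv_commutator hKA (hB'.1 hg'))
    obtain ⟨hN, -⟩ := C.nrm_spec hWm hne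
    have hWY : W ≤ centralizer (Cor r M : Set G) := hP K hKm hKp hKM
    have hYN : Cor r M ≤ nrm p A θ W := le_nrm (C.cor_mem C.mx.mem r)
      ((Subgroup.le_centralizer_iff.mp hWY).trans (centralizer_le_normalizer _))
    have hTN : signalizerInf B' θ ≤ nrm p A θ W :=
      le_nrm (signalizerInf_mem C.functor hB'.1 (C.point_ne_bot hB'))
        (FixedPointFree.le_normalizer_commutator' ((signalizerInf_le hxB' hx1).trans hKx)
          (((signalizerInf_le_centralizer C.functor hB'.1).trans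
            (centralizer_le (zpowers_le.mpr hg'))).trans (centralizer_le_normalizer _)))
    have hfp := not_centralizer_eq_bot (hKp.to_le hWK) (cor_isPGroup q) C.hX
      (C.mx.le_normalizer_cor (hWK.trans hKM) q)
    have hXN : Cor q M ⊓ centralizer (W : Set G) ≤ nrm p A θ W := le_nrm
      (mem_of_le hXm inf_le_left (le_normalizer_inf (le_normalizer_of_mem hXm)
        (Coprime.le_normalizer_centralizer (le_normalizer_of_mem hWm))))
      (inf_le_right.trans (centralizer_le_normalizer _))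
    exact hbad' (hTN.trans (C.le_of_meets hN
      (fun h => hfp (le_bot_iff.mp ((le_inf hXN inf_le_left).trans h.le)))
      (fun h => C.hY (le_bot_iff.mp ((le_inf hYN le_rfl).trans h.le)))))
  -- the next term of the central series
  have hOn : O ≤ normalizer (K : Set G) := (cor_le q).trans hKx
  let Z : Subgroup G :=
    { carrier := {z | z ∈ O ∧ ∀ o ∈ O, ⁅z, o⁆ ∈ K}
      one_mem' := ⟨one_mem _, fun o _ => by simp [commutatorElement_def]⟩
      mul_mem' := by
        rintro a b ⟨ha, ha'⟩ ⟨hb, hb'⟩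
        refine ⟨O.mul_mem ha hb, fun o ho => ?_⟩
        have : ⁅a * b, o⁆ = a * ⁅b, o⁆ * a⁻¹ * ⁅a, o⁆ := by simp only [commutatorElement_def]; group
        rw [this]
        exact K.mul_mem ((mem_normalizer_iff.mp (hOn ha) _).mp (hb' o ho)) (ha' o ho)
      inv_mem' := by
        rintro a ⟨ha, ha'⟩
        refine ⟨O.inv_mem ha, fun o ho => ?_⟩
        have : ⁅a⁻¹, o⁆ = a⁻¹ * ⁅a, o⁆⁻¹ * a⁻¹⁻¹ := by simp only [commutatorElement_def]; group
        rw [this]
        exact (mem_normalizer_iff.mp (hOn (O.inv_mem ha)) _).mp (K.inv_mem (ha' o ho)) }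
  have hZn : ∀ g, g ∈ normalizer (O : Set G) → g ∈ normalizer (K : Set G) → ∀ z ∈ Z, g * z * g⁻¹ ∈ Z := by
    intro g hgO hgK z hz
    refine ⟨(mem_normalizer_iff.mp hgO z).mp hz.1, fun o ho => ?_⟩
    have ho' : g⁻¹ * o * g ∈ O := by
      have := (mem_normalizer_iff.mp ((normalizer (O : Set G)).inv_mem hgO) o).mp ho
      simpa using this
    have := (mem_normalizer_iff.mp hgK _).mp (hz.2 _ ho')
    convert this using 1
    simp only [commutatorElement_def]; group
  have hZnorm : ∀ g, g ∈ normalizer (O : Set G) → g ∈ normalizer (K : Set G) → g ∈ normalizer (Z : Set G) := by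
    intro g hgO hgK
    rw [mem_normalizer_iff]
    refine fun z => ⟨hZn g hgO hgK z, fun hz => ?_⟩
    have := hZn g⁻¹ (inv_mem hgO) (inv_mem hgK) _ hz
    simpa [mul_assoc] using this
  have hZO : Z ≤ O := fun z hz => hz.1
  have hKZ : K ≤ Z := fun z hz => ⟨hKO hz, fun o ho => by
    rw [commutatorElement_def, mul_assoc z, mul_assoc z]
    exact K.mul_mem hz ((mem_normalizer_iff.mp (hOn ho) _).mp (K.inv_mem hz))⟩
  have hZA : A ≤ normalizer (Z : Set G) := fun a ha => hZnorm a (le_normalizer_of_mem hOm ha) (hKA ha)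
  have hZx : θ x ≤ normalizer (Z : Set G) := fun a ha =>
    hZnorm a (normalizer_le_cor q (Subgroup.le_normalizer ha)) (hKx ha)
  have hKO' : K ≠ O := by
    rintro rfl
    obtain ⟨g, hg', hgx, hKg'⟩ := hKg B hB hxB hbad
    exact hsx (le_bot_iff.mp ((le_inf le_rfl (hEO.trans hKg')).trans
      (hfixA g (hB.1 hg') (hgB B hB hxB hbad g hg' hgx)).le))
  have hlt : K < Z := by
    refine lt_of_le_of_ne hKZ fun he => hKO' ?_
    have hn' : (K.subgroupOf O).Normal := normal_subgroupOf_of_le_normalizer hOn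
    by_contra hne
    have : Nontrivial (O ⧸ K.subgroupOf O) := QuotientGroup.nontrivial_iff.mpr fun ht =>
      hne (le_antisymm hKO (subgroupOf_eq_top.mp ht))
    have hcn := ((cor_isPGroup q : IsPGroup q O).to_quotient (K.subgroupOf O)).center_nontrivial
    obtain ⟨⟨z, hz⟩, hz1⟩ := exists_ne (1 : Subgroup.center (O ⧸ K.subgroupOf O))
    obtain ⟨w, rfl⟩ := QuotientGroup.mk_surjective z
    apply hz1
    refine Subtype.ext ((QuotientGroup.eq_one_iff w).mpr ?_)
    rw [mem_subgroupOf, he]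
    refine ⟨w.2, fun o ho => ?_⟩
    have h1 : ((⁅w, (⟨o, ho⟩ : O)⁆ : O) : O ⧸ K.subgroupOf O) = 1 := by
      rw [← QuotientGroup.mk'_apply, map_commutatorElement, commutatorElement_eq_one_iff_mul_comm]
      exact (Subgroup.mem_center_iff.mp hz _).symm
    exact (QuotientGroup.eq_one_iff (N := K.subgroupOf O) ⁅w, (⟨o, ho⟩ : O)⁆).mp h1
  refine hmax Z ⟨hZO, hZA, hZx, C.le_of_points (mem_of_le hOm hZO hZA) fun B' hB' => ?_⟩ hlt
  by_cases hgood : GoodPoint θ M B'
  · exact (inf_centralizer_le_signalizerInf (mem_of_le hOm hZO hZA) hB'.1).trans hgood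
  set P := Z ⊓ centralizer (B' : Set G)
  have hPA : A ≤ normalizer (P : Set G) := C.inv_inf_centralizer hZA hB'.1
  have hPm : P ∈ signalizerFamily p A θ := mem_of_le hOm (inf_le_left.trans hZO) hPA
  by_cases hxB' : x ∈ B'
  · obtain ⟨g, hg', hgx, hKg'⟩ := hKg B' hB' hxB' hgood
    have hEg : ⁅E, zpowers g⁆ = E :=
      C.commutator_eq_self hEm (hB'.1 hg') (hfixA g (hB'.1 hg') (hgB B' hB' hxB' hgood g hg' hgx))
    have hPg : P ≤ centralizer (zpowers g : Set G) :=
      inf_le_right.trans (centralizer_le (zpowers_le.mpr hg'))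
    have hPE : ⁅P, E⁆ ≤ K := by
      rw [commutator_le]
      exact fun z hz e he => hz.1.2 e (hEO he)
    have h1 : ⁅⁅zpowers g, P⁆, E⁆ = ⊥ := by
      rw [commutator_eq_bot_iff_le_centralizer.mpr (Subgroup.le_centralizer_iff.mp hPg), commutator_bot_left]
    have h2 : ⁅⁅P, E⁆, zpowers g⁆ = ⊥ :=
      le_bot_iff.mp ((commutator_mono hPE le_rfl).trans (le_centralizer_singleton_iff_commutator.mp hKg').le)
    have h3 := Subgroup.commutator_commutator_eq_bot_of_rotate h1 h2
    rw [hEg, commutator_comm, commutator_eq_bot_iff_le_centralizer] at h3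
    obtain ⟨hN, -⟩ := C.nrm_spec hEm hsx
    refine (le_nrm hPm (h3.trans (centralizer_le_normalizer _))).trans (C.le_of_meets hN
      (fun h => hsx (le_bot_iff.mp ((le_inf (le_nrm hEm Subgroup.le_normalizer) inf_le_left).trans h.le)))
      (fun h => C.hY (le_bot_iff.mp (le_trans (le_inf (le_nrm (C.cor_mem C.mx.mem r)
        (((Subgroup.le_centralizer_iff.mp C.cor_commute').trans
          (centralizer_le (inf_le_left : E ≤ Cor q M))).trans (centralizer_le_normalizer _))) le_rfl) h.le))))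
  · have h4 : P ≤ signalizerInf A θ := by
      refine le_trans (le_inf le_rfl ?_) (inf_centralizer_A_le hPm)
      rw [Subgroup.le_centralizer_iff, ← C.sup_zpowers_eq hB' hxA hxB']
      exact sup_le (Subgroup.le_centralizer_iff.mp inf_le_right) (zpowers_le.mpr
        (le_centralizer_singleton_comm.mp ((inf_le_left.trans (hZO.trans (cor_le q))).trans
          (theta_le_centralizer C.functor hxA hx1))))
    exact h4.trans C.mx.D_le

/-- For odd `q` every bad point has a line centralising `O_q(M)`. -/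
theorem hasCentralLine_of_odd (hq2 : q ≠ 2) {B : Subgroup G} (hB : IsPoint p A B)
    (hbad : ¬ GoodPoint θ M B) : HasCentralLine q M B := by
  have := C.fact_q
  have := C.fact_r
  by_cases hglob : HasGlobalPart p A θ q M
  · obtain ⟨Bx, c, hBx, hsx, hc, hcB, hcM⟩ := hglob
    obtain ⟨x, hx, hxB, hx1⟩ := C.exists_common hBx hB
    refine ⟨x, hxB, hx1, ?_⟩
    by_contra hnx
    refine hbad (C.good_of_climb hBx hsx hc hcB hcM hx hx1 (fun B' hB' hxB' hbad' => ?_) hB hxB)
    obtain ⟨g, hg, hgx, hgY⟩ : ∃ g ∈ B', g ∉ zpowers x ∧ Cor r M ⊓ centralizer {g} = ⊥ := by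
      by_contra hno
      push Not at hno
      refine hnx (C.le_of_lines hB' (C.cor_mem C.mx.mem q) fun b hb hb1 => ?_)
      by_cases hbx : b ∈ zpowers x
      · rw [C.theta_eq_of_zpowers (hBx.1 hx) hx1 hbx hb1]
        exact inf_le_right.trans (theta_le_centralizer C.functor (hBx.1 hx) hx1)
      · refine le_trans ?_ bot_le
        refine le_of_eq (le_bot_iff.mp ?_)
        by_contra hbot
        refine hbad' (C.good_of_line hb hb1 (C.theta_le_of_meets (hB'.1 hb) hb1 (fun h => hbot ?_)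
          (hno b hb hbx)))
        exact (inf_le_inf_left _ (theta_le_centralizer C.functor (hB'.1 hb) hb1)).trans h.le
    refine ⟨g, hg, hgx, fun P hP hPq hPM => ?_⟩
    have hgA := hB'.1 hg
    set Y := Cor r M
    have hYm : Y ∈ signalizerFamily p A θ := C.cor_mem C.mx.mem r
    have hPY : P ≤ normalizer (Y : Set G) := C.mx.le_normalizer_cor hPM r
    have hK : Y ⊔ P ∈ signalizerFamily p A θ := sup_mem C.ea hYm hP hPY
    have hle : ⁅P, zpowers g⁆ ≤ Cor q (Y ⊔ P) :=
      commutator_le_cor_of_odd (p := p) hK.1 (C.coprime_card hK) hq2 (C.prime_ne C.mx.mem C.hX)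
        (C.ea.2 g hgA) (le_normalizer_of_mem hK hgA) le_sup_right hPq (le_normalizer_of_mem hP hgA) (by
          rintro z ⟨hz, hzg⟩
          obtain ⟨y, hy, w, hw, rfl⟩ := (mem_sup_of_le_normalizer hPY).mp hz
          have hcz : y * w ∈ centralizer (zpowers g : Set G) := by
            rwa [FixedPointFree.centralizer_zpowers]
          have hYP : Y ⊓ P = ⊥ :=
            Coprime.inf_eq_bot_of_coprime (coprime_of_isPGroup C.ne.symm (cor_isPGroup r) hPq)
          obtain ⟨y', hy', w', hw', e⟩ := exists_fixed_mul (A := zpowers g)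
            (Group.isSolvable_of_comm fun a b => mul_comm' a b)
            ((zpowers_le.mpr hgA : zpowers g ≤ A).trans (le_normalizer_of_mem hYm))
            ((zpowers_le.mpr hgA : zpowers g ≤ A).trans (le_normalizer_of_mem hP))
            (by rw [hYP, Subgroup.card_bot]; exact Nat.coprime_one_right _) hy hw hcz
          rw [← e]
          have h1 : y' ∈ Y ⊓ centralizer {g} := ⟨hy'.1, by
            have := hy'.2; rwa [FixedPointFree.centralizer_zpowers] at this⟩
          rw [hgY, mem_bot] at h1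
          rw [h1, one_mul]
          exact Subgroup.le_normalizer hw'.1)
    intro z hz
    have hYr : Y ≤ Cor r (Y ⊔ P) := le_cor le_sup_left (sup_le Subgroup.le_normalizer hPY) (cor_isPGroup r)
    exact mem_centralizer_iff.mpr fun y hy => (cor_commute C.ne z (hle hz) y (hYr hy)).eq.symm
  · exact C.hasCentralLine_of_no_global hglob hB

/-- A global part on one side and central lines on the other leave no bad point. -/
theorem false_of_global (hglob : HasGlobalPart p A θ q M)
    (hcen : ∀ B, IsPoint p A B → ¬ GoodPoint θ M B → HasCentralLine r M B) : False := by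
  obtain ⟨B, hB, hbad⟩ := C.exists_bad
  obtain ⟨Bx, c, hBx, hsx, hc, hcB, hcM⟩ := hglob
  obtain ⟨x, hx, hxB, hx1⟩ := C.exists_common hBx hB
  refine hbad (C.good_of_climb hBx hsx hc hcB hcM hx hx1 (fun B' hB' hxB' hbad' => ?_) hB hxB)
  obtain ⟨g, hg, hg1, hgY⟩ := hcen B' hB' hbad'
  refine ⟨g, hg, fun hgx => hbad' (C.good_of_line hxB' hx1 ?_),
    fun P _ _ hPM => commutator_le_centralizer (C.mx.le_normalizer_cor hPM r) hgY⟩
  refine C.theta_le_of_meets (hBx.1 hx) hx1 (fun h => hsx (le_bot_iff.mp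
    ((inf_le_inf_left _ (centralizer_le (Set.singleton_subset_iff.mpr hx))).trans h.le))) fun h => C.hY ?_
  rw [← le_bot_iff]
  refine le_trans (le_inf le_rfl ?_) h.le
  refine hgY.trans ?_
  rw [← FixedPointFree.centralizer_zpowers g, ← FixedPointFree.centralizer_zpowers x,
    C.zpowers_eq_of_mem (hBx.1 hx) hgx hg1]

theorem false_of_odd (hq2 : q ≠ 2) : False := by
  have hcx : ∀ B, IsPoint p A B → ¬ GoodPoint θ M B → HasCentralLine q M B :=
    fun B hB hbad => C.hasCentralLine_of_odd hq2 hB hbad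
  by_cases hY : HasGlobalPart p A θ r M
  · exact C.symm.false_of_global hY hcx
  by_cases hX : HasGlobalPart p A θ q M
  · exact C.false_of_global hX fun B hB _ => C.symm.hasCentralLine_of_no_global hY hB
  obtain ⟨Bx, hBx, hlx⟩ := C.central_line_of_no_global hX
  obtain ⟨By, hBy, hly⟩ := C.symm.central_line_of_no_global hY
  obtain ⟨z, hz, hz', hz1⟩ := C.exists_common hBx hBy
  exact C.false_of_central (hBx.1 hz) hz1 (hlx.trans (centralizer_le (Set.singleton_subset_iff.mpr hz)))
    (hly.trans (centralizer_le (Set.singleton_subset_iff.mpr hz')))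

theorem false : False := by
  by_cases hq : q = 2
  · exact C.symm.false_of_odd (hq ▸ C.ne.symm)
  · exact C.false_of_odd hq

end Ctx2M

end Cfsg.Agent.Signalizer
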