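import Cfsg.Agent.Signalizer.TwoMixed
import Cfsg.Agent.Signalizer.Offend
import Cfsg.Agent.Fusion.SolvablePSolvable

/-!
The solvable signalizer functor theorem with two primes and no mixed maximal member: the meet of
the cores of one of the primes.
-/

set_option autoImplicit false
set_option linter.unusedSectionVars false

open Subgroup
open scoped Pointwise commutatorElement

namespace Cfsg.Agent.Signalizer

open Cfsg Cfsg.Agent.Coprime Cfsg.Agent.AbCentFpf

universe u

variable {G : Type u} [Group G] [Finite G] {p : ℕ} [Fact p.Prime] {A : Subgroup G} {θ : G → Subgroup G}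

/-- A minimal counterexample with two primes, no mixed maximal member and a chosen prime. -/
structure Ctx2P (p : ℕ) (A : Subgroup G) (θ : G → Subgroup G) (q r : ℕ) : Prop
    extends Ctx2 p A θ q r where
  pure : ∀ M, IsMx p A θ M → Cor q M = ⊥ ∨ Cor r M = ⊥
  lineq : ∀ B, IsPoint p A B → ∃ c ∈ B, c ≠ 1 ∧ IsLineOf p A θ q c
  rule : q ≠ 2 ∨ ∃ B₀, IsPoint p A B₀ ∧ ∀ c ∈ B₀, c ≠ 1 → ¬ IsLineOf p A θ r c

theorem le_normalizer_closure_of_conj {R : Subgroup G} {s : Set G}
    (h : ∀ x ∈ R, ∀ y ∈ s, x * y * x⁻¹ ∈ s) : R ≤ normalizer (closure s : Set G) := by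
  rw [le_normalizer_iff_conj]
  intro x hx y hy
  have hle : closure s ≤ (closure s).comap (MulAut.conj x).toMonoidHom :=
    (closure_le _).mpr fun z hz => subset_closure (h x hx z hz)
  exact hle hy

/-- The central elements of order `q` of the conjugates of `S` under `θ(A)`. -/
def zclos (q : ℕ) (A : Subgroup G) (θ : G → Subgroup G) (S : Subgroup G) : Subgroup G :=
  closure {y : G | y ^ q = 1 ∧ ∃ d ∈ signalizerInf A θ,
    y ∈ MulAut.conj d • S ⊓ centralizer ((MulAut.conj d • S : Subgroup G) : Set G)}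

/-- The meet of the nontrivial `q`-cores of maximal members. -/
noncomputable def qcap (p : ℕ) (A : Subgroup G) (θ : G → Subgroup G) (q : ℕ) : Subgroup G :=
  ⨅ M : {M : Subgroup G // IsMx p A θ M ∧ Cor q M ≠ ⊥}, Cor q (M : Subgroup G)

theorem qcap_le {q : ℕ} {M : Subgroup G} (hM : IsMx p A θ M) (hX : Cor q M ≠ ⊥) :
    qcap p A θ q ≤ Cor q M :=
  iInf_le (fun M : {M : Subgroup G // IsMx p A θ M ∧ Cor q M ≠ ⊥} => Cor q (M : Subgroup G)) ⟨M, hM, hX⟩

theorem le_qcap {q : ℕ} {P : Subgroup G}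
    (h : ∀ M, IsMx p A θ M → Cor q M ≠ ⊥ → P ≤ Cor q M) : P ≤ qcap p A θ q :=
  le_iInf fun M => h M M.2.1 M.2.2

theorem le_normalizer_qcap {q : ℕ} {V : Subgroup G}
    (h : ∀ M, IsMx p A θ M → Cor q M ≠ ⊥ → V ≤ normalizer (Cor q M : Set G)) :
    V ≤ normalizer (qcap p A θ q : Set G) := by
  rw [le_normalizer_iff_conj]
  intro b hb x hx
  rw [qcap, mem_iInf] at hx ⊢
  exact fun M => (mem_normalizer_iff.mp (h M M.2.1 M.2.2 hb) x).mp (hx M)

namespace Ctx2P

variable {q r : ℕ} (C : Ctx2P p A θ q r)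
include C

theorem isPure {M : Subgroup G} (hM : IsMx p A θ M) (hX : Cor q M ≠ ⊥) : IsPure q M := by
  intro s hs hsq
  by_contra hne
  rcases C.eq_or_eq hM.mem hs hne with rfl | rfl
  · exact hsq rfl
  · exact hne ((C.pure M hM).resolve_left hX)

theorem exists_mx : ∃ M, IsMx p A θ M ∧ Cor q M ≠ ⊥ := by
  obtain ⟨a, ha, -⟩ := C.exists_ne_one
  obtain ⟨B, hB, -⟩ := C.exists_point_mem ha
  obtain ⟨c, -, -, M, hM, -, hX⟩ := C.lineq B hB
  exact ⟨M, hM, hX⟩

theorem gr_q : gr p A θ {q} ∈ signalizerFamily p A θ ∧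
    signalizerInf A θ ≤ normalizer (gr p A θ {q} : Set G) ∧ IsPGroup q (gr p A θ {q}) := by
  have := C.fact_q
  obtain ⟨hS, hD, hSq⟩ := C.gr_spec (π := {q}) ⟨r, C.mem_r, fun h => C.ne h.symm⟩
  exact ⟨hS, hD, IsPGroup.of_card (n := (Nat.card (gr p A θ {q})).primeFactorsList.length)
    (Nat.eq_prime_pow_of_unique_prime_dvd Nat.card_pos.ne' fun hd hdd => hSq _ hd hdd)⟩

theorem le_gr_q {P : Subgroup G} (hP : P ∈ signalizerFamily p A θ)
    (hD : signalizerInf A θ ≤ normalizer (P : Set G)) (hq : IsPGroup q P) : P ≤ gr p A θ {q} := by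
  have := C.fact_q
  refine le_gr hP hD fun s hs hd => ?_
  obtain ⟨n, hn⟩ := IsPGroup.iff_card.mp hq
  rw [hn] at hd
  exact (Nat.prime_dvd_prime_iff_eq hs Fact.out).mp (hs.dvd_of_dvd_pow hd)

theorem cor_le_gr {M : Subgroup G} (hM : IsMx p A θ M) : Cor q M ≤ gr p A θ {q} :=
  C.le_gr_q (C.cor_mem hM.mem q) (hM.dinv_cor q) (cor_isPGroup q)

theorem mem_cor {M : Subgroup G} (hM : IsMx p A θ M) (hX : Cor q M ≠ ⊥) {x : G} (hxM : x ∈ M)
    (hc : x ∈ centralizer (Cor q M : Set G)) : x ∈ Cor q M := by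
  have hF : Ftg M ≤ Cor q M := ftg_le_of_cor fun s hs => by
    rcases eq_or_ne s q with rfl | hsq
    · exact le_rfl
    · rw [C.isPure hM hX s hs hsq]; exact bot_le
  exact hF (centralizer_ftg_le hM.mem.1 hxM fun y hy => mem_centralizer_iff.mp hc y (hF hy))

theorem zclos_facts {S : Subgroup G} (hS : IsMaxQMember p A θ q S) (hgr : gr p A θ {q} ≤ S) :
    A ≤ normalizer (zclos q A θ S : Set G) ∧
      signalizerInf A θ ≤ normalizer (zclos q A θ S : Set G) ∧ zclos q A θ S ≠ ⊥ ∧
      ∀ M, IsMx p A θ M → Cor q M ≠ ⊥ → ∀ d ∈ signalizerInf A θ,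
        MulAut.conj d • S ⊓ centralizer ((MulAut.conj d • S : Subgroup G) : Set G) ≤ Cor q M := by
  have := C.fact_q
  set D := signalizerInf A θ
  have hconj : ∀ x d w : G, w ∈ MulAut.conj (x * d) • S → x⁻¹ * w * x ∈ MulAut.conj d • S := by
    intro x d w hw
    rw [mem_conj_smul] at hw ⊢
    simpa [mul_assoc] using hw
  refine ⟨le_normalizer_closure_of_conj ?_, le_normalizer_closure_of_conj ?_, ?_, ?_⟩
  · rintro a ha y ⟨hy, d, hd, hy1, hy2⟩
    have hn := le_normalizer_of_mem (hS.conj C.functor hd).mem ha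
    refine ⟨by rw [conj_pow, hy, mul_one, mul_inv_cancel], d, hd, (mem_normalizer_iff.mp hn y).mp hy1,
      mem_centralizer_iff.mpr fun w hw => ?_⟩
    have h1 := (mem_normalizer_iff''.mp hn w).mp hw
    have h2 := congrArg (fun t => a * t * a⁻¹) (mem_centralizer_iff.mp hy2 _ h1)
    simpa [mul_assoc] using h2
  · rintro x hx y ⟨hy, d, hd, hy1, hy2⟩
    refine ⟨by rw [conj_pow, hy, mul_one, mul_inv_cancel], x * d, mul_mem hx hd, ?_,
      mem_centralizer_iff.mpr fun w hw => ?_⟩
    · rw [conj_mul_smul]; exact conj_mem_conj_smul hy1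
    · have h2 := congrArg (fun t => x * t * x⁻¹) (mem_centralizer_iff.mp hy2 _ (hconj x d w hw))
      simpa [mul_assoc] using h2
  · intro hbot
    obtain ⟨M, hM, hX⟩ := C.exists_mx
    have hS1 : S ≠ ⊥ := fun h => hX (le_bot_iff.mp (((C.cor_le_gr hM).trans hgr).trans h.le))
    have hZ := not_centralizer_eq_bot hS.isPGroup hS.isPGroup hS1 Subgroup.le_normalizer
    have hd : q ∣ Nat.card (S ⊓ centralizer (S : Set G) : Subgroup G) := by
      obtain ⟨n, hn⟩ := IsPGroup.iff_card.mp
        (hS.isPGroup.to_le (inf_le_left : S ⊓ centralizer (S : Set G) ≤ S))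
      rcases Nat.eq_zero_or_pos n with rfl | hn0
      · exact absurd (Subgroup.card_eq_one.mp (by rwa [pow_zero] at hn)) hZ
      · exact hn ▸ dvd_pow_self q hn0.ne'
    obtain ⟨z, hz⟩ := exists_prime_orderOf_dvd_card' q hd
    have hzmem : (z : G) ∈ zclos q A θ S := subset_closure ⟨by
      rw [← orderOf_dvd_iff_pow_eq_one, orderOf_coe, hz], 1, one_mem _, by
      rw [map_one, one_smul]; exact z.2⟩
    rw [hbot, mem_bot] at hzmem
    have h1 : orderOf z = 1 := by rw [← orderOf_coe, hzmem, orderOf_one]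
    exact (Fact.out : q.Prime).ne_one (hz.symm.trans h1)
  · intro M hM hX d hd
    have hS' := hS.conj C.functor hd
    set S' := MulAut.conj d • S
    have hgr' : gr p A θ {q} ≤ S' := by
      rw [← conj_smul_eq_self_of_mem_normalizer (C.gr_q.2.1 hd)]
      exact Subgroup.pointwise_smul_le_pointwise_smul_iff.mpr hgr
    have hXS : Cor q M ≤ S' := (C.cor_le_gr hM).trans hgr'
    have hm : S' ⊓ centralizer (S' : Set G) ∈ signalizerFamily p A θ := mem_of_le hS'.mem inf_le_left
      (le_normalizer_inf (le_normalizer_of_mem hS'.mem)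
        (Coprime.le_normalizer_centralizer (le_normalizer_of_mem hS'.mem)))
    have hc : S' ⊓ centralizer (S' : Set G) ≤ centralizer (Cor q M : Set G) :=
      inf_le_right.trans (centralizer_le hXS)
    exact fun x hx => C.mem_cor hM hX (C.le_of_centralizes_cor hM hX hm hc hx) (hc hx)

theorem core_le {S L : Subgroup G} (hS : IsMaxQMember p A θ q S) (hgr : gr p A θ {q} ≤ S)
    (hL : IsMx p A θ L) (hgrL : gr p A θ {q} ≤ L) (hnrm : nrm p A θ (zclos q A θ S) ≤ L)
    {M : Subgroup G} (hM : IsMx p A θ M) (hX : Cor q M ≠ ⊥) : Cor q L ≤ M := by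
  have := C.fact_q
  have : Group.IsSolvable M := hM.mem.1
  obtain ⟨-, -, -, hZX⟩ := C.zclos_facts hS hgr
  set X := Cor q M
  set W := Cor q L
  set D := signalizerInf A θ
  have hXW : X ≤ normalizer (W : Set G) := hL.le_normalizer_cor ((C.cor_le_gr hM).trans hgrL) q
  -- the module
  have hsep : Cfsg.IsPSolvable q M := Fusion.isPSolvable_of_isSolvable M
  have hO : Cfsg.pPrimeCore q M = ⊥ := by
    set K := (Cfsg.pPrimeCore q M).map M.subtype with hK
    have hcop : (Nat.card K).Coprime (Nat.card X) := by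
      obtain ⟨n, hn⟩ := IsPGroup.iff_card.mp (cor_isPGroup q : IsPGroup q X)
      rw [hn, hK, card_map_of_injective M.subtype_injective]
      exact Core.coprime_card_pPrimeCore.pow_right n
    have hd : K ⊓ X = ⊥ := Coprime.inf_eq_bot_of_coprime hcop
    have hKM : K ≤ M := map_subtype_le _
    have hMK : M ≤ normalizer (K : Set G) := by
      refine le_trans ?_ (le_normalizer_map M.subtype)
      rw [normalizer_eq_top, ← MonoidHom.range_eq_map, range_subtype]
    have hc : K ≤ centralizer (X : Set G) := by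
      rw [← commutator_eq_bot_iff_le_centralizer, eq_bot_iff, ← hd]
      refine le_inf (commutator_le_of_le_normalizer ((cor_le q).trans hMK)) ?_
      rw [commutator_comm]
      exact commutator_le_of_le_normalizer (hM.le_normalizer_cor hKM q)
    have hKX : K ≤ X := fun x hx => C.mem_cor hM hX (hKM hx) (hc hx)
    rw [inf_eq_left.mpr hKX] at hd
    exact (map_eq_bot_iff_of_injective _ M.subtype_injective).mp hd
  set V := ⨆ T : Sylow q M, Cfsg.omegaOne q ((T : Subgroup M) ⊓
    centralizer ((T : Subgroup M) : Set M)) with hV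
  have : V.Characteristic := Offender.omegaClosure_characteristic ↥M
  obtain ⟨hVea, hD⟩ := Offender.omegaClosure_setting hsep hO V hV
  set Vg := V.map M.subtype with hVg
  have hVX : Vg ≤ X ∧ Vg ≤ centralizer (X : Set G) := by
    have key : ∀ T : Sylow q M, Cfsg.omegaOne q ((T : Subgroup M) ⊓
        centralizer ((T : Subgroup M) : Set M)) ≤ (X ⊓ centralizer (X : Set G)).comap M.subtype := by
      refine fun T => (closure_le _).mpr ?_
      rintro z ⟨⟨-, hz⟩, -⟩
      have hc : (z : G) ∈ centralizer (X : Set G) := by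
        rw [mem_centralizer_iff]
        rintro _ ⟨x, hx, rfl⟩
        exact congrArg Subtype.val (mem_centralizer_iff.mp hz x (Core.pCore_le_sylow T hx))
      exact ⟨C.mem_cor hM hX z.2 hc, hc⟩
    have h1 : Vg ≤ X ⊓ centralizer (X : Set G) := map_le_iff_le_comap.mpr (iSup_le key)
    exact ⟨h1.trans inf_le_left, h1.trans inf_le_right⟩
  have hZV : zclos q A θ S ≤ Vg := by
    refine (closure_le _).mpr ?_
    rintro y ⟨hy, d, hd, hy1, hy2⟩
    obtain ⟨c, hc, T₀, hT₀⟩ := exists_sylow_eq_conj_inf C.ea C.le3 C.functor hS hM.mem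
    have hdc : d * c⁻¹ ∈ M := hM.D_le (mul_mem hd (inv_mem hc))
    have hyM : y ∈ M := cor_le q (hZX M hM hX d hd ⟨hy1, hy2⟩)
    set T : Sylow q M := (⟨d * c⁻¹, hdc⟩ : M) • T₀ with hT
    have hTeq : (T : Subgroup M).map M.subtype = MulAut.conj d • S ⊓ M := by
      rw [hT, Sylow.coe_subgroup_smul, conj_smul_map_subtype, hT₀]
      show MulAut.conj (d * c⁻¹) • (MulAut.conj c • S ⊓ M) = _
      rw [Subgroup.smul_inf, ← conj_mul_smul, inv_mul_cancel_right,
        conj_smul_eq_self_of_mem_normalizer (Subgroup.le_normalizer hdc)]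
    refine ⟨⟨y, hyM⟩, le_iSup (fun T : Sylow q M => Cfsg.omegaOne q ((T : Subgroup M) ⊓
      centralizer ((T : Subgroup M) : Set M))) T (subset_closure ⟨⟨?_, ?_⟩, Subtype.ext hy⟩), rfl⟩
    · obtain ⟨v, hv, e⟩ := hTeq.ge ⟨hy1, hyM⟩
      exact (Subtype.ext e : v = ⟨y, hyM⟩) ▸ hv
    · refine mem_centralizer_iff.mpr fun v hv => Subtype.ext ?_
      exact mem_centralizer_iff.mp hy2 v (hTeq.le (mem_map_of_mem _ hv)).1
  -- the invariant `q`-group
  set R := W ⊓ M with hR
  have hRX : R ≤ normalizer (X : Set G) := hM.le_normalizer_cor inf_le_right q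
  set P := X ⊔ R with hP
  have hPq : IsPGroup q P :=
    (cor_isPGroup q : IsPGroup q X).to_sup_of_normal_left' ((cor_isPGroup q).to_le inf_le_left) hRX
  have hPM : P ≤ M := sup_le (cor_le q) inf_le_right
  have hRA : A ≤ normalizer (R : Set G) :=
    le_normalizer_inf (le_normalizer_of_mem (C.cor_mem hL.mem q)) hM.A_le
  have hRD : D ≤ normalizer (R : Set G) :=
    le_normalizer_inf (hL.dinv_cor q) (hM.D_le.trans Subgroup.le_normalizer)
  have hPA : A ≤ normalizer (P : Set G) :=
    le_normalizer_sup (le_normalizer_of_mem (C.cor_mem hM.mem q)) hRA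
  have hPD : D ≤ normalizer (P : Set G) := le_normalizer_sup (hM.dinv_cor q) hRD
  -- the centraliser of the module
  set K := M ⊓ centralizer (Vg : Set G) with hK
  have hKA : A ≤ normalizer (K : Set G) := le_normalizer_inf hM.A_le (Coprime.le_normalizer_centralizer
    (Coprime.le_normalizer_map_of_characteristic hM.A_le V ‹_›))
  have hKL : K ≤ L := (le_nrm (mem_of_le hM.mem inf_le_left hKA)
    ((inf_le_right.trans (centralizer_le hZV)).trans (centralizer_le_normalizer _))).trans hnrm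
  have hXK : X ≤ K := le_inf (cor_le q) (Subgroup.le_centralizer_iff.mp hVX.2)
  have hMK : M ≤ normalizer (K : Set G) := by
    refine le_normalizer_inf Subgroup.le_normalizer (Coprime.le_normalizer_centralizer ?_)
    refine le_trans ?_ (le_normalizer_map M.subtype)
    rw [normalizer_eq_top, ← MonoidHom.range_eq_map, range_subtype]
  have hPK : P ⊓ K ≤ X := by
    rintro s ⟨hs, hsK⟩
    obtain ⟨x, hx, y, hy, rfl⟩ := (mem_sup_of_le_normalizer hRX).mp hs
    have hyK : y ∈ K := by
      have := K.mul_mem (K.inv_mem (hXK hx)) hsK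
      simpa using this
    have h1 : K ⊓ W ≤ Cor q K := le_cor inf_le_left
      (le_normalizer_inf Subgroup.le_normalizer (hL.le_normalizer_cor hKL q))
      ((cor_isPGroup q).to_le inf_le_right)
    have h2 : Cor q K ≤ X :=
      le_cor ((cor_le q).trans inf_le_left) (hMK.trans (normalizer_le_cor q)) (cor_isPGroup q)
    exact X.mul_mem hx (h2 (h1 ⟨hyK, hy.1⟩))
  -- the Thompson subgroups
  set P' := P.subgroupOf M with hP'
  have hVP : V ≤ P' := fun v hv => mem_sup_left (hVX.1 (mem_map_of_mem _ hv))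
  have hXP : X.subgroupOf M ≤ P' := fun v hv => mem_sup_left (show (v : G) ∈ X from hv)
  have hfix : ∀ k : M, (k : G) ∈ centralizer (A : Set G) → k ∈ normalizer (P' : Set M) := by
    intro k hk
    have hkD : (k : G) ∈ D := inf_centralizer_A_le hM.mem ⟨k.2, hk⟩
    rw [mem_normalizer_iff]
    exact fun z => mem_normalizer_iff.mp (hPD hkD) (z : G)
  have hJ : Cfsg.thompsonSubgroupOf q P' ≤ X.subgroupOf M := by
    refine Thompson.thompsonOf_le_iff.mpr fun E hEP hEe hEmax => ?_
    have h1 := maxEA_le_centralizer (p := q) (q := p) M A hM.A_le V hVea hsep hD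
      (Thompson.ea_isPGroup C.ea) hM.mem.2.1 (hPq.comap_of_injective M.subtype M.subtype_injective)
      hVP hfix ((Thompson.maxEA_subgroup_iff hEP).mpr ⟨hEe, hEmax⟩)
    replace h1 : E ≤ centralizer (V : Set M) := (map_subgroupOf_eq_of_le hEP).ge.trans h1
    intro e he
    refine hPK ⟨hEP he, e.2, mem_centralizer_iff.mpr ?_⟩
    rintro _ ⟨v, hv, rfl⟩
    exact congrArg Subtype.val (mem_centralizer_iff.mp (h1 he) v hv)
  have hJeq : Cfsg.thompsonSubgroupOf q P = Cfsg.thompsonSubgroupOf q X := by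
    have h1 := congrArg (fun U : Subgroup M => U.map M.subtype)
      (Thompson.thompsonOf_eq_of_le_of_le hXP hJ)
    simp only [Thompson.thompsonOf_map_of_injective M.subtype_injective] at h1
    rw [map_subgroupOf_eq_of_le (cor_le q : X ≤ M), map_subgroupOf_eq_of_le hPM] at h1
    exact h1.symm
  set J := Cfsg.thompsonSubgroupOf q X with hJdef
  have hJm : J ∈ signalizerFamily p A θ := mem_of_le (C.cor_mem hM.mem q) (Thompson.thompsonOf_le q X)
    ((le_normalizer_of_mem (C.cor_mem hM.mem q)).trans (Thompson.normalizer_le_normalizer_thompsonOf X))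
  have hJ1 : J ≠ ⊥ := by
    intro hb
    have hd : q ∣ Nat.card X := by
      obtain ⟨n, hn⟩ := IsPGroup.iff_card.mp (cor_isPGroup q : IsPGroup q X)
      rcases Nat.eq_zero_or_pos n with rfl | hn0
      · exact absurd (Subgroup.card_eq_one.mp (by rwa [pow_zero] at hn)) hX
      · exact hn ▸ dvd_pow_self q hn0.ne'
    obtain ⟨z, hz⟩ := exists_prime_orderOf_dvd_card' q hd
    obtain ⟨E, hE⟩ := Thompson.exists_maxEA q ↥X
    have hEJ : E.map X.subtype ≤ J := map_mono (Thompson.le_thompson hE)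
    have h1 := hE.2 _ (Thompson.ea_zpowers (show z ^ q = 1 by
      rw [← orderOf_dvd_iff_pow_eq_one, hz]))
    rw [Nat.card_zpowers, hz] at h1
    rw [hb, le_bot_iff, map_eq_bot_iff_of_injective _ X.subtype_injective] at hEJ
    rw [hEJ, Subgroup.card_bot] at h1
    exact absurd h1 (by have := (Fact.out : q.Prime).two_le; omega)
  -- growing the normaliser
  have hle : W ≤ P := by
    refine le_of_normalizer_inf_le (cor_isPGroup q) hPq
      (sup_le hXW (inf_le_left.trans Subgroup.le_normalizer)) ?_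
    refine le_trans ?_ (le_sup_right : R ≤ P)
    refine le_inf inf_le_left ?_
    refine le_trans ?_ (C.le_of_normalizes hM hJm hJ1
      ((Subgroup.le_normalizer.trans (normalizer_le_cor q)).trans
        (Thompson.normalizer_le_normalizer_thompsonOf X))
      (mem_of_le (C.cor_mem hL.mem q) (inf_le_left : W ⊓ normalizer (J : Set G) ≤ W)
        (le_normalizer_inf (le_normalizer_of_mem (C.cor_mem hL.mem q))
          ((le_normalizer_of_mem hJm).trans Subgroup.le_normalizer))) inf_le_right)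
    refine inf_le_inf_left _ ?_
    rw [← hJeq]
    exact Thompson.normalizer_le_normalizer_thompsonOf P
  exact hle.trans hPM

theorem qcap_mem : qcap p A θ q ∈ signalizerFamily p A θ := by
  obtain ⟨M, hM, hX⟩ := C.exists_mx
  exact mem_of_le (C.cor_mem hM.mem q) (qcap_le hM hX)
    (le_normalizer_qcap fun N hN _ => le_normalizer_of_mem (C.cor_mem hN.mem q))

theorem qcap_isPGroup : IsPGroup q (qcap p A θ q) := by
  obtain ⟨M, hM, hX⟩ := C.exists_mx
  exact (cor_isPGroup q).to_le (qcap_le hM hX)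

theorem qcap_dinv : signalizerInf A θ ≤ normalizer (qcap p A θ q : Set G) :=
  le_normalizer_qcap fun _ hN _ => hN.dinv_cor q

theorem qcap_glob : Glob p A θ q (qcap p A θ q) :=
  ⟨C.qcap_mem, C.qcap_isPGroup, fun B hB => by
    obtain ⟨c, hc, hc1, M, hM, hcM, hX⟩ := C.lineq B hB
    exact ⟨c, hc, hc1, M, hM.mem, hcM, qcap_le hM hX⟩⟩

end Ctx2P

/-- The maximal members used with two primes. -/
structure Ctx2Q (p : ℕ) (A : Subgroup G) (θ : G → Subgroup G) (q r : ℕ) (L M₁ : Subgroup G) : Prop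
    extends Ctx2P p A θ q r where
  mxL : IsMx p A θ L
  gr_le_L : gr p A θ {q} ≤ L
  corL_le : ∀ M, IsMx p A θ M → Cor q M ≠ ⊥ → Cor q L ≤ M
  qcap_ne : qcap p A θ q ≠ ⊥
  mx : IsMx p A θ M₁
  nrm_le : nrm p A θ (qcap p A θ q) ≤ M₁

theorem Ctx2P.exists_ctx2Q {q r : ℕ} (C : Ctx2P p A θ q r) : ∃ L M₁, Ctx2Q p A θ q r L M₁ := by
  have := C.fact_q
  obtain ⟨hgm, hgD, hgq⟩ := C.gr_q
  obtain ⟨S, hS, hgr⟩ := exists_maxQMember_ge hgm hgq
  obtain ⟨hZA, hZD, hZ1, hZX⟩ := C.zclos_facts hS hgr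
  set Z := zclos q A θ S with hZ
  have hZle : ∀ M, IsMx p A θ M → Cor q M ≠ ⊥ → Z ≤ Cor q M := fun M hM hX =>
    (closure_le _).mpr fun y ⟨_, d, hd, hy⟩ => hZX M hM hX d hd hy
  obtain ⟨M₀, hM₀, hX₀⟩ := C.exists_mx
  have hZm : Z ∈ signalizerFamily p A θ := mem_of_le (C.cor_mem hM₀.mem q) (hZle M₀ hM₀ hX₀) hZA
  obtain ⟨hN, -⟩ := C.nrm_spec hZm hZ1
  obtain ⟨L, hL, hNL⟩ := C.exists_mx_ge hN ((le_nrm C.D_mem hZD).trans Subgroup.le_normalizer)
  have hgL : gr p A θ {q} ≤ L := by
    refine (le_nrm hgm (le_trans (fun g hg => ?_) (centralizer_le_normalizer _))).trans hNL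
    rw [mem_centralizer_iff]
    intro z hz
    have hgS : Z ≤ centralizer ({g} : Set G) := (closure_le _).mpr fun y ⟨_, d, hd, hy⟩ => by
      refine mem_centralizer_singleton_iff.mpr (mem_centralizer_iff.mp hy.2 g ?_).symm
      rw [← conj_smul_eq_self_of_mem_normalizer (hgD hd)] at hg
      exact Subgroup.pointwise_smul_le_pointwise_smul_iff.mpr hgr hg
    exact mem_centralizer_singleton_iff.mp (hgS hz)
  have hQ : qcap p A θ q ≠ ⊥ := fun h => hZ1 (le_bot_iff.mp ((le_qcap hZle).trans h.le))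
  obtain ⟨hN₁, -⟩ := C.nrm_spec C.qcap_mem hQ
  obtain ⟨M₁, hM₁, hN₁M⟩ := C.exists_mx_ge hN₁ ((le_nrm C.D_mem C.qcap_dinv).trans Subgroup.le_normalizer)
  exact ⟨L, M₁, C, hL, hgL, fun M hM hX => C.core_le hS hgr hL hgL hNL hM hX, hQ, hM₁, hN₁M⟩

end Cfsg.Agent.Signalizer
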